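import Cfsg.Agent.Lib.Chevalley.Unipotent

/-!
Unique products in `U`, its order, nilpotence, and solubility of `B`.
-/

set_option autoImplicit false

namespace CfsgLib.Chevalley.Tbl

open scoped commutatorElement

variable {T : Tbl} {F : Type*} [Field F]

/-- The ordered product over the roots `k, …, k + m - 1`. -/
noncomputable def uProd (T : Tbl) {F : Type*} [Field F] (f : ℕ → F) (k m : ℕ) : GL T.I F :=
  ((List.range' k m).map fun r => T.xU F r (f r)).prod

theorem uProd_succ (f : ℕ → F) (k m : ℕ) :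
    T.uProd f k (m + 1) = T.xU F k (f k) * T.uProd f (k + 1) m := by
  simp [uProd, List.range'_succ]

variable (hT : T.Valid)
include hT

theorem uProd_mem (f : ℕ → F) : ∀ m k, k + m = T.n →
    T.uProd f k m ∈ T.rootGen F (fun r => k ≤ r) := by
  intro m
  induction m with
  | zero => intro k _; simp [uProd]
  | succ m ih =>
    intro k hkm
    rw [uProd_succ]
    exact mul_mem (xU_mem_rootGen (P := fun r => k ≤ r) (by omega) le_rfl _)
      (rootGen_mono (fun s _ h => Nat.le_of_succ_le h) (ih (k + 1) (by omega)))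

theorem ge_n_eq_bot : T.rootGen F (fun r => T.n ≤ r) = ⊥ :=
  eq_bot_iff.mpr (rootGen_le fun r hr h => by omega)

theorem posRoots_eq : T.datum.posRoots = List.range' T.half T.half := by
  unfold Cfsg.Lie.ChevalleyDatum.posRoots
  have h : (List.range T.datum.nroots).filter (fun r => decide (T.datum.IsPosRoot r)) =
      (List.range T.n).filter (fun r => decide (T.half ≤ r)) := by
    refine List.filter_congr fun r hr => ?_
    rw [decide_eq_decide, isPosRoot_iff hT, isPos_iff]
    exact and_iff_right (List.mem_range.mp hr)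
  rw [h, show T.n = T.half + T.half from Nat.two_mul _, List.range_eq_range', ← List.range'_append_1,
    List.filter_append, List.filter_eq_nil_iff.mpr, List.nil_append, List.filter_eq_self.mpr]
  · simp
  · intro r hr
    simp only [List.mem_range'_1] at hr
    simpa using by omega
  · intro r hr
    simp only [List.mem_range'_1] at hr
    simpa using by omega

theorem wordMat_posRoots (f : ℕ → F) :
    T.datum.wordMat F (T.datum.posRoots.map fun r => (r, f r)) =
      ((T.uProd f T.half T.half : GL T.I F) : Matrix T.I T.I F) := by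
  rw [posRoots_eq hT, wordMat_eq hT, uProd, List.map_map]
  · rfl
  · intro p hp
    obtain ⟨r, hr, rfl⟩ := List.mem_map.mp hp
    have h2 : T.n = 2 * T.half := rfl
    simp only [List.mem_range'_1] at hr
    omega

variable (hC : T.chkComm = true)
include hC

theorem exists_uProd : ∀ m k, k + m = T.n → T.half ≤ k →
    ∀ g ∈ T.rootGen F (fun r => k ≤ r), ∃ f : ℕ → F, g = T.uProd f k m := by
  intro m
  induction m with
  | zero =>
    intro k hkm _ g hg
    rw [show k = T.n by omega, ge_n_eq_bot hT, Subgroup.mem_bot] at hg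
    exact ⟨0, by simp [uProd, hg]⟩
  | succ m ih =>
    intro k hkm hk g hg
    obtain ⟨t, g', hg', rfl⟩ := (mem_ge_iff hT hC hk (by omega)).mp hg
    obtain ⟨f, rfl⟩ := ih (k + 1) (by omega) (by omega) g' hg'
    refine ⟨Function.update f k t, ?_⟩
    rw [uProd_succ, Function.update_self]
    congr 1
    refine congrArg List.prod (List.map_congr_left fun r hr => ?_)
    simp only [List.mem_range'_1] at hr
    rw [Function.update_of_ne (by omega)]

theorem uProd_inj : ∀ m k, k + m = T.n → T.half ≤ k → ∀ f f' : ℕ → F,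
    T.uProd f k m = T.uProd f' k m → ∀ r, k ≤ r → r < T.n → f r = f' r := by
  intro m
  induction m with
  | zero => intro k hkm _ f f' _ r hr hrn; omega
  | succ m ih =>
    intro k hkm hk f f' h r hr hrn
    rw [uProd_succ, uProd_succ] at h
    obtain ⟨h1, h2⟩ := xU_mul_inj hT hC hk (by omega) (uProd_mem hT f m (k + 1) (by omega))
      (uProd_mem hT f' m (k + 1) (by omega)) h
    rcases Nat.lt_or_ge k r with hlt | hge
    · exact ih (k + 1) (by omega) (by omega) f f' h2 r hlt hrn
    · rw [show r = k by omega]; exact h1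

theorem unique_product :
    (∀ g : GL T.datum.Idx F, g ∈ T.datum.posUnipotent F →
      ∃! t : ℕ → F, (∀ r, ¬ T.datum.IsPosRoot r → t r = 0) ∧
        (g : Matrix T.datum.Idx T.datum.Idx F) =
          T.datum.wordMat F (T.datum.posRoots.map fun r => (r, t r))) ∧
    (∀ t : ℕ → F, ∃ g : GL T.datum.Idx F, g ∈ T.datum.posUnipotent F ∧
      (g : Matrix T.datum.Idx T.datum.Idx F) =
        T.datum.wordMat F (T.datum.posRoots.map fun r => (r, t r))) := by
  classical
  have h2 : T.half + T.half = T.n := (Nat.two_mul _).symm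
  have hpos : ∀ r, T.datum.IsPosRoot r ↔ r < T.n ∧ T.half ≤ r := fun r => by
    rw [isPosRoot_iff hT, isPos_iff]
  refine ⟨fun g hg => ?_, fun t => ⟨T.uProd t T.half T.half, ?_, (wordMat_posRoots hT t).symm⟩⟩
  · rw [posUnipotent_rootGen hT] at hg
    obtain ⟨f, rfl⟩ := exists_uProd hT hC T.half T.half h2 le_rfl g hg
    refine ⟨fun r => if T.datum.IsPosRoot r then f r else 0, ⟨fun r hr => if_neg hr, ?_⟩, ?_⟩
    · rw [wordMat_posRoots hT]
      refine congrArg _ (congrArg List.prod (List.map_congr_left fun r hr => ?_))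
      simp only [List.mem_range'_1] at hr
      simp only
      rw [if_pos ((hpos r).mpr ⟨by omega, hr.1⟩)]
    · rintro t ⟨ht0, ht⟩
      funext r
      by_cases hr : T.datum.IsPosRoot r
      · rw [if_pos hr]
        rw [wordMat_posRoots hT] at ht
        exact (uProd_inj hT hC T.half T.half h2 le_rfl f t (Units.ext ht) r ((hpos r).mp hr).2
          ((hpos r).mp hr).1).symm
      · rw [if_neg hr]; exact ht0 r hr
  · rw [posUnipotent_rootGen hT]
    exact uProd_mem hT t T.half T.half h2

theorem card_ge [Fintype F] : ∀ m k, k + m = T.n → T.half ≤ k →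
    Nat.card (T.rootGen F (fun r => k ≤ r)) = Fintype.card F ^ m := by
  intro m
  induction m with
  | zero =>
    intro k hkm _
    rw [show k = T.n by omega, ge_n_eq_bot hT, Subgroup.card_bot, pow_zero]
  | succ m ih =>
    intro k hkm hk
    have hkn : k < T.n := by omega
    let f : F × T.rootGen F (fun r => k + 1 ≤ r) → T.rootGen F (fun r => k ≤ r) := fun p =>
      ⟨T.xU F k p.1 * p.2, (mem_ge_iff hT hC hk hkn).mpr ⟨p.1, p.2, p.2.2, rfl⟩⟩
    have hf : Function.Bijective f := by
      refine ⟨fun p q h => ?_, fun g => ?_⟩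
      · obtain ⟨h1, h2⟩ := xU_mul_inj hT hC hk hkn p.2.2 q.2.2 (congrArg Subtype.val h)
        exact Prod.ext h1 (Subtype.ext h2)
      · obtain ⟨t, g', hg', hg⟩ := (mem_ge_iff hT hC hk hkn).mp g.2
        exact ⟨(t, ⟨g', hg'⟩), Subtype.ext hg.symm⟩
    rw [← Nat.card_eq_of_bijective f hf, Nat.card_prod, Nat.card_eq_fintype_card,
      ih (k + 1) (by omega) (by omega), pow_succ']

theorem card_posUnipotent [Fintype F] :
    Nat.card (T.datum.posUnipotent F) = Fintype.card F ^ (T.datum.nroots / 2) := by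
  rw [posUnipotent_rootGen hT, card_ge hT hC T.half T.half (Nat.two_mul _).symm le_rfl]
  exact congrArg _ (datum_nroots_div (T := T)).symm

theorem pos_le_normalizer_ge {k : ℕ} (hk : T.half ≤ k) :
    T.rootGen F (fun r => T.half ≤ r) ≤
      Subgroup.normalizer (T.rootGen F (fun r => k ≤ r) : Set (GL T.I F)) :=
  rootGen_le fun _ hr hp t => xU_mem_normalizer_ge hT hC hr hp hk t

theorem commutator_mem {k : ℕ} (hk : T.half ≤ k) {g x : GL T.I F}
    (hg : g ∈ T.rootGen F (fun r => k ≤ r)) (hx : x ∈ T.rootGen F (fun r => T.half ≤ r)) :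
    ⁅g, x⁆ ∈ T.rootGen F (fun r => k + 1 ≤ r) := by
  have hn : ∀ y ∈ T.rootGen F (fun r => T.half ≤ r), ∀ z ∈ T.rootGen F (fun r => k + 1 ≤ r),
      y * z * y⁻¹ ∈ T.rootGen F (fun r => k + 1 ≤ r) := fun y hy z hz =>
    (Subgroup.mem_normalizer_iff.mp (pos_le_normalizer_ge hT hC (by omega) hy) z).mp hz
  have hgpos : ∀ y ∈ T.rootGen F (fun r => k ≤ r), y ∈ T.rootGen F (fun r => T.half ≤ r) :=
    fun y hy => rootGen_mono (fun s _ h => le_trans hk h) hy
  induction hg using Subgroup.closure_induction with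
  | mem a ha =>
    obtain ⟨s, hs, hks, u, rfl⟩ := ha
    induction hx using Subgroup.closure_induction with
    | mem b hb =>
      obtain ⟨r, hr, hrp, t, rfl⟩ := hb
      by_cases hsr : s = r
      · subst hsr
        rw [commutatorElement_eq_one_iff_mul_comm.mpr (by rw [xU_add hT hs, xU_add hT hs, add_comm])]
        exact one_mem _
      have hneg : s ≠ T.neg r := by unfold neg n at *; omega
      have hw : ⁅T.xU F s u, T.xU F r t⁆ = (T.xU F r t * T.xU F s u) *
          ((T.commT r s).map fun c =>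
            T.xU F c.1 ((c.2.1 : F) * (-t) ^ c.2.2.1 * u ^ c.2.2.2)).prod *
          (T.xU F r t * T.xU F s u)⁻¹ := by
        rw [commutatorElement_def, comm_xU hT hC hr hs hsr hneg]; group
      rw [hw]
      refine hn _ (mul_mem (xU_mem_rootGen (P := fun r => T.half ≤ r) hr hrp t)
        (xU_mem_rootGen (P := fun r => T.half ≤ r) hs (le_trans hk hks) u)) _
        (list_prod_mem fun y hy => ?_)
      obtain ⟨c, hc, rfl⟩ := List.mem_map.mp hy
      have := (commT_gt hT hr hs hrp (le_trans hk hks) c hc).2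
      exact xU_mem_rootGen (commT_lt hT hr hs c hc) (show k + 1 ≤ c.1 by omega) _
    | one => simp
    | mul b c hb _ ihb ihc =>
      have e : ⁅T.xU F s u, b * c⁆ = ⁅T.xU F s u, b⁆ * (b * ⁅T.xU F s u, c⁆ * b⁻¹) := by
        simp only [commutatorElement_def]; group
      rw [e]; exact mul_mem ihb (hn b hb _ ihc)
    | inv b hb ihb =>
      have e : ⁅T.xU F s u, b⁻¹⁆ = b⁻¹ * ⁅T.xU F s u, b⁆⁻¹ * b⁻¹⁻¹ := by
        simp only [commutatorElement_def]; group
      rw [e]; exact hn _ (inv_mem hb) _ (inv_mem ihb)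
  | one => simp
  | mul a b ha _ iha ihb =>
    have e : ⁅a * b, x⁆ = (a * ⁅b, x⁆ * a⁻¹) * ⁅a, x⁆ := by
      simp only [commutatorElement_def]; group
    rw [e]; exact mul_mem (hn a (hgpos a ha) _ ihb) iha
  | inv a ha iha =>
    have e : ⁅a⁻¹, x⁆ = a⁻¹ * ⁅a, x⁆⁻¹ * a⁻¹⁻¹ := by
      simp only [commutatorElement_def]; group
    rw [e]; exact hn _ (inv_mem (hgpos a ha)) _ (inv_mem iha)

theorem isNilpotent_pos : Group.IsNilpotent (T.datum.posUnipotent F) := by
  rw [posUnipotent_rootGen hT]
  rw [Subgroup.nilpotent_iff_finite_descending_central_series]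
  refine ⟨T.half, fun j => (T.rootGen F (fun r => T.half + j ≤ r)).subgroupOf _,
    ⟨by simp, fun x j hx g => ?_⟩, ?_⟩
  · rw [Subgroup.mem_subgroupOf] at hx ⊢
    have := commutator_mem hT hC (k := T.half + j) (Nat.le_add_right _ _) hx g.2
    simpa [commutatorElement_def, add_assoc] using this
  · simp only
    rw [show T.half + T.half = T.n from (Nat.two_mul _).symm, ge_n_eq_bot hT]
    simp

theorem isSolvable_borel : Group.IsSolvable ↥(T.datum.borelSubgroup F) := by
  have hUB : T.datum.posUnipotent F ≤ T.datum.borelSubgroup F := le_sup_left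
  let N := (T.datum.posUnipotent F).subgroupOf (T.datum.borelSubgroup F)
  have hNn : N.Normal := by
    refine (Subgroup.normal_subgroupOf_iff_le_normalizer hUB).mpr (sup_le Subgroup.le_normalizer ?_)
    rw [posUnipotent_rootGen hT]
    exact diag_le_normalizer hT _
  haveI : Group.IsNilpotent (T.datum.posUnipotent F) := isNilpotent_pos hT hC
  have hrep : ∀ x : ↥(T.datum.borelSubgroup F), ∃ h : ↥(T.datum.borelSubgroup F),
      (h : GL T.I F) ∈ T.datum.diagonalSubgroup F ∧ (x : ↥(T.datum.borelSubgroup F) ⧸ N) = h := by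
    intro x
    obtain ⟨u, hu, h, hh, e⟩ := (mem_borel_iff hT).mp x.2
    refine ⟨⟨h, Subgroup.mem_sup_right hh⟩, hh, ?_⟩
    have hux : x = ⟨u, hUB hu⟩ * ⟨h, Subgroup.mem_sup_right hh⟩ := Subtype.ext e
    rw [hux, QuotientGroup.mk_mul, (QuotientGroup.eq_one_iff _).mpr (show _ ∈ N from hu), one_mul]
  have hcomm : ∀ a b : ↥(T.datum.borelSubgroup F) ⧸ N, a * b = b * a := fun a b => by
    obtain ⟨x, rfl⟩ := QuotientGroup.mk_surjective a
    obtain ⟨y, rfl⟩ := QuotientGroup.mk_surjective b
    obtain ⟨h, hh, e⟩ := hrep x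
    obtain ⟨h', hh', e'⟩ := hrep y
    rw [e, e', ← QuotientGroup.mk_mul, ← QuotientGroup.mk_mul]
    exact congrArg _ (Subtype.ext (diag_comm hT hh hh'))
  haveI : Group.IsSolvable (↥(T.datum.borelSubgroup F) ⧸ N) := Group.isSolvable_of_comm hcomm
  refine Group.isSolvable_of_ker_le_range (Subgroup.inclusion hUB) (QuotientGroup.mk' N) ?_
  intro x hx
  rw [QuotientGroup.ker_mk'] at hx
  exact ⟨⟨x, hx⟩, Subtype.ext rfl⟩

omit hC in
theorem ne_simple_neg {i s : ℕ} (hi : i < T.rank) (hs : s < T.n) (hp : T.half ≤ s)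
    (hne : s ≠ T.simple i) : ∃ k < T.rank, k ≠ i ∧ 0 < T.co s k := by
  by_contra hall
  push Not at hall
  have h0 : ∀ k < T.rank, k ≠ i → T.co s k = 0 := fun k hk hki =>
    le_antisymm (hall k hk hki) (co_nonneg hT hs (isPos_iff.mpr hp) hk)
  have hca : T.ca i s = 2 * T.co s i := by
    rw [ca_eq hT hs hi, ← List.sum_toFinset _ (List.nodup_range (n := T.rank))]
    rw [Finset.sum_eq_single i]
    · have h2 := pair_self hT (simple_lt hT hi)
      rw [pair_simple hT hi] at h2
      rw [h2]; ring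
    · intro k hk hki
      rw [h0 k (by simpa using hk) hki, zero_mul]
    · simp [hi]
  have h1 := isPos_refl hT hi hs (isPos_iff.mpr hp) hne
  have h2 := co_nonneg hT (refl_lt hT hi hs) h1 hi
  rw [co_refl hT hi hs hi, if_pos rfl, hca] at h2
  have h3 := co_nonneg hT hs (isPos_iff.mpr hp) hi
  have h4 := ht_pos hT hs (isPos_iff.mpr hp)
  rw [ht, ← List.sum_toFinset _ (List.nodup_range (n := T.rank)), Finset.sum_eq_single i] at h4
  · omega
  · intro k hk hki; exact h0 k (by simpa using hk) hki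
  · simp [hi]

omit hC in
theorem half_le_of_co {v k : ℕ} (hv : v < T.n) (hk : k < T.rank) (h : 0 < T.co v k) :
    T.half ≤ v := by
  by_contra hlt
  have hp : T.isPos (T.neg v) = true := by
    rw [isPos_iff]; unfold neg n at *; omega
  have := co_nonneg hT (neg_lt' hv) hp hk
  rw [co_neg hT hv hk] at this
  omega

/-- `U_p` is normalised by `X_{±p}`. -/
theorem xU_mem_normalizer_simple {i r : ℕ} (hi : i < T.rank)
    (hr : r = T.simple i ∨ r = T.neg (T.simple i)) (t : F) :
    T.xU F r t ∈ Subgroup.normalizer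
      (T.rootGen F (fun s => T.half ≤ s ∧ s ≠ T.simple i) : Set (GL T.I F)) := by
  have hp := simple_lt hT hi
  have hrn : r < T.n := by rcases hr with rfl | rfl; exacts [hp, neg_lt' hp]
  refine xU_mem_normalizer hT hC hrn (fun s hs ⟨hsp, hsne⟩ hsr => ?_) t
  have hpp : T.half ≤ T.simple i := isPos_iff.mp (simple_pos hT hi)
  refine ⟨?_, fun c hc => ?_⟩
  · rcases hr with rfl | rfl
    · unfold neg n at *; omega
    · rw [neg_neg' hp]; exact hsne
  obtain ⟨k, hk, hki, hpos⟩ := ne_simple_neg hT hi hs hsp hsne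
  obtain ⟨-, hj, hco⟩ := commT_co hT hrn hs c hc
  have hr0 : T.co r k = 0 := by
    rcases hr with rfl | rfl
    · rw [co_simple hT hi hk, if_neg hki]
    · rw [co_neg hT hp hk, co_simple hT hi hk, if_neg hki, _root_.neg_zero]
  have hck : 0 < T.co c.1 k := by
    rw [hco k hk, hr0, mul_zero, zero_add]
    exact mul_pos (by exact_mod_cast hj) hpos
  refine ⟨half_le_of_co hT (commT_lt hT hrn hs c hc) hk hck, fun e => ?_⟩
  rw [e, co_simple hT hi hk, if_neg hki] at hck
  exact lt_irrefl _ hck

omit hC in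
theorem pos_eq_sup_simple {i : ℕ} (hi : i < T.rank) :
    T.rootGen F (fun s => T.half ≤ s ∧ s ≠ T.simple i) ⊔ T.datum.rootSubgroup F (T.simple i) =
      T.datum.posUnipotent F := by
  have hp := simple_lt hT hi
  rw [posUnipotent_rootGen hT, ← rootGen_eq_singleton hT hp]
  refine le_antisymm (sup_le (rootGen_mono fun s _ h => h.1)
    (rootGen_mono fun s _ h => h ▸ isPos_iff.mp (simple_pos hT hi))) (rootGen_le fun s hs h t => ?_)
  by_cases e : s = T.simple i
  · exact Subgroup.mem_sup_right (xU_mem_rootGen (P := fun s => s = T.simple i) hs e t)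
  · exact Subgroup.mem_sup_left (xU_mem_rootGen (P := fun s => T.half ≤ s ∧ s ≠ T.simple i) hs ⟨h, e⟩ t)

omit hC in
theorem closure_ne_simple {i : ℕ} (hi : i < T.rank) :
    Subgroup.closure {g : GL T.datum.Idx F | ∃ (s : ℕ) (t : F), T.datum.IsPosRoot s ∧
        s ≠ T.datum.simple i ∧ (g : Matrix T.datum.Idx T.datum.Idx F) = T.datum.x F s t} =
      T.rootGen F (fun s => T.half ≤ s ∧ s ≠ T.simple i) := by
  refine le_antisymm ((Subgroup.closure_le _).mpr ?_) (rootGen_le fun s hs h t => ?_)
  · rintro g ⟨s, t, h1, h2, h3⟩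
    obtain ⟨hs, hp⟩ := (isPosRoot_iff hT).mp h1
    rw [(eq_x_iff hT hs t g).mp h3]
    rw [datum_simple hi] at h2
    exact xU_mem_rootGen (P := fun s => T.half ≤ s ∧ s ≠ T.simple i) hs ⟨isPos_iff.mp hp, h2⟩ t
  · refine Subgroup.subset_closure ⟨s, t, (isPosRoot_iff hT).mpr ⟨hs, isPos_iff.mpr h.1⟩, ?_,
      (eq_x_iff hT hs t _).mpr rfl⟩
    rw [datum_simple hi]; exact h.2

end CfsgLib.Chevalley.Tbl
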