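import Cfsg.Agent.Lib.Chevalley.Weyl
import Cfsg.Agent.Lib.Chevalley.PosProduct
import Cfsg.Agent.Lib.BNPair.Simple

/-!
The BN-pair of a Chevalley group, the trivial core of `B`, the longest element.
-/

set_option autoImplicit false

namespace CfsgLib.Chevalley.Tbl

variable {T : Tbl} {F : Type*} [Field F]

variable (hT : T.Valid)
include hT

theorem xU_mem_group {r : ℕ} (hr : r < T.n) (t : F) : T.xU F r t ∈ T.datum.group F := by
  rw [group_eq hT]; exact Subgroup.subset_closure ⟨r, hr, t, rfl⟩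

theorem nU_mem_group {r : ℕ} (hr : r < T.n) (t : F) : T.nU F r t ∈ T.datum.group F :=
  mul_mem (mul_mem (xU_mem_group hT hr _) (xU_mem_group hT (neg_lt' hr) _)) (xU_mem_group hT hr _)

theorem diag_le_group : T.datum.diagonalSubgroup F ≤ T.datum.group F := by
  rw [diagonalSubgroup_eq hT, Subgroup.closure_le]
  rintro _ ⟨r, hr, c, rfl⟩
  rw [SetLike.mem_coe, ← hU_eq hT hr c]
  exact mul_mem (nU_mem_group hT hr _) (nU_mem_group hT hr _)

theorem borel_le_group : T.datum.borelSubgroup F ≤ T.datum.group F := by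
  refine sup_le ?_ (diag_le_group hT)
  rw [posUnipotent_rootGen hT]
  exact rootGen_le fun r hr _ t => xU_mem_group hT hr t

theorem monomial_le_group : T.datum.monomialSubgroup F ≤ T.datum.group F := by
  rw [monomialSubgroup_eq hT]
  refine sup_le (diag_le_group hT) ((Subgroup.closure_le _).mpr ?_)
  rintro _ ⟨r, hr, rfl⟩
  exact nU_mem_group hT hr _

theorem pos_le_borel {r : ℕ} (hr : r < T.n) (hp : T.half ≤ r) (t : F) :
    T.xU F r t ∈ T.datum.borelSubgroup F := by
  refine Subgroup.mem_sup_left ?_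
  rw [posUnipotent_rootGen hT]
  exact xU_mem_rootGen (P := fun r => T.half ≤ r) hr hp t

theorem borel_sup_monomial :
    T.datum.borelSubgroup F ⊔ T.datum.monomialSubgroup F = T.datum.group F := by
  refine le_antisymm (sup_le (borel_le_group hT) (monomial_le_group hT)) ?_
  rw [group_eq hT, Subgroup.closure_le]
  rintro _ ⟨r, hr, t, rfl⟩
  obtain ⟨i, hi, g, e, hg, ⟨he, h1, -⟩, -⟩ := exists_carries (F := F) hT r hr
  have hgN : g ∈ T.datum.monomialSubgroup F := by
    refine (Subgroup.closure_le _).mpr ?_ hg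
    rintro _ ⟨j, hj, rfl⟩
    exact nU_simple_mem_N hT ⟨j, hj⟩
  have hee : e * e = 1 := by rcases he with rfl | rfl <;> norm_num
  have : T.xU F r t = g * T.xU F (T.simple i) (e * t) * g⁻¹ := by
    rw [h1, ← mul_assoc e, hee, one_mul, mul_inv_cancel_right]
  rw [this]
  refine mul_mem (mul_mem (Subgroup.mem_sup_right hgN) (Subgroup.mem_sup_left ?_))
    (inv_mem (Subgroup.mem_sup_right hgN))
  exact pos_le_borel hT (simple_lt hT hi) (isPos_iff.mp (simple_pos hT hi)) _

theorem conj_Up (i : Fin T.rank) {u : GL T.I F}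
    (hu : u ∈ T.rootGen F (fun s => T.half ≤ s ∧ s ≠ T.simple i)) :
    T.nU F (T.simple i) 1 * u * (T.nU F (T.simple i) 1)⁻¹ ∈
      T.rootGen F (fun s => T.half ≤ s ∧ s ≠ T.simple i) := by
  induction hu using Subgroup.closure_induction with
  | mem x hx =>
    obtain ⟨s, hs, ⟨hsp, hsne⟩, t, rfl⟩ := hx
    rw [nU_simple_xU hT i.2 hs, mul_inv_cancel_right]
    refine xU_mem_rootGen (P := fun s => T.half ≤ s ∧ s ≠ T.simple i) (refl_lt hT i.2 hs)
      ⟨isPos_iff.mp (isPos_refl hT i.2 hs (isPos_iff.mpr hsp) hsne), fun e => ?_⟩ _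
    have := refl_refl hT i.2 hs
    rw [e, refl_simple_self hT] at this
    have hp := isPos_iff.mp (simple_pos hT i.2)
    unfold neg n at *
    omega
  | one => simp
  | mul x y _ _ hx hy => simpa [mul_assoc] using mul_mem hx hy
  | inv x _ hx => simpa [mul_assoc] using inv_mem hx

variable (hC : T.chkComm = true)
include hC

/-- The axiom `s B n ⊆ B s n B ∪ B n B`. -/
theorem bn_axiom (i : Fin T.rank) {n b : GL T.I F} (hn : n ∈ T.datum.monomialSubgroup F)
    (hb : b ∈ T.datum.borelSubgroup F) :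
    ∃ a ∈ T.datum.borelSubgroup F, ∃ c ∈ T.datum.borelSubgroup F,
      T.nU F (T.simple i) 1 * b * n = a * (T.nU F (T.simple i) 1 * n) * c ∨
        T.nU F (T.simple i) 1 * b * n = a * n * c := by
  obtain ⟨u, hu, h, hh, rfl⟩ := (mem_borel_iff hT).mp hb
  have hp := simple_lt hT i.2
  have hpp : T.half ≤ T.simple i := isPos_iff.mp (simple_pos hT i.2)
  have hnorm : T.datum.rootSubgroup F (T.simple i) ≤ Subgroup.normalizer
      (T.rootGen F (fun s => T.half ≤ s ∧ s ≠ T.simple i) : Set (GL T.I F)) := fun g hg => by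
    obtain ⟨t, rfl⟩ := (mem_rootSubgroup_iff hT hp).mp hg
    exact xU_mem_normalizer_simple hT hC i.2 (Or.inl rfl) t
  rw [← pos_eq_sup_simple hT i.2, ← SetLike.mem_coe,
    Subgroup.coe_mul_of_right_le_normalizer_left _ _ hnorm] at hu
  obtain ⟨u', hu', x, hx, rfl⟩ := hu
  obtain ⟨t, rfl⟩ := (mem_rootSubgroup_iff hT hp).mp hx
  set s := T.nU F (T.simple i) 1 with hs
  have hh' : n⁻¹ * h * n ∈ T.datum.diagonalSubgroup F := by
    have := conj_diag hT (inv_mem hn) hh
    rwa [inv_inv] at this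
  have hu'' : s * u' * s⁻¹ ∈ T.datum.borelSubgroup F := by
    refine Subgroup.mem_sup_left ?_
    rw [posUnipotent_rootGen hT]
    exact rootGen_mono (fun s _ h => h.1) (conj_Up hT i hu')
  obtain ⟨w, -, hm⟩ := exists_mono hT hn
  set v := w⁻¹ (T.simpF hT i) with hv
  have hwv : w v = T.simpF hT i := w.apply_symm_apply _
  obtain ⟨c, hc⟩ := hm.conj v
  rw [hwv] at hc
  by_cases hcase : t = 0 ∨ T.half ≤ v.val
  · refine ⟨s * u' * s⁻¹, hu'', n⁻¹ * T.xU F (T.simple i) t * n * (n⁻¹ * h * n),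
      mul_mem ?_ (Subgroup.mem_sup_right hh'), Or.inl (by group)⟩
    rcases hcase with rfl | hpos
    · simp [xU_zero hT hp]
    · have e := (hc (((c⁻¹ : Fˣ) : F) * t)).1
      rw [← mul_assoc (c : F), ← Units.val_mul, mul_inv_cancel, Units.val_one, one_mul] at e
      change n * _ = T.xU F (T.simple i) t * n at e
      rw [mul_assoc n⁻¹, ← e, inv_mul_cancel_left]
      exact pos_le_borel hT v.2 hpos _
  · push Not at hcase
    obtain ⟨ht, hneg⟩ := hcase
    let a : Fˣ := (Units.mk0 t ht)⁻¹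
    have hat : ((a : F))⁻¹ = t := by simp [a]
    have hx : s * T.xU F (T.simple i) t = T.xU F (T.neg (T.simple i)) (-t) * s := nU_conj hT hp t
    have hy : T.xU F (T.neg (T.simple i)) (-t) =
        T.xU F (T.simple i) (-(a : F)) * (T.dU (T.hCh (T.simple i) a) * s) *
          T.xU F (T.simple i) (-(a : F)) := by
      rw [hs, ← nU_t hT hp a, nU, hat, ← xU_inv hT hp]
      group
    obtain ⟨d, hd⟩ : ∃ d : F, T.xU F (T.simple i) (-(a : F)) * (s * n) =
        (s * n) * T.xU F (T.neg v.val) d := by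
      obtain ⟨e, he⟩ := ((mono_nU_simple (F := F) hT i).mul hm).conj (T.negF v)
      have hw : (T.refP hT i * w) (T.negF v) = T.simpF hT i := by
        rw [Equiv.Perm.mul_apply, hm.negEq, hwv, ← refP_simpF hT i]
        exact Fin.ext (refl_refl hT i.2 hp)
      rw [hw] at he
      refine ⟨((e⁻¹ : Fˣ) : F) * -(a : F), ?_⟩
      have h1 := (he (((e⁻¹ : Fˣ) : F) * -(a : F))).1
      rw [← mul_assoc (e : F), ← Units.val_mul, mul_inv_cancel, Units.val_one, one_mul] at h1
      exact h1.symm
    refine ⟨s * u' * s⁻¹ * T.xU F (T.simple i) (-(a : F)) * T.dU (T.hCh (T.simple i) a) * (s * s),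
      mul_mem (mul_mem (mul_mem hu'' (pos_le_borel hT hp hpp _))
        (Subgroup.mem_sup_right ?_)) (Subgroup.mem_sup_right (nU_sq_mem hT hp)),
      T.xU F (T.neg v.val) d * (n⁻¹ * h * n), mul_mem (pos_le_borel hT (neg_lt' v.2) ?_ _)
        (Subgroup.mem_sup_right hh'), Or.inr ?_⟩
    · rw [diagonalSubgroup_eq hT]; exact Subgroup.subset_closure ⟨_, hp, a, rfl⟩
    · exact le_negF hneg
    · calc s * (u' * T.xU F (T.simple i) t * h) * n
          = (s * u' * s⁻¹) * (s * T.xU F (T.simple i) t) * n * (n⁻¹ * h * n) := by group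
        _ = (s * u' * s⁻¹) * T.xU F (T.simple i) (-(a : F)) * T.dU (T.hCh (T.simple i) a) * s *
            (T.xU F (T.simple i) (-(a : F)) * (s * n)) * (n⁻¹ * h * n) := by
              rw [hx, hy]; group
        _ = _ := by rw [hd]; group

omit hC in
theorem simple_inv_mul_mem {i j : Fin T.rank}
    (h : (T.nU F (T.simple i) 1)⁻¹ * T.nU F (T.simple j) 1 ∈ T.datum.borelSubgroup F) : i = j := by
  have hN : (T.nU F (T.simple i) 1)⁻¹ * T.nU F (T.simple j) 1 ∈ T.datum.monomialSubgroup F :=
    mul_mem (inv_mem (nU_simple_mem_N hT i)) (nU_simple_mem_N hT j)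
  have hH : (T.nU F (T.simple i) 1)⁻¹ * T.nU F (T.simple j) 1 ∈ T.datum.diagonalSubgroup F :=
    borel_inf_monomial (T := T) (F := F) hT ▸ ⟨h, hN⟩
  have h1 := (mono_nU_simple (F := F) hT i).inv.mul (mono_nU_simple hT j)
  have h2 := h1.unique (mono_diag hT hH)
  rw [inv_mul_eq_one] at h2
  exact refP_injective hT h2

omit hC in
theorem conj_not_mem (i : Fin T.rank) :
    T.nU F (T.simple i) 1 * T.xU F (T.simple i) 1 * T.nU F (T.simple i) 1 ∉
      T.datum.borelSubgroup F := by
  intro h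
  have hp := simple_lt hT i.2
  have h2 : T.xU F (T.neg (T.simple i)) (-1) ∈ T.datum.borelSubgroup F := by
    rw [nU_conj hT hp, mul_assoc] at h
    have := mul_mem h (inv_mem (Subgroup.mem_sup_right (S := T.datum.posUnipotent F)
      (nU_sq_mem (F := F) hT hp)))
    rwa [mul_inv_cancel_right] at this
  have h3 : T.xU F (T.neg (T.simple i)) (-1) ∈ T.datum.negUnipotent F := by
    rw [negUnipotent_rootGen hT]
    refine xU_mem_rootGen (P := fun r => r < T.half) (neg_lt' hp) ?_ _
    exact negF_lt (T := T) (s := T.simpF hT i) (half_le_simpF hT i)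
  have h4 : T.xU F (T.neg (T.simple i)) (-1) ∈ (⊥ : Subgroup (GL T.I F)) :=
    borel_inf_neg (T := T) (F := F) hT ▸ ⟨h2, h3⟩
  rw [Subgroup.mem_bot, ← xU_zero hT (neg_lt' hp)] at h4
  exact neg_ne_zero.mpr one_ne_zero (xU_inj hT (neg_lt' hp) h4)

/-- The BN-pair. -/
noncomputable def bnPair (F : Type*) [Field F] : Cfsg.BNPair ↥(T.datum.group F) where
  B := (T.datum.borelSubgroup F).subgroupOf (T.datum.group F)
  N := (T.datum.monomialSubgroup F).subgroupOf (T.datum.group F)
  S := {n | ∃ i < T.datum.rank, ((n : GL T.datum.Idx F) : Matrix T.datum.Idx T.datum.Idx F) =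
    T.datum.nMat F (T.datum.simple i) 1}
  sup_eq_top := by
    rw [← Subgroup.subgroupOf_sup (borel_le_group hT) (monomial_le_group hT), borel_sup_monomial hT,
      Subgroup.subgroupOf_self]
  conj_mem n hn t ht := by
    simp only [Subgroup.mem_inf, Subgroup.mem_subgroupOf] at hn ht ⊢
    have hH : (t : GL T.I F) ∈ T.datum.diagonalSubgroup F :=
      borel_inf_monomial (T := T) (F := F) hT ▸ ht
    exact Subgroup.mem_sup_right (conj_diag hT hn hH)
  subset := by
    rintro n ⟨i, hi, hn⟩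
    rw [eq_nMat_simple_iff hT hi] at hn
    simp only [SetLike.mem_coe, Subgroup.mem_subgroupOf, hn]
    exact nU_simple_mem_N hT ⟨i, hi⟩
  sq_mem := by
    rintro n ⟨i, hi, hn⟩
    rw [eq_nMat_simple_iff hT hi] at hn
    simp only [Subgroup.mem_subgroupOf, Subgroup.coe_mul, hn]
    exact Subgroup.mem_sup_right (nU_sq_mem hT (simple_lt hT hi))
  inj := by
    rintro n ⟨i, hi, hn⟩ n' ⟨j, hj, hn'⟩ h
    rw [eq_nMat_simple_iff hT hi] at hn
    rw [eq_nMat_simple_iff hT hj] at hn'
    simp only [Subgroup.mem_subgroupOf, Subgroup.coe_mul, Subgroup.coe_inv, hn, hn'] at h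
    have e := simple_inv_mul_mem hT (i := ⟨i, hi⟩) (j := ⟨j, hj⟩) h
    simp only [Fin.mk.injEq] at e
    subst e
    exact Subtype.ext (hn.trans hn'.symm)
  closure_sup := by
    refine le_antisymm (sup_le ((Subgroup.closure_le _).mpr ?_) inf_le_right) ?_
    · rintro n ⟨i, hi, hn⟩
      rw [eq_nMat_simple_iff hT hi] at hn
      simp only [SetLike.mem_coe, Subgroup.mem_subgroupOf, hn]
      exact nU_simple_mem_N hT ⟨i, hi⟩
    · intro n hn
      rw [Subgroup.mem_subgroupOf] at hn
      obtain ⟨h, hh, l, hl⟩ := exists_nw hT hn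
      have hnw : ∀ l : List (Fin T.rank), (⟨T.nw F l, monomial_le_group hT (nw_mem hT l)⟩ :
          ↥(T.datum.group F)) ∈ Subgroup.closure
          {n : ↥(T.datum.group F) | ∃ i < T.datum.rank,
            ((n : GL T.datum.Idx F) : Matrix T.datum.Idx T.datum.Idx F) =
              T.datum.nMat F (T.datum.simple i) 1} := by
        intro l
        induction l with
        | nil => exact one_mem _
        | cons i l ih =>
          have hi : (⟨_, nU_mem_group hT (simple_lt hT i.2) 1⟩ : ↥(T.datum.group F)) ∈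
              Subgroup.closure {n : ↥(T.datum.group F) | ∃ i < T.datum.rank,
                ((n : GL T.datum.Idx F) : Matrix T.datum.Idx T.datum.Idx F) =
                  T.datum.nMat F (T.datum.simple i) 1} :=
            Subgroup.subset_closure ⟨i, i.2, (eq_nMat_simple_iff hT i.2 _).mpr rfl⟩
          exact mul_mem hi ih
      have hn' : n = (⟨h, diag_le_group hT hh⟩ : ↥(T.datum.group F)) *
          ⟨T.nw F l, monomial_le_group hT (nw_mem hT l)⟩ := Subtype.ext hl
      rw [hn']
      refine mul_mem (Subgroup.mem_sup_right ?_) (Subgroup.mem_sup_left (hnw l))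
      simp only [Subgroup.mem_inf, Subgroup.mem_subgroupOf]
      exact ⟨Subgroup.mem_sup_right hh, diag_le_N hT hh⟩
  mul_mem_union := by
    rintro s ⟨i, hi, hs⟩ n hn b hb
    rw [eq_nMat_simple_iff hT hi] at hs
    rw [Subgroup.mem_subgroupOf] at hn hb
    obtain ⟨a, ha, c, hc, e⟩ := bn_axiom hT hC ⟨i, hi⟩ hn hb
    simp only [Set.mem_union, DoubleCoset.mem_doubleCoset]
    rcases e with e | e
    · exact Or.inl ⟨⟨a, borel_le_group hT ha⟩, ha, ⟨c, borel_le_group hT hc⟩, hc,
        Subtype.ext (by simp only [Subgroup.coe_mul, hs]; exact e)⟩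
    · exact Or.inr ⟨⟨a, borel_le_group hT ha⟩, ha, ⟨c, borel_le_group hT hc⟩, hc,
        Subtype.ext (by simp only [Subgroup.coe_mul, hs]; exact e)⟩
  conj_ne := by
    rintro s ⟨i, hi, hs⟩ h
    rw [eq_nMat_simple_iff hT hi] at hs
    have hp := simple_lt hT hi
    let x : ↥(T.datum.group F) := ⟨T.xU F (T.simple i) 1, xU_mem_group hT hp 1⟩
    have hx : x ∈ ((T.datum.borelSubgroup F).subgroupOf (T.datum.group F) : Set _) :=
      Subgroup.mem_subgroupOf.mpr (pos_le_borel hT hp (isPos_iff.mp (simple_pos hT hi)) 1)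
    have hmem := (Set.ext_iff.mp h (s * x * s)).mp ⟨x, hx, rfl⟩
    rw [SetLike.mem_coe, Subgroup.mem_subgroupOf] at hmem
    simp only [Subgroup.coe_mul, hs, x] at hmem
    exact conj_not_mem hT ⟨i, hi⟩ hmem

omit hC in
theorem exists_longest :
    ∃ n ∈ T.datum.monomialSubgroup F, ∃ w : Equiv.Perm (Fin T.n), T.Mono n w ∧
      ∀ s : Fin T.n, T.half ≤ s.val → (w s).val < T.half := by
  classical
  let f : Equiv.Perm (Fin T.n) → ℕ := fun w =>
    (Finset.univ.filter fun s : Fin T.n => T.half ≤ s.val ∧ (w s).val < T.half).card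
  obtain ⟨w, hw, hmax⟩ := Finset.exists_max_image (Finset.univ.filter fun w => w ∈ T.WP hT) f
    ⟨1, by simp⟩
  have hw' : w ∈ T.WP hT := (Finset.mem_filter.mp hw).2
  have hsimple : ∀ k : Fin T.rank, (w (T.simpF hT k)).val < T.half := by
    intro k
    by_contra hge
    push Not at hge
    have hle := hmax (w * T.refP hT k) (Finset.mem_filter.mpr ⟨Finset.mem_univ _,
      mul_mem hw' (Subgroup.subset_closure ⟨k, rfl⟩)⟩)
    have hlt : f w < f (w * T.refP hT k) := by
      let S := Finset.univ.filter fun s : Fin T.n => T.half ≤ s.val ∧ (w s).val < T.half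
      have hsub : insert (T.simpF hT k) (S.image (T.refP hT k)) ⊆
          Finset.univ.filter fun s : Fin T.n =>
            T.half ≤ s.val ∧ ((w * T.refP hT k) s).val < T.half := by
        intro x hx
        rw [Finset.mem_filter]
        refine ⟨Finset.mem_univ _, ?_⟩
        rcases Finset.mem_insert.mp hx with rfl | hx
        · refine ⟨half_le_simpF hT k, ?_⟩
          rw [Equiv.Perm.mul_apply, refP_simpF, WP_negF hT hw']
          exact negF_lt hge
        · obtain ⟨y, hy, rfl⟩ := Finset.mem_image.mp hx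
          obtain ⟨h1, h2⟩ := (Finset.mem_filter.mp hy).2
          refine ⟨refP_pos hT h1 (fun e => by rw [e] at h2; omega), ?_⟩
          rw [Equiv.Perm.mul_apply, ← Equiv.Perm.mul_apply (T.refP hT k), refP_mul_self]
          exact h2
      have hnot : T.simpF hT k ∉ S.image (T.refP hT k) := by
        intro hx
        obtain ⟨y, hy, e⟩ := Finset.mem_image.mp hx
        have h1 := (Finset.mem_filter.mp hy).2.1
        have e2 : y = T.negF (T.simpF hT k) := by
          apply (T.refP hT k).injective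
          rw [e, WP_negF hT (Subgroup.subset_closure ⟨k, rfl⟩), refP_simpF, negF_negF]
        rw [e2] at h1
        exact absurd h1 (not_le.mpr (negF_lt (half_le_simpF hT k)))
      have h1 := Finset.card_le_card hsub
      rw [Finset.card_insert_of_notMem hnot,
        Finset.card_image_of_injective _ (T.refP hT k).injective] at h1
      exact h1
    omega
  obtain ⟨l, rfl⟩ := exists_pw hT hw'
  refine ⟨T.nw F l, nw_mem hT l, _, mono_nw hT l, fun s hs => ?_⟩
  by_contra hge
  push Not at hge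
  have h1 := ht_pos hT (T.pw hT l s).2 (isPos_iff.mpr hge)
  rw [ht, list_sum_range] at h1
  have h2 : ∑ j : Fin T.rank, T.co (T.pw hT l s).val j ≤ 0 := by
    refine Finset.sum_nonpos fun j _ => ?_
    rw [WP_linear hT hw' s j.2]
    refine Finset.sum_nonpos fun k _ => mul_nonpos_of_nonneg_of_nonpos
      (co_nonneg hT s.2 (isPos_iff.mpr hs) k.2) ?_
    have h3 := co_nonneg hT (neg_lt' (T.pw hT l (T.simpF hT k)).2)
      (isPos_iff.mpr (le_negF (hsimple k))) j.2
    rw [co_neg hT (T.pw hT l (T.simpF hT k)).2 j.2] at h3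
    linarith
  omega

omit hC in
theorem exists_conj_pos_eq_neg :
    ∃ n ∈ T.datum.monomialSubgroup F,
      (T.datum.posUnipotent F).map (MulAut.conj n).toMonoidHom = T.datum.negUnipotent F := by
  obtain ⟨n, hn, w, hm, hw⟩ := exists_longest (F := F) hT
  refine ⟨n, hn, ?_⟩
  rw [posUnipotent_rootGen hT, negUnipotent_rootGen hT, rootGen, MonoidHom.map_closure]
  refine le_antisymm ((Subgroup.closure_le _).mpr ?_) (rootGen_le fun r hr hneg t => ?_)
  · rintro _ ⟨_, ⟨r, hr, hp, t, rfl⟩, rfl⟩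
    obtain ⟨c, hc⟩ := hm.conj ⟨r, hr⟩
    show n * T.xU F r t * n⁻¹ ∈ T.rootGen F fun r => r < T.half
    rw [show n * T.xU F r t = _ from (hc t).1, mul_inv_cancel_right]
    exact xU_mem_rootGen (P := fun r => r < T.half) (w _).2 (hw _ hp) _
  · set v := w⁻¹ ⟨r, hr⟩ with hv
    have hwv : w v = ⟨r, hr⟩ := w.apply_symm_apply _
    have hvp : T.half ≤ v.val := by
      by_contra hlt
      push Not at hlt
      have h1 := hw (T.negF v) (le_negF hlt)
      rw [hm.negEq, hwv] at h1
      exact absurd h1 (not_lt.mpr (le_negF (s := ⟨r, hr⟩) hneg))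
    obtain ⟨c, hc⟩ := hm.conj v
    rw [hwv] at hc
    refine Subgroup.subset_closure ⟨T.xU F v.val (((c⁻¹ : Fˣ) : F) * t), ⟨v.val, v.2, hvp, _, rfl⟩, ?_⟩
    show n * _ * n⁻¹ = _
    rw [(hc _).1, mul_inv_cancel_right, ← mul_assoc, ← Units.val_mul, mul_inv_cancel, Units.val_one,
      one_mul]

/-- The core of `B` is trivial. -/
theorem borel_core :
    ((T.datum.borelSubgroup F).subgroupOf (T.datum.group F)).normalCore = ⊥ := by
  rw [eq_bot_iff]
  intro g hg
  rw [Subgroup.mem_bot]
  set K := ((T.datum.borelSubgroup F).subgroupOf (T.datum.group F)).normalCore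
  have hKB : ∀ x ∈ K, (x : GL T.I F) ∈ T.datum.borelSubgroup F := fun x hx =>
    Subgroup.mem_subgroupOf.mp (Subgroup.normalCore_le _ hx)
  obtain ⟨n, hn, hconj⟩ := exists_conj_pos_eq_neg (F := F) hT
  have hKH : ∀ x ∈ K, (x : GL T.I F) ∈ T.datum.diagonalSubgroup F := by
    intro x hx
    rw [← borel_inf_negDiag (T := T) (F := F) hT]
    refine ⟨hKB x hx, ?_⟩
    let n' : ↥(T.datum.group F) := ⟨n, monomial_le_group hT hn⟩
    have hb := hKB _ ((inferInstance : K.Normal).conj_mem x hx n'⁻¹)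
    simp only [inv_inv, Subgroup.coe_mul, Subgroup.coe_inv, n'] at hb
    obtain ⟨u, hu, h, hh, e⟩ := (mem_borel_iff hT).mp hb
    have e2 : (x : GL T.I F) = (n * u * n⁻¹) * (n * h * n⁻¹) := by
      calc (x : GL T.I F) = n * (n⁻¹ * x * n) * n⁻¹ := by group
        _ = n * (u * h) * n⁻¹ := by rw [← e]
        _ = _ := by group
    rw [e2]
    refine mul_mem (Subgroup.mem_sup_left ?_) (Subgroup.mem_sup_right (conj_diag hT hn hh))
    rw [← hconj]
    exact ⟨u, hu, rfl⟩
  obtain ⟨χ, hχ, e⟩ := diag_exists_char hT (hKH g hg)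
  have hone : ∀ r < T.n, χ r = 1 := by
    intro r hr
    let x : ↥(T.datum.group F) := ⟨T.xU F r 1, xU_mem_group hT hr 1⟩
    have hk : g * (x * g⁻¹ * x⁻¹) ∈ K :=
      mul_mem hg ((inferInstance : K.Normal).conj_mem _ (inv_mem hg) x)
    have hH := hKH _ hk
    simp only [Subgroup.coe_mul, Subgroup.coe_inv, x, e] at hH
    have e2 : T.dU χ * (T.xU F r 1 * (T.dU χ)⁻¹ * (T.xU F r 1)⁻¹) =
        T.xU F r ((χ r : F) + -1) := by
      rw [← mul_assoc, ← mul_assoc, dU_conj_X hT hχ hr, mul_inv_cancel_right, mul_one, xU_inv hT hr,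
        xU_add hT hr]
    rw [e2] at hH
    have h1 : T.xU F r ((χ r : F) + -1) = T.xU F r 0 := by
      rw [xU_zero hT hr]
      rcases Nat.lt_or_ge r T.half with hneg | hpos
      · have : T.xU F r ((χ r : F) + -1) ∈ (⊥ : Subgroup (GL T.I F)) :=
          borel_inf_neg (T := T) (F := F) hT ▸
            ⟨Subgroup.mem_sup_right hH, by
              rw [SetLike.mem_coe, negUnipotent_rootGen hT]
              exact xU_mem_rootGen (P := fun r => r < T.half) hr hneg _⟩
        simpa using this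
      · have : T.xU F r ((χ r : F) + -1) ∈ (⊥ : Subgroup (GL T.I F)) :=
          pos_inf_diag (T := T) (F := F) hT ▸
            ⟨by rw [SetLike.mem_coe, posUnipotent_rootGen hT]
                exact xU_mem_rootGen (P := fun r => T.half ≤ r) hr hpos _, hH⟩
        simpa using this
    apply Units.ext
    have := xU_inj hT hr h1
    rw [Units.val_one]
    linear_combination this
  apply Subtype.ext
  rw [e, Subgroup.coe_one, dU_congr (χ := χ) (ψ := 1) (fun s hs => hone s hs), dU_one]

/-- `B ∪ B n_p B` is a subgroup. -/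
theorem exists_min_parabolic (i : Fin T.rank) :
    ∃ P : Subgroup (GL T.I F), (P : Set (GL T.I F)) =
      (T.datum.borelSubgroup F : Set (GL T.I F)) ∪
        DoubleCoset.doubleCoset (T.nU F (T.simple i) 1) (T.datum.borelSubgroup F : Set (GL T.I F))
          (T.datum.borelSubgroup F) := by
  set s := T.nU F (T.simple i) 1 with hs
  set B := T.datum.borelSubgroup F with hB
  have hsN : s ∈ T.datum.monomialSubgroup F := nU_simple_mem_N hT i
  have hs2 : s * s ∈ B := Subgroup.mem_sup_right (nU_sq_mem hT (simple_lt hT i.2))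
  let M := (B : Set (GL T.I F)) ∪ DoubleCoset.doubleCoset s (B : Set (GL T.I F)) B
  have hleft : ∀ b ∈ B, ∀ x ∈ M, b * x ∈ M := by
    rintro b hb x (hx | hx)
    · exact Or.inl (mul_mem hb hx)
    · obtain ⟨a, ha, c, hc, rfl⟩ := DoubleCoset.mem_doubleCoset.mp hx
      exact Or.inr (DoubleCoset.mem_doubleCoset.mpr ⟨b * a, mul_mem hb ha, c, hc, by group⟩)
  have hsl : ∀ x ∈ M, s * x ∈ M := by
    rintro x (hx | hx)
    · exact Or.inr (DoubleCoset.mem_doubleCoset.mpr ⟨1, one_mem _, x, hx, by group⟩)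
    · obtain ⟨a, ha, c, hc, rfl⟩ := DoubleCoset.mem_doubleCoset.mp hx
      obtain ⟨a', ha', c', hc', e | e⟩ := bn_axiom hT hC i hsN ha
      · refine Or.inl ?_
        rw [show s * (a * s * c) = (s * a * s) * c by group, e]
        exact mul_mem (mul_mem (mul_mem ha' hs2) hc') hc
      · refine Or.inr (DoubleCoset.mem_doubleCoset.mpr ⟨a', ha', c' * c, mul_mem hc' hc, ?_⟩)
        rw [show s * (a * s * c) = (s * a * s) * c by group, e]
        group
  refine ⟨{ carrier := M, mul_mem' := fun {x y} hx hy => ?_, one_mem' := Or.inl (one_mem _),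
            inv_mem' := fun {x} hx => ?_ }, rfl⟩
  · rcases hx with hx | hx
    · exact hleft x hx y hy
    · obtain ⟨a, ha, c, hc, rfl⟩ := DoubleCoset.mem_doubleCoset.mp hx
      rw [mul_assoc, mul_assoc]
      exact hleft a ha _ (hsl _ (hleft c hc y hy))
  · rcases hx with hx | hx
    · exact Or.inl (inv_mem hx)
    · obtain ⟨a, ha, c, hc, rfl⟩ := DoubleCoset.mem_doubleCoset.mp hx
      refine Or.inr (DoubleCoset.mem_doubleCoset.mpr
        ⟨c⁻¹ * (s * s)⁻¹, mul_mem (inv_mem hc) (inv_mem hs2), a⁻¹, inv_mem ha, ?_⟩)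
      group

end CfsgLib.Chevalley.Tbl
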