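import Cfsg.Agent.Lib.Chevalley.Table

/-!
Checks for the commutator formula.
-/

set_option autoImplicit false

namespace CfsgLib.Chevalley.Tbl

variable (T : Tbl)

/-- A term times `t ^ i * u ^ j`. -/
abbrev PTerm : Type := Term × ℕ × ℕ

/-- The terms of the commutator formula, computed from the table. -/
def commT (r s : ℕ) : List (ℕ × ℤ × ℕ × ℕ) :=
  let rs := (T.chain r s 1).map Prod.fst
  let cr (a b i : ℕ) : Option ℕ := (T.chain a b i).map Prod.fst
  let cm (a b i : ℕ) : ℤ := ((T.chain a b i).map Prod.snd).getD 0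
  let cands : List (Option ℕ × ℤ × ℕ × ℕ) :=
    [ (cr r s 1, cm r s 1, 1, 1),
      (cr r s 2, cm r s 2, 2, 1),
      (cr s r 2, cm s r 2, 1, 2),
      (cr r s 3, cm r s 3, 3, 1),
      (cr s r 3, - cm s r 3, 1, 3),
      ((cr r s 3).bind fun k => cr k s 1, (rs.map fun k => cm k r 2 / 3).getD 0, 3, 2),
      ((cr s r 3).bind fun k => cr k r 1, (rs.map fun k => -2 * cm k s 2 / 3).getD 0, 2, 3) ]
  cands.filterMap fun c => c.1.map fun k => (k, c.2)

/-- The roots `i r + s` for `i ≤ 3` pairwise commute. -/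
def chainComm (r s : ℕ) : Bool :=
  let l := [0, 1, 2, 3].filterMap fun i => (T.chain r s i).map Prod.fst
  l.all fun a => l.all fun b =>
    Nat.beq a b || ((T.sum? a b).isNone && !(Nat.beq b (T.neg a)))

def expA (r s : ℕ) : List (ℕ × ℤ × ℕ × ℕ) :=
  [1, 2, 3].filterMap fun i => (T.chain r s i).map fun um => (um.1, um.2, i, 1)

def expB (r s : ℕ) : List (ℕ × ℤ × ℕ × ℕ) :=
  [1, 2, 3].filterMap fun j => (T.chain s r j).map fun um => (um.1, (-1) ^ j * um.2, 1, j)

/-- The image of a term under `x_r(c t^a u^b)`. -/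
def actP (r : ℕ) (c : ℤ) (a b : ℕ) : PTerm → List PTerm
  | (.z, _, _) => []
  | (.ht h m, i, j) => [(.ht h m, i, j), (.rt r (-(T.pair h r) * c * m), i + a, j + b)]
  | (.rt s m, i, j) =>
    bif Nat.beq s r then [(.rt s m, i, j)]
    else bif Nat.beq s (T.neg r) then
      [(.rt s m, i, j), (.ht r (c * m), i + a, j + b), (.rt r (-(c * c) * m), i + 2 * a, j + 2 * b)]
    else (.rt s m, i, j) :: ([1, 2, 3].filterMap fun k =>
      (T.chain r s k).map fun um => (Term.rt um.1 (um.2 * c ^ k * m), i + k * a, j + k * b))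

/-- Apply a word, the last letter first. -/
def actW : List (ℕ × ℤ × ℕ × ℕ) → List PTerm → List PTerm
  | [], l => l
  | (r, c, a, b) :: w, l => (actW w l).flatMap (T.actP r c a b)

def negTerm : PTerm → PTerm
  | (.z, e) => (.z, e)
  | (.ht h m, e) => (.ht h (-m), e)
  | (.rt s m, e) => (.rt s (-m), e)

def pZero (l : List PTerm) : Bool :=
  l.all fun p => T.termsZero
    ((l.filter fun q => Nat.beq q.2.1 p.2.1 && Nat.beq q.2.2 p.2.2).map Prod.fst)

/-- The formula for one pair, by expanding both sides on each basis vector. -/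
def chkBrute (r s : ℕ) : Bool :=
  let l := [(s, (1 : ℤ), 0, 1), (r, (1 : ℤ), 1, 0)]
  let rw' := (r, (1 : ℤ), 1, 0) :: (s, (1 : ℤ), 0, 1) ::
    (T.commT r s).map fun c => (c.1, c.2.1 * (-1) ^ c.2.2.1, c.2.2.1, c.2.2.2)
  (T.commT r s).all (fun c => Nat.blt c.1 T.n) &&
  allLt (fun j =>
    T.pZero (T.actW l [(.ht (T.simple j) 1, 0, 0)] ++
      (T.actW rw' [(.ht (T.simple j) 1, 0, 0)]).map negTerm)) T.rank &&
  allLt (fun x =>
    T.pZero (T.actW l [(.rt x 1, 0, 0)] ++ (T.actW rw' [(.rt x 1, 0, 0)]).map negTerm)) T.n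

/-- The check of the commutator formula for one pair. -/
def chkCommPair (r s : ℕ) : Bool :=
  (T.sum? r s).isNone || (T.chainComm r s && decide (T.commT r s = T.expA r s)) ||
    (T.chainComm s r && decide (T.commT r s = T.expB r s)) || T.chkBrute r s

def chkComm : Bool := allLt (fun r => allLt (T.chkCommPair r) T.n) T.n

end CfsgLib.Chevalley.Tbl
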