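import Cfsg.Agent.Lib.Chevalley.Datum
import Cfsg.Agent.Lib.Chevalley.CommCheck

/-!
Chevalley's commutator formula.
-/

set_option autoImplicit false

namespace CfsgLib.Chevalley.Tbl

open Finset

variable {T : Tbl}

/-- A product of root elements with monomial parameters `c t^i u^j`. -/
def wordX (T : Tbl) (R : Type*) [CommRing R] (t u : R) (w : List (ℕ × ℤ × ℕ × ℕ)) :
    Matrix T.I T.I R :=
  (w.map fun c => X R c.1 ((c.2.1 : R) * t ^ c.2.2.1 * u ^ c.2.2.2)).prod

theorem map_wordX {R R' : Type*} [CommRing R] [CommRing R'] (f : R →+* R') (t u : R)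
    (w : List (ℕ × ℤ × ℕ × ℕ)) :
    f.mapMatrix (T.wordX R t u w) = T.wordX R' (f t) (f u) w := by
  rw [wordX, wordX, map_list_prod, List.map_map]
  congr 1
  refine List.map_congr_left fun c _ => ?_
  simp only [Function.comp, map_X, map_mul, map_pow, map_intCast]

/-- The formula over a ring. -/
def Comm (T : Tbl) (R : Type*) [CommRing R] (r s : ℕ) (t u : R) : Prop :=
  X (T := T) R s u * X R r t = X R r t * X R s u *
    T.wordX R t u ((T.commT r s).map fun c => (c.1, (-1) ^ c.2.2.1 * c.2.1, c.2.2.1, c.2.2.2))

variable (hT : T.Valid)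
include hT

theorem comm_descend {r s : ℕ}
    (h : T.Comm (MvPolynomial (Fin 2) ℚ) r s (MvPolynomial.X 0) (MvPolynomial.X 1))
    {R : Type*} [CommRing R] (t u : R) : T.Comm R r s t u := by
  have hZ : T.Comm (MvPolynomial (Fin 2) ℤ) r s (MvPolynomial.X 0) (MvPolynomial.X 1) := by
    have hinj : Function.Injective ((MvPolynomial.map (σ := Fin 2) (Int.castRingHom ℚ)).mapMatrix
        (m := T.I)) := by
      intro A B hAB
      apply Matrix.ext
      intro i j
      exact MvPolynomial.map_injective _ (RingHom.injective_int _) (congrFun (congrFun hAB i) j)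
    apply hinj
    simp only [map_mul, map_X, map_wordX, MvPolynomial.map_X]
    exact h
  have := congrArg ((MvPolynomial.eval₂Hom (Int.castRingHom R) ![t, u]).mapMatrix (m := T.I)) hZ
  simp only [map_mul, map_X, map_wordX, MvPolynomial.eval₂Hom_X'] at this
  exact this

section Rat

variable {R : Type*} [CommRing R] [Algebra ℚ R]

theorem pow_smul_A {v : ℕ} (hv : v < T.n) (a : R) (k : ℕ) :
    (a • castM (T := T) R (T.A v 1)) ^ k =
      ((k.factorial : R) * a ^ k) • castM R (T.A v k) := by
  rw [smul_pow, ← map_pow, pow_A_one hT v hv, castM_smul, smul_smul, Int.cast_natCast, mul_comm]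

theorem isNilpotent_smul_A {v : ℕ} (hv : v < T.n) (a : R) :
    IsNilpotent (a • castM (T := T) R (T.A v 1)) :=
  ⟨4, by rw [pow_smul_A hT hv, A_eq_zero hT hv le_rfl, map_zero, smul_zero]⟩

theorem exp_smul_A {v : ℕ} (hv : v < T.n) (a : R) :
    IsNilpotent.exp (a • castM (T := T) R (T.A v 1)) = X R v a := by
  rw [IsNilpotent.exp_eq_sum (k := 4)
    (by rw [pow_smul_A hT hv, A_eq_zero hT hv le_rfl, map_zero, smul_zero])]
  refine Finset.sum_congr rfl fun k _ => ?_
  rw [pow_smul_A hT hv, mul_smul, Nat.cast_smul_eq_nsmul R, ← Nat.cast_smul_eq_nsmul ℚ,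
    inv_smul_smul₀ (Nat.cast_ne_zero.mpr (Nat.factorial_ne_zero k))]

omit hT in
theorem conj_pow {M : Type*} [Monoid M] (g g' a : M) (h : g' * g = 1) (k : ℕ) :
    g * g' = 1 → (g * a * g') ^ k = g * a ^ k * g' := by
  intro h'
  induction k with
  | zero => simp [h']
  | succ k ih =>
    rw [pow_succ, ih, pow_succ]
    calc g * a ^ k * g' * (g * a * g') = g * a ^ k * (g' * g) * a * g' := by simp only [mul_assoc]
      _ = g * (a ^ k * a) * g' := by rw [h, mul_one]; simp only [mul_assoc]

omit hT in
theorem exp_conj {A : Type*} [Ring A] [Algebra ℚ A] (g g' a : A) (h : g * g' = 1) (h' : g' * g = 1)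
    (ha : IsNilpotent a) : g * IsNilpotent.exp a * g' = IsNilpotent.exp (g * a * g') := by
  obtain ⟨k, hk⟩ := ha
  rw [IsNilpotent.exp_eq_sum hk,
    IsNilpotent.exp_eq_sum (show (g * a * g') ^ k = 0 by rw [conj_pow g g' a h' k h, hk]; simp),
    Finset.mul_sum, Finset.sum_mul]
  refine Finset.sum_congr rfl fun i _ => ?_
  rw [mul_smul_comm, smul_mul_assoc, conj_pow g g' a h' i h]

/-- `u t^k M_{r,s,k}` times `ad` of the `k`-th root of the chain. -/
noncomputable def chainTerm (r s : ℕ) (t u : R) (k : ℕ) : Matrix T.I T.I R :=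
  match T.chain r s k with
  | none => 0
  | some (v, m) => ((m : R) * t ^ k * u) • castM R (T.A v 1)

theorem commute_A {a b : ℕ} (ha : a < T.n) (hb : b < T.n) (h : T.sum? a b = none)
    (hne : b ≠ T.neg a) : Commute (castM (T := T) R (T.A a 1)) (castM R (T.A b 1)) := by
  have hd := der_root hT ha (Sum.inr ⟨b, hb⟩)
  have e : (fun row => T.A a 1 row (Sum.inr ⟨b, hb⟩)) = T.colA a 1 (Sum.inr ⟨b, hb⟩) := rfl
  rw [e, colA_one hT ha ⟨b, hb⟩ hne, h] at hd
  simp only [optVec, map_zero] at hd
  exact (show Commute (T.A a 1) (T.A b 1) from sub_eq_zero.mp hd).map (castM R)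

variable {r s : ℕ} (hr : r < T.n) (hs : s < T.n)
include hr hs

theorem chainTerm_nilpotent (t u : R) (k : ℕ) : IsNilpotent (chainTerm (T := T) r s t u k) := by
  unfold chainTerm
  cases h : T.chain r s k with
  | none => exact IsNilpotent.zero
  | some p => exact isNilpotent_smul_A hT (chain_bound hT hr hs k _ _ h) _

theorem chainTerm_commute (hc : T.chainComm r s = true) (t u t' u' : R) (i j : ℕ) (hi : i < 4)
    (hj : j < 4) : Commute (chainTerm (T := T) r s t u i) (chainTerm r s t' u' j) := by
  unfold chainTerm
  cases h : T.chain r s i with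
  | none => exact Commute.zero_left _
  | some p =>
    cases h' : T.chain r s j with
    | none => exact Commute.zero_right _
    | some q =>
      refine ((?_ : Commute _ _).smul_left _).smul_right _
      have hp : p.1 ∈ [0, 1, 2, 3].filterMap (fun i => (T.chain r s i).map Prod.fst) :=
        List.mem_filterMap.mpr ⟨i, by simp; omega, by rw [h]; rfl⟩
      have hq : q.1 ∈ [0, 1, 2, 3].filterMap (fun i => (T.chain r s i).map Prod.fst) :=
        List.mem_filterMap.mpr ⟨j, by simp; omega, by rw [h']; rfl⟩
      have hb := List.all_eq_true.mp (List.all_eq_true.mp hc _ hp) _ hq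
      rcases Bool.or_eq_true _ _ |>.mp hb with he | he
      · rw [Nat.eq_of_beq_eq_true he]
      · simp only [Bool.and_eq_true, Option.isNone_iff_eq_none, Bool.not_eq_true'] at he
        refine commute_A hT (chain_bound hT hr hs i _ _ h) (chain_bound hT hr hs j _ _ h') he.1 ?_
        intro e
        rw [e] at he
        simp at he

/-- The product over the chain. -/
noncomputable def chainProd (t u : R) : Matrix T.I T.I R :=
  IsNilpotent.exp (chainTerm (T := T) r s t u 1 + chainTerm r s t u 2 + chainTerm r s t u 3)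

theorem exp_chainTerm (t u : R) (k : ℕ) :
    IsNilpotent.exp (chainTerm (T := T) r s t u k) =
      match T.chain r s k with
      | none => 1
      | some (v, m) => X R v ((m : R) * t ^ k * u) := by
  unfold chainTerm
  cases h : T.chain r s k with
  | none => exact IsNilpotent.exp_zero
  | some p => exact exp_smul_A hT (chain_bound hT hr hs k _ _ h) _

variable (hc : T.chainComm r s = true)
include hc

theorem nil_sum (t u : R) :
    IsNilpotent (chainTerm (T := T) r s t u 1 + chainTerm r s t u 2) ∧
    IsNilpotent (chainTerm (T := T) r s t u 1 + chainTerm r s t u 2 + chainTerm r s t u 3) := by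
  have h12 := (chainTerm_commute hT hr hs hc t u t u 1 2 (by norm_num) (by norm_num)).isNilpotent_add
    (chainTerm_nilpotent hT hr hs t u 1) (chainTerm_nilpotent hT hr hs t u 2)
  refine ⟨h12, Commute.isNilpotent_add ?_ h12 (chainTerm_nilpotent hT hr hs t u 3)⟩
  exact (chainTerm_commute hT hr hs hc t u t u 1 3 (by norm_num) (by norm_num)).add_left
    (chainTerm_commute hT hr hs hc t u t u 2 3 (by norm_num) (by norm_num))

theorem chainProd_eq (t u : R) :
    chainProd (T := T) (r := r) (s := s) t u = IsNilpotent.exp (chainTerm r s t u 1) *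
      IsNilpotent.exp (chainTerm r s t u 2) * IsNilpotent.exp (chainTerm r s t u 3) := by
  rw [chainProd, IsNilpotent.exp_add_of_commute
    ((chainTerm_commute hT hr hs hc t u t u 1 3 (by norm_num) (by norm_num)).add_left
      (chainTerm_commute hT hr hs hc t u t u 2 3 (by norm_num) (by norm_num)))
    (nil_sum hT hr hs hc t u).1 (chainTerm_nilpotent hT hr hs t u 3),
    IsNilpotent.exp_add_of_commute (chainTerm_commute hT hr hs hc t u t u 1 2 (by norm_num) (by norm_num))
      (chainTerm_nilpotent hT hr hs t u 1) (chainTerm_nilpotent hT hr hs t u 2)]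

theorem X_conj_X (hrs : s ≠ r) (hneg : s ≠ T.neg r) (t u : R) :
    X (T := T) R r t * X R s u * X R r (-t) = X R s u * chainProd (T := T) (r := r) (s := s) t u := by
  have hgg : X R r t * X R r (-t) = (1 : Matrix T.I T.I R) := X_mul_X_neg hT R hr t
  have hgg' : X R r (-t) * X R r t = (1 : Matrix T.I T.I R) := by
    rw [X_mul hT R hr, neg_add_cancel, X_zero]
  rw [← exp_smul_A hT hs u, exp_conj _ _ _ hgg hgg' (isNilpotent_smul_A hT hs u)]
  have hcol : (fun b => X (T := T) R r t b (Sum.inr ⟨s, hs⟩)) =
      ∑ k ∈ range 4, t ^ k • fun b => ((T.A r k b (Sum.inr ⟨s, hs⟩) : ℤ) : R) := by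
    funext b
    simp [X, Matrix.sum_apply, castM_apply]
  have hk : ∀ k, 1 ≤ k → u • t ^ k • adR (T := T) R (fun b => ((T.A r k b (Sum.inr ⟨s, hs⟩) : ℤ) : R)) =
      chainTerm r s t u k := by
    intro k hk
    obtain ⟨j, rfl⟩ : ∃ j, k = j + 1 := ⟨k - 1, by omega⟩
    rw [adR_cast]
    unfold chainTerm
    have : (fun b => T.A r (j + 1) b (Sum.inr ⟨s, hs⟩)) = T.optVec (T.chain r s (j + 1)) := by
      funext b; simp [A_apply, colA, hrs, hneg]
    rw [this]
    cases hch : T.chain r s (j + 1) with
    | none => simp [optVec]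
    | some p =>
      simp only [optVec]
      rw [map_smul, ad_rootVec (chain_bound hT hr hs _ _ _ hch), castM_smul, smul_smul, smul_smul]
      congr 1
      ring
  have h0 : adR (T := T) R (fun b => ((T.A r 0 b (Sum.inr ⟨s, hs⟩) : ℤ) : R)) = castM R (T.A s 1) := by
    rw [adR_cast]
    congr 1
    rw [show T.A s 1 = T.adM (Sum.inr ⟨s, hs⟩) from rfl, ← ad_single]
    congr 1
  have hmain : X R r t * (u • castM (T := T) R (T.A s 1)) * X R r (-t) =
      u • castM R (T.A s 1) +
        (chainTerm r s t u 1 + chainTerm r s t u 2 + chainTerm r s t u 3) := by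
    rw [mul_smul_comm, smul_mul_assoc, show T.A s 1 = T.adM (Sum.inr ⟨s, hs⟩) from rfl,
      X_conj_adM hT R hr t, hcol, map_sum, ← hk 1 le_rfl, ← hk 2 (by norm_num), ← hk 3 (by norm_num)]
    simp only [sum_range_succ, sum_range_zero, zero_add, map_smul, h0, pow_zero, one_smul, smul_add]
    rw [show T.adM (Sum.inr ⟨s, hs⟩) = T.A s 1 from rfl]
    abel
  rw [hmain, IsNilpotent.exp_add_of_commute ?_ (isNilpotent_smul_A hT hs u) (nil_sum hT hr hs hc t u).2]
  · rfl
  · have e0 : chainTerm (T := T) r s t u 0 = u • castM R (T.A s 1) := by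
      simp [chainTerm, chain]
    rw [← e0]
    exact ((chainTerm_commute hT hr hs hc t u t u 0 1 (by norm_num) (by norm_num)).add_right
      (chainTerm_commute hT hr hs hc t u t u 0 2 (by norm_num) (by norm_num))).add_right
      (chainTerm_commute hT hr hs hc t u t u 0 3 (by norm_num) (by norm_num))

theorem chainProd_inv (t u : R) :
    chainProd (T := T) (r := r) (s := s) t u * chainProd (T := T) (r := r) (s := s) t (-u) = 1 := by
  have hneg : ∀ k, chainTerm (T := T) r s t (-u) k = -chainTerm r s t u k := by
    intro k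
    unfold chainTerm
    cases T.chain r s k with
    | none => simp
    | some p => simp
  simp only [chainProd, hneg, ← neg_add]
  have hn := (nil_sum hT hr hs hc t u).2
  rw [← IsNilpotent.exp_add_of_commute (Commute.refl _).neg_right hn hn.neg, add_neg_cancel,
    IsNilpotent.exp_zero]

omit hc in
theorem chainProd_word (hc : T.chainComm r s = true) (t u : R) :
    chainProd (T := T) (r := r) (s := s) t u = T.wordX R t u
      (([1, 2, 3] : List ℕ).filterMap fun i => (T.chain r s i).map fun um => (um.1, um.2, i, 1)) := by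
  rw [chainProd_eq hT hr hs hc, exp_chainTerm hT hr hs, exp_chainTerm hT hr hs, exp_chainTerm hT hr hs]
  rcases e1 : T.chain r s 1 with _ | p1 <;> rcases e2 : T.chain r s 2 with _ | p2 <;>
    rcases e3 : T.chain r s 3 with _ | p3 <;>
    simp [wordX, List.filterMap, e1, e2, e3, mul_assoc]

end Rat

section Cases

variable {r s : ℕ} (hr : r < T.n) (hs : s < T.n) (hrs : s ≠ r) (hneg : s ≠ T.neg r)
include hr hs hrs hneg

theorem comm_caseA_rat (hc : T.chainComm r s = true) (he : T.commT r s = T.expA r s)
    {R : Type*} [CommRing R] [Algebra ℚ R] (t' u' : R) : T.Comm R r s t' u' := by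
  have h := X_conj_X hT hr hs hc hrs hneg (-t') u'
  rw [neg_neg, chainProd_word hT hr hs hc] at h
  have hw : T.wordX _ t' u'
      ((T.commT r s).map fun c => (c.1, (-1) ^ c.2.2.1 * c.2.1, c.2.2.1, c.2.2.2)) =
      T.wordX _ (-t') u'
        (([1, 2, 3] : List ℕ).filterMap fun i => (T.chain r s i).map fun um => (um.1, um.2, i, 1)) := by
    rw [he, expA, wordX, wordX, List.map_map, List.map_filterMap, List.map_filterMap]
    congr 1
    refine List.filterMap_congr fun i _ => ?_
    cases T.chain r s i with
    | none => rfl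
    | some p => simp only [Option.map_some, Function.comp]; push_cast; rw [neg_pow t']; ring_nf
  show _ = _
  rw [hw, mul_assoc, ← h, ← mul_assoc, ← mul_assoc, X_mul_X_neg hT _ hr t', one_mul]

theorem comm_caseB_rat (hc : T.chainComm s r = true) (he : T.commT r s = T.expB r s)
    {R : Type*} [CommRing R] [Algebra ℚ R] (t' u' : R) : T.Comm R r s t' u' := by
  have hneg' : r ≠ T.neg s := fun e => hneg (by rw [e, neg_neg' hs])
  have h := X_conj_X hT hs hr hc (Ne.symm hrs) hneg' (-u') t'
  rw [neg_neg] at h
  have h2 : (X R r t' : Matrix T.I T.I R) * X R s u' =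
      X R s u' * X R r t' * chainProd (T := T) (r := s) (s := r) (-u') t' := by
    rw [mul_assoc (X (T := T) R s u'), ← h, ← mul_assoc, ← mul_assoc,
      X_mul_X_neg hT _ hs u', one_mul]
  have hw : T.wordX _ t' u'
      ((T.commT r s).map fun c => (c.1, (-1) ^ c.2.2.1 * c.2.1, c.2.2.1, c.2.2.2)) =
      chainProd (T := T) (r := s) (s := r) (-u') (-t') := by
    rw [chainProd_word hT hs hr hc, he, expB, wordX, wordX, List.map_map, List.map_filterMap,
      List.map_filterMap]
    congr 1
    refine List.filterMap_congr fun i _ => ?_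
    cases T.chain s r i with
    | none => rfl
    | some p => simp only [Option.map_some, Function.comp]; push_cast; rw [neg_pow u']; ring_nf
  show _ = _
  rw [hw, h2, mul_assoc (X (T := T) R s u' * X R r t'), chainProd_inv hT hs hr hc, mul_one]

theorem comm_caseA (hc : T.chainComm r s = true) (he : T.commT r s = T.expA r s)
    {R : Type*} [CommRing R] (t u : R) : T.Comm R r s t u :=
  comm_descend hT (comm_caseA_rat hT hr hs hrs hneg hc he _ _) t u

theorem comm_caseB (hc : T.chainComm s r = true) (he : T.commT r s = T.expB r s)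
    {R : Type*} [CommRing R] (t u : R) : T.Comm R r s t u :=
  comm_descend hT (comm_caseB_rat hT hr hs hrs hneg hc he _ _) t u

end Cases

/-- The vector of a monomial term. -/
def pVec (T : Tbl) {R : Type*} [CommRing R] (t u : R) (p : PTerm) : T.I → R :=
  (t ^ p.2.1 * u ^ p.2.2) • fun b => ((T.termVec p.1 b : ℤ) : R)

section Brute

variable {R : Type*} [CommRing R] (t u : R)

theorem X_mulVec_cast (r : ℕ) (a : R) (v : T.I → ℤ) :
    (X R r a : Matrix T.I T.I R).mulVec (fun b => (v b : R)) =
      (fun b => (v b : R)) + a • (fun b => (((T.A r 1).mulVec v b : ℤ) : R)) +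
        a ^ 2 • (fun b => (((T.A r 2).mulVec v b : ℤ) : R)) +
        a ^ 3 • (fun b => (((T.A r 3).mulVec v b : ℤ) : R)) := by
  have hk : ∀ k, (castM R (T.A r k) : Matrix T.I T.I R).mulVec (fun b => (v b : R)) =
      fun b => (((T.A r k).mulVec v b : ℤ) : R) := fun k => by
    funext b
    exact (RingHom.map_mulVec (Int.castRingHom R) (T.A r k) v b).symm
  simp only [X, sum_range_succ, sum_range_zero, zero_add, Matrix.add_mulVec, Matrix.smul_mulVec, hk,
    pow_zero, pow_one, one_smul, A_zero, map_one, Matrix.one_mulVec]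

theorem pVec_actP {r : ℕ} (hr : r < T.n) (c : ℤ) (a b : ℕ) (p : PTerm)
    (hp : ∀ v m, p.1 = .rt v m → v < T.n) :
    ((T.actP r c a b p).map (T.pVec t u)).sum =
      (X R r ((c : R) * t ^ a * u ^ b) : Matrix T.I T.I R).mulVec (T.pVec t u p) := by
  obtain ⟨x, i, j⟩ := p
  simp only [pVec, Matrix.mulVec_smul, X_mulVec_cast hT]
  rcases x with _ | ⟨s, m⟩ | ⟨h, m⟩
  · funext z
    simp [actP, termVec]
  · have hs := hp s m rfl
    simp only [termVec, Matrix.mulVec_smul, A_mulVec_rootVec _ _ hs, actP]
    by_cases h1 : s = r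
    · subst h1
      funext z
      simp [Nat.beq_refl, termVec, colA, pVec]
    have b1 : Nat.beq s r = false := by
      rw [Bool.eq_false_iff]; exact fun e => h1 (Nat.eq_of_beq_eq_true e)
    simp only [b1, cond_false, colA, if_neg h1]
    by_cases h2 : s = T.neg r
    · subst h2
      funext z
      simp [termVec, pVec, Nat.beq_refl]
      ring
    have b2 : Nat.beq s (T.neg r) = false := by
      rw [Bool.eq_false_iff]; exact fun e => h2 (Nat.eq_of_beq_eq_true e)
    simp only [b2, cond_false, if_neg h2]
    funext z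
    rcases e1 : T.chain r s 1 with _ | ⟨u1, m1⟩
    · simp [List.filterMap, e1, chain_none_mono e1, chain_none_mono (chain_none_mono e1), termVec,
        optVec, pVec]
    rcases e2 : T.chain r s 2 with _ | ⟨u2, m2⟩
    · simp [List.filterMap, e1, e2, chain_none_mono e2, termVec, optVec, pVec]
      ring
    rcases e3 : T.chain r s 3 with _ | ⟨u3, m3⟩
    · simp [List.filterMap, e1, e2, e3, termVec, optVec, pVec]
      ring
    · simp [List.filterMap, e1, e2, e3, termVec, optVec, pVec]
      ring
  · simp only [termVec, Matrix.mulVec_smul, A_mulVec_coVec_one,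
      A_mulVec_coVec_high hT (r := r) (b := h) (k := 2) le_rfl,
      A_mulVec_coVec_high hT (r := r) (b := h) (k := 3) (by norm_num)]
    funext z
    simp [actP, termVec, pVec]
    ring

theorem actP_lt {r : ℕ} (hr : r < T.n) (c : ℤ) (a b : ℕ) (p : PTerm)
    (hp : ∀ v m, p.1 = .rt v m → v < T.n) :
    ∀ q ∈ T.actP r c a b p, ∀ v m, q.1 = Term.rt v m → v < T.n := by
  obtain ⟨x, i, j⟩ := p
  intro q hq v m hv
  rcases x with _ | ⟨s, k⟩ | ⟨h, k⟩
  · simp [actP] at hq
  · have hs := hp s k rfl
    simp only [actP] at hq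
    rcases hb : Nat.beq s r with _ | _ <;> simp only [hb, cond_true, cond_false] at hq
    · rcases hb' : Nat.beq s (T.neg r) with _ | _ <;> simp only [hb', cond_true, cond_false] at hq
      · simp at hq
        rcases hq with rfl | ⟨w, z, hw, rfl⟩ | ⟨w, z, hw, rfl⟩ | ⟨w, z, hw, rfl⟩
        · simp at hv; exact hv.1 ▸ hs
        all_goals (simp at hv; exact hv.1 ▸ chain_bound hT hr hs _ _ _ hw)
      · simp at hq
        rcases hq with rfl | rfl | rfl <;> simp at hv
        · exact hv.1 ▸ hs
        · exact hv.1 ▸ hr
    · simp at hq; subst hq; simp at hv; exact hv.1 ▸ hs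
  · simp [actP] at hq
    rcases hq with rfl | rfl <;> simp at hv
    exact hv.1 ▸ hr

theorem pVec_actW (w : List (ℕ × ℤ × ℕ × ℕ)) (hw : ∀ c ∈ w, c.1 < T.n) (p : PTerm)
    (hp : ∀ v m, p.1 = .rt v m → v < T.n) :
    ((T.actW w [p]).map (T.pVec t u)).sum = (T.wordX R t u w).mulVec (T.pVec t u p) ∧
      ∀ q ∈ T.actW w [p], ∀ v m, q.1 = Term.rt v m → v < T.n := by
  induction w with
  | nil => exact ⟨by simp [actW, wordX], by simpa [actW] using hp⟩
  | cons c w ih =>
    obtain ⟨ih1, ih2⟩ := ih fun d hd => hw d (by simp [hd])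
    obtain ⟨r, z, a, b⟩ := c
    have hr : r < T.n := hw (r, z, a, b) (by simp)
    have hflat : ∀ l : List PTerm, (∀ q ∈ l, ∀ v m, q.1 = Term.rt v m → v < T.n) →
        ((l.flatMap (T.actP r z a b)).map (T.pVec t u)).sum =
          (X R r ((z : R) * t ^ a * u ^ b) : Matrix T.I T.I R).mulVec (l.map (T.pVec t u)).sum := by
      intro l hl
      induction l with
      | nil => simp
      | cons q l ihl =>
        rw [List.flatMap_cons, List.map_append, List.sum_append,
          pVec_actP hT t u hr z a b q (hl q (by simp)), ihl fun x hx => hl x (by simp [hx]),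
          List.map_cons, List.sum_cons, Matrix.mulVec_add]
    refine ⟨?_, ?_⟩
    · rw [actW, hflat _ ih2, ih1, wordX, wordX, Matrix.mulVec_mulVec, List.map_cons, List.prod_cons]
    · intro q hq
      rw [actW] at hq
      obtain ⟨q', hq', hqq⟩ := List.mem_flatMap.mp hq
      exact actP_lt hT hr z a b q' (ih2 q' hq') q hqq

theorem sum_pVec_eq_zero {l : List PTerm} (h : T.pZero l = true) : (l.map (T.pVec t u)).sum = 0 := by
  classical
  simp only [pZero, List.all_eq_true] at h
  have key : ∀ (n : ℕ) (l' : List PTerm), l'.length ≤ n →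
      (∀ e : ℕ × ℕ, ((l'.filter fun q => decide (q.2 = e)).map fun q => T.termVec q.1).sum = 0) →
      (l'.map (T.pVec t u)).sum = 0 := by
    intro n
    induction n with
    | zero => intro l' hl _; simp [List.length_eq_zero_iff.mp (Nat.le_zero.mp hl)]
    | succ n ih =>
      intro l' hl hz
      cases l' with
      | nil => simp
      | cons p rest =>
        set A := (p :: rest).filter fun q => decide (q.2 = p.2)
        set B := (p :: rest).filter fun q => !decide (q.2 = p.2)
        have hperm : (p :: rest).Perm (A ++ B) := (List.filter_append_perm _ _).symm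
        rw [(hperm.map _).sum_eq, List.map_append, List.sum_append]
        have hA : (A.map (T.pVec t u)).sum = 0 := by
          have hAe : ∀ q ∈ A, q.2 = p.2 := fun q hq => by simpa using (List.mem_filter.mp hq).2
          have hz' := hz p.2
          funext b
          have hb := congrFun hz' b
          rw [list_sum_apply] at hb
          have : ∀ (L : List PTerm), (∀ q ∈ L, q.2 = p.2) → (L.map (T.pVec t u)).sum b =
              t ^ p.2.1 * u ^ p.2.2 * (((L.map fun q => T.termVec q.1 b).sum : ℤ) : R) := by
            intro L hL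
            induction L with
            | nil => simp
            | cons q L ihL =>
              simp [ihL (fun x hx => hL x (by simp [hx])), pVec, hL q (by simp), mul_add]
          rw [this A hAe, hb]; simp
        have hB : (B.map (T.pVec t u)).sum = 0 := by
          apply ih
          · have hBA := hperm.length_eq
            have : 1 ≤ A.length := by
              simp [A, List.filter_cons]
            simp only [List.length_append] at hBA
            simp only [List.length_cons] at hl hBA
            omega
          · intro e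
            rw [List.filter_filter]
            by_cases he : e = p.2
            · rw [List.filter_eq_nil_iff.mpr (by rintro q _; simp [he])]; rfl
            · have hfun : (fun q : PTerm => (decide (q.2 = e) && !decide (q.2 = p.2))) =
                  fun q => decide (q.2 = e) := by
                funext q
                by_cases hq : q.2 = e <;> simp [hq, he]
              rw [hfun]; exact hz e
        rw [hA, hB, add_zero]
  refine key l.length l le_rfl fun e => ?_
  by_cases hex : ∃ p ∈ l, p.2 = e
  · obtain ⟨p, hp, rfl⟩ := hex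
    have := sum_termVec_eq_zero (h p hp)
    rw [List.map_map] at this
    have hfun : (fun q : PTerm => Nat.beq q.2.1 p.2.1 && Nat.beq q.2.2 p.2.2) =
        fun q => decide (q.2 = p.2) := by
      funext q
      rw [Bool.eq_iff_iff]
      simp [Prod.ext_iff]
    rw [hfun] at this
    exact this
  · rw [List.filter_eq_nil_iff.mpr fun q hq => by simpa using fun e' => hex ⟨q, hq, e'⟩]; rfl

omit hT in
theorem pVec_negTerm (p : PTerm) : T.pVec t u (negTerm p) = -T.pVec t u p := by
  obtain ⟨x, e⟩ := p
  rcases x with _ | ⟨v, m⟩ | ⟨v, m⟩ <;> funext b <;> simp [negTerm, pVec, termVec]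

theorem comm_brute {r s : ℕ} (hr : r < T.n) (hs : s < T.n) (h : T.chkBrute r s = true) :
    T.Comm R r s t u := by
  simp only [chkBrute, Bool.and_eq_true, allLt_iff, List.all_eq_true] at h
  obtain ⟨⟨hb, hH⟩, hR⟩ := h
  set w := (T.commT r s).map fun c => (c.1, c.2.1 * (-1) ^ c.2.2.1, c.2.2.1, c.2.2.2)
  set L : List (ℕ × ℤ × ℕ × ℕ) := [(s, 1, 0, 1), (r, 1, 1, 0)]
  set L' : List (ℕ × ℤ × ℕ × ℕ) := (r, 1, 1, 0) :: (s, 1, 0, 1) :: w
  have hL : ∀ c ∈ L, c.1 < T.n := by simp [L, hr, hs]
  have hL' : ∀ c ∈ L', c.1 < T.n := by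
    intro c hc
    simp only [L', List.mem_cons] at hc
    rcases hc with rfl | rfl | hc
    · exact hr
    · exact hs
    · obtain ⟨d, hd, rfl⟩ := List.mem_map.mp hc
      exact Nat.le_of_ble_eq_true (hb d hd)
  have key : ∀ p : PTerm, (∀ v m, p.1 = .rt v m → v < T.n) →
      T.pZero (T.actW L [p] ++ (T.actW L' [p]).map negTerm) = true →
      (T.wordX R t u L).mulVec (T.pVec t u p) = (T.wordX R t u L').mulVec (T.pVec t u p) := by
    intro p hp hz
    have h0 := sum_pVec_eq_zero hT t u hz
    rw [List.map_append, List.sum_append, List.map_map,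
      List.map_congr_left (f := T.pVec t u ∘ negTerm) (g := fun q => -T.pVec t u q) (fun q _ => pVec_negTerm (T := T) t u q),
      show ((T.actW L' [p]).map fun q => -T.pVec t u q).sum = -((T.actW L' [p]).map (T.pVec t u)).sum
        by induction (T.actW L' [p]) with
          | nil => simp
          | cons q l ih => simp [ih]; abel,
      (pVec_actW hT t u L hL p hp).1, (pVec_actW hT t u L' hL' p hp).1] at h0
    rw [← sub_eq_zero, sub_eq_add_neg]; exact h0
  have hLX : T.wordX R t u L = X R s u * X R r t := by simp [wordX, L]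
  have hL'X : T.wordX R t u L' = X R r t * X R s u * T.wordX R t u w := by
    simp [wordX, L', mul_assoc]
  have hweq : (T.commT r s).map (fun c => (c.1, (-1) ^ c.2.2.1 * c.2.1, c.2.2.1, c.2.2.2)) = w :=
    List.map_congr_left fun c _ => by rw [mul_comm]
  show _ = _
  rw [hweq, ← hLX, ← hL'X]
  apply Matrix.ext_of_mulVec_single
  intro c
  rcases c with j | x
  · have h1 := key (.ht (T.simple j) 1, 0, 0) (fun v m e => by cases e) (hH j j.2)
    have e : T.pVec t u (.ht (T.simple j) 1, 0, 0) = Pi.single (Sum.inl j) 1 := by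
      funext b
      simp [pVec, termVec, coVec_simple hT j.2, Pi.single_apply]
    rwa [e] at h1
  · have h1 := key (.rt x.val 1, 0, 0) (fun v m e => by
      simp only [Term.rt.injEq] at e; exact e.1 ▸ x.2) (hR x x.2)
    have e : T.pVec t u (.rt x.val 1, 0, 0) = Pi.single (Sum.inr x) 1 := by
      funext b
      simp [pVec, termVec, rootVec_eq x.2, Pi.single_apply]
    rwa [e] at h1

end Brute

theorem commT_eq_nil {r s : ℕ} (hr : r < T.n) (hs : s < T.n) (h : T.sum? r s = none) :
    T.commT r s = [] := by
  have h1 : T.chain r s 1 = none := by rw [chain_one, h]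
  have h1' : T.chain s r 1 = none := by rw [chain_one]; exact (sum?_none hT hr hs h).1
  simp [commT, h1, h1', chain_none_mono h1, chain_none_mono h1', chain_none_mono (chain_none_mono h1),
    chain_none_mono (chain_none_mono h1')]

/-- Chevalley's commutator formula over every commutative ring. -/
theorem comm_formula (hC : T.chkComm = true) {r s : ℕ} (hr : r < T.n) (hs : s < T.n) (hrs : s ≠ r)
    (hneg : s ≠ T.neg r) {R : Type*} [CommRing R] (t u : R) : T.Comm R r s t u := by
  have h := allLt_iff.mp (allLt_iff.mp hC r hr) s hs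
  simp only [chkCommPair, Bool.or_eq_true, Bool.and_eq_true, decide_eq_true_eq,
    Option.isNone_iff_eq_none] at h
  rcases h with ((h | ⟨h, he⟩) | ⟨h, he⟩) | h
  · refine comm_caseA hT hr hs hrs hneg ?_ ?_ t u
    · have h1 : T.chain r s 1 = none := by rw [chain_one, h]
      simp [chainComm, h1, chain_none_mono h1, chain_none_mono (chain_none_mono h1),
        show T.chain r s 0 = some (s, 1) from rfl]
    · have h1 : T.chain r s 1 = none := by rw [chain_one, h]
      rw [commT_eq_nil hT hr hs h]
      simp [expA, h1, chain_none_mono h1, chain_none_mono (chain_none_mono h1)]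
  · exact comm_caseA hT hr hs hrs hneg h he t u
  · exact comm_caseB hT hr hs hrs hneg h he t u
  · exact comm_brute hT t u hr hs h

theorem datum_commTerms {r s : ℕ} (hr : r < T.n) (hs : s < T.n) :
    T.datum.commTerms r s = T.commT r s := by
  have cr : ∀ {a b k : ℕ}, a < T.n → b < T.n → 1 ≤ k →
      T.datum.chainRoot a b k = (T.chain a b k).map Prod.fst := fun ha hb hk => chainRoot_eq hT ha hb hk
  have cm : ∀ {a b k : ℕ}, a < T.n → b < T.n → 1 ≤ k →
      T.datum.chainM a b k = ((T.chain a b k).map Prod.snd).getD 0 := by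
    intro a b k ha hb hk
    have hd := chainEntry_eq hT ha hb
    have hroot := cr (a := a) (b := b) (k := k) ha hb hk
    unfold Cfsg.Lie.ChevalleyDatum.chainM
    unfold Cfsg.Lie.ChevalleyDatum.chainRoot at hroot
    rw [hd] at hroot ⊢
    cases hl : (T.chainList a b)[k - 1]? with
    | none => simp [hl] at hroot ⊢; simp [hroot]
    | some p =>
      rw [hl] at hroot
      cases hc : T.chain a b k with
      | none => simp [hc] at hroot
      | some q =>
        have hm : p ∈ T.chainList a b := List.mem_of_getElem? hl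
        simp only [chainList, List.mem_filterMap] at hm
        obtain ⟨j, hj, hjp⟩ := hm
        have hjk : p = q := by
          rcases h1 : T.chain a b 1 with _ | p1
          · have : ∀ j, T.chain a b (j + 1) = none := by
              intro j; induction j with
              | zero => exact h1
              | succ j ih => exact chain_none_mono ih
            obtain ⟨i, rfl⟩ : ∃ i, k = i + 1 := ⟨k - 1, by omega⟩
            rw [this] at hc; cases hc
          have hk3 : k ≤ 3 := by
            by_contra hk3
            rw [chain_none_high hT ha hb (by omega)] at hc; cases hc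
          rcases h2 : T.chain a b 2 with _ | p2
          · have h3 := chain_none_mono h2
            interval_cases k <;> simp_all [chainList]
          rcases h3 : T.chain a b 3 with _ | p3 <;> interval_cases k <;> simp_all [chainList]
        simp [hjk]
  have h1 := cr (k := 1) hr hs le_rfl
  unfold Cfsg.Lie.ChevalleyDatum.commTerms commT
  simp only [cr hr hs (le_refl 1), cr hr hs (show 1 ≤ 2 by norm_num), cr hr hs (show 1 ≤ 3 by norm_num),
    cr hs hr (show 1 ≤ 2 by norm_num), cr hs hr (show 1 ≤ 3 by norm_num), cm hr hs (le_refl 1),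
    cm hr hs (show 1 ≤ 2 by norm_num), cm hr hs (show 1 ≤ 3 by norm_num),
    cm hs hr (show 1 ≤ 2 by norm_num), cm hs hr (show 1 ≤ 3 by norm_num)]
  refine congrArg _ ?_
  congr 1; congr 1; congr 1; congr 1; congr 1
  refine List.cons_eq_cons.mpr ⟨?_, ?_⟩
  · refine Prod.ext ?_ ?_
    · cases h : T.chain r s 3 with
      | none => rfl
      | some p => exact cr (chain_bound hT hr hs _ _ _ h) hs le_rfl
    · cases h : T.chain r s 1 with
      | none => rfl
      | some p => simp [cm (chain_bound hT hr hs _ _ _ h) hr (show 1 ≤ 2 by norm_num)]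
  · refine List.cons_eq_cons.mpr ⟨Prod.ext ?_ ?_, rfl⟩
    · cases h : T.chain s r 3 with
      | none => rfl
      | some p => exact cr (chain_bound hT hs hr _ _ _ h) hr le_rfl
    · cases h : T.chain r s 1 with
      | none => rfl
      | some p => simp [cm (chain_bound hT hr hs _ _ _ h) hs (show 1 ≤ 2 by norm_num)]

end CfsgLib.Chevalley.Tbl
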