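import Cfsg.Agent.Lib.Chevalley.Data.G2
import Cfsg.Agent.Lib.Chevalley.Data.G2Comm
import Cfsg.Agent.Lib.Chevalley.Data.B2
import Cfsg.Agent.Lib.Chevalley.Data.B2Comm
import Cfsg.Agent.Lib.Chevalley.Data.D4
import Cfsg.Agent.Lib.Chevalley.Data.D4Comm
import Cfsg.Agent.Lib.Chevalley.Data.F4
import Cfsg.Agent.Lib.Chevalley.Data.F4Comm
import Cfsg.Agent.Lib.Chevalley.Data.E6
import Cfsg.Agent.Lib.Chevalley.Data.E6Comm
import Cfsg.Agent.Lib.Chevalley.Data.E7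
import Cfsg.Agent.Lib.Chevalley.Data.E7Comm
import Cfsg.Agent.Lib.Chevalley.Data.E8
import Cfsg.Agent.Lib.Chevalley.Data.E8Comm
import Cfsg.Agent.Lib.Chevalley.Commutator

/-!
The seven tabulated Chevalley data all come from valid tables.
-/

set_option autoImplicit false

namespace CfsgLib.Chevalley

theorem exists_tbl {D : Cfsg.Lie.ChevalleyDatum}
    (hD : D ∈ [Cfsg.Lie.chevG2, Cfsg.Lie.chevB2, Cfsg.Lie.chevD4, Cfsg.Lie.chevF4, Cfsg.Lie.chevE6,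
      Cfsg.Lie.chevE7, Cfsg.Lie.chevE8]) :
    ∃ T : Tbl, T.Valid ∧ T.chkComm = true ∧ T.datum = D := by
  simp only [List.mem_cons, List.not_mem_nil, or_false] at hD
  rcases hD with rfl | rfl | rfl | rfl | rfl | rfl | rfl
  · exact ⟨_, Data.G2.valid, Data.G2.chkComm, Data.G2.datum_eq⟩
  · exact ⟨_, Data.B2.valid, Data.B2.chkComm, Data.B2.datum_eq⟩
  · exact ⟨_, Data.D4.valid, Data.D4.chkComm, Data.D4.datum_eq⟩
  · exact ⟨_, Data.F4.valid, Data.F4.chkComm, Data.F4.datum_eq⟩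
  · exact ⟨_, Data.E6.valid, Data.E6.chkComm, Data.E6.datum_eq⟩
  · exact ⟨_, Data.E7.valid, Data.E7.chkComm, Data.E7.datum_eq⟩
  · exact ⟨_, Data.E8.valid, Data.E8.chkComm, Data.E8.datum_eq⟩

end CfsgLib.Chevalley
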