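import Cfsg.Agent.Lib.Chevalley.Table

/-!
Diagonalisation certificates for Cartan matrices.
-/

set_option autoImplicit false

namespace CfsgLib.Chevalley

/-- Entry of a matrix given by rows. -/
def mEnt (M : List (List ℤ)) (i j : ℕ) : ℤ := (M.getD i []).getD j 0

/-- Entry of a product. -/
def mMul (r : ℕ) (M N : ℕ → ℕ → ℤ) (i j : ℕ) : ℤ :=
  ((List.range r).map fun k => M i k * N k j).sum

/-- `C = U D V` with unimodular `U`, `V`. -/
def Tbl.chkSmith (T : Tbl) (U U' V V' : List (List ℤ)) (d : List ℕ) : Bool :=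
  let r := T.rank
  let D : ℕ → ℕ → ℤ := fun i j => if i = j then (d.getD i 0 : ℤ) else 0
  allLt (fun i => allLt (fun j =>
    decide (mMul r (mEnt U) (mEnt U') i j = (if i = j then 1 else 0)) &&
    decide (mMul r (mEnt U') (mEnt U) i j = (if i = j then 1 else 0)) &&
    decide (mMul r (mEnt V) (mEnt V') i j = (if i = j then 1 else 0)) &&
    decide (mMul r (mEnt V') (mEnt V) i j = (if i = j then 1 else 0)) &&
    decide (mMul r (mMul r (mEnt U) D) (mEnt V) i j = T.ca i (T.simple j))) r) r

end CfsgLib.Chevalley
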