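import Cfsg.Agent.Lib.Chevalley.Bruhat
import Cfsg.Agent.Lib.Chevalley.TorusCheck

/-!
The order of the diagonal subgroup.
-/

set_option autoImplicit false

namespace CfsgLib.Chevalley

/-- The endomorphism of `A^r` of an integer matrix. -/
def powMat {A : Type*} [CommGroup A] (r : ℕ) (M : ℕ → ℕ → ℤ) :
    (Fin r → A) →* (Fin r → A) where
  toFun f j := ∏ i : Fin r, f i ^ M i j
  map_one' := by funext j; simp
  map_mul' f g := by funext j; simp [mul_zpow, Finset.prod_mul_distrib]

theorem powMat_comp {A : Type*} [CommGroup A] (r : ℕ) (M N : ℕ → ℕ → ℤ) (f : Fin r → A) :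
    powMat r N (powMat r M f) = powMat r (mMul r M N) f := by
  funext j
  simp only [powMat, MonoidHom.coe_mk, OneHom.coe_mk]
  have h : ∀ i : Fin r, f i ^ mMul r M N i j = ∏ k : Fin r, (f i ^ M i k) ^ N k j := by
    intro i
    rw [mMul, Tbl.list_sum_range, Tbl.zpow_sum_eq]
    exact Finset.prod_congr rfl fun k _ => zpow_mul _ _ _
  rw [Finset.prod_congr rfl fun i _ => h i, Finset.prod_comm]
  exact Finset.prod_congr rfl fun k _ => (Finset.prod_zpow _ _ _).symm

theorem powMat_eq_id {A : Type*} [CommGroup A] (r : ℕ) (M : ℕ → ℕ → ℤ)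
    (h : ∀ i j : Fin r, M i j = if (i : ℕ) = (j : ℕ) then 1 else 0) (f : Fin r → A) :
    powMat r M f = f := by
  funext j
  simp only [powMat, MonoidHom.coe_mk, OneHom.coe_mk]
  rw [Finset.prod_eq_single j]
  · rw [h, if_pos rfl, zpow_one]
  · intro i _ hi
    rw [h, if_neg fun e => hi (Fin.ext e), zpow_zero]
  · simp

theorem powMat_congr {A : Type*} [CommGroup A] (r : ℕ) (M N : ℕ → ℕ → ℤ)
    (h : ∀ i j : Fin r, M i j = N i j) : (powMat r M : (Fin r → A) →* _) = powMat r N := by
  refine MonoidHom.ext fun f => ?_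
  funext j
  show ∏ i : Fin r, f i ^ M i j = ∏ i : Fin r, f i ^ N i j
  exact Finset.prod_congr rfl fun i _ => by rw [h]

namespace Tbl

variable {T : Tbl} {F : Type*} [Field F]

/-- `f ↦ ∏ h_{p_i}(f_i)`. -/
def torusHom (T : Tbl) (F : Type*) [Field F] : (Fin T.rank → Fˣ) →* GL T.I F where
  toFun f := T.dU fun s => ∏ i, f i ^ T.ca i s
  map_one' := by rw [← dU_one]; exact dU_congr fun s _ => by simp
  map_mul' f g := by rw [dU_mul]; exact dU_congr fun s _ => by simp [mul_zpow, Finset.prod_mul_distrib]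

variable (hT : T.Valid)
include hT

theorem torusHom_range : (torusHom T F).range = T.datum.diagonalSubgroup F := by
  ext g
  rw [MonoidHom.mem_range, mem_diag_iff hT]
  exact exists_congr fun f => ⟨fun h => h.symm, fun h => h.symm⟩

theorem torusHom_ker :
    (torusHom T F).ker = (powMat T.rank fun i j => T.ca i (T.simple j) :
      (Fin T.rank → Fˣ) →* _).ker := by
  ext f
  simp only [MonoidHom.mem_ker]
  constructor
  · intro h
    funext j
    have h1 := dU_apply_inj (T := T) (χ := fun s => ∏ i, f i ^ T.ca i s) (ψ := 1)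
      (show (T.dU (fun s => ∏ i, f i ^ T.ca i s) : GL T.I F) = T.dU 1 by rw [dU_one]; exact h)
      (simple_lt hT j.2)
    exact h1
  · intro h
    show (T.dU fun s => ∏ i, f i ^ T.ca i s) = 1
    rw [← dU_one]
    refine dU_congr fun s hs => ?_
    have e : ∀ i : Fin T.rank, f i ^ T.ca i s =
        ∏ j : Fin T.rank, (f i ^ T.ca i (T.simple j)) ^ T.co s j := by
      intro i
      rw [ca_eq hT hs i.2, list_sum_range, zpow_sum_eq]
      exact Finset.prod_congr rfl fun j _ => by rw [← zpow_mul, mul_comm]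
    rw [Finset.prod_congr rfl fun i _ => e i, Finset.prod_comm, Pi.one_apply]
    refine Finset.prod_eq_one fun j _ => ?_
    rw [Finset.prod_zpow]
    have h2 : ∏ i : Fin T.rank, f i ^ T.ca i (T.simple j) = 1 := congrFun h j
    rw [h2, one_zpow]

theorem card_diag [Fintype F] {q : ℕ} (hq : Fintype.card F = q) {U U' V V' : List (List ℤ)}
    {d : List ℕ} (h : T.chkSmith U U' V V' d = true) :
    (∏ i : Fin T.rank, Nat.gcd (q - 1) (d.getD i.val 0)) * Nat.card (T.datum.diagonalSubgroup F) =
      (q - 1) ^ T.rank := by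
  classical
  simp only [chkSmith, allLt_iff, Bool.and_eq_true, decide_eq_true_eq] at h
  set r := T.rank
  let D : ℕ → ℕ → ℤ := fun i j => if i = j then (d.getD i 0 : ℤ) else 0
  set α := (powMat r (mEnt U) : (Fin r → Fˣ) →* _)
  set δ := (powMat r D : (Fin r → Fˣ) →* _)
  set β := (powMat r (mEnt V) : (Fin r → Fˣ) →* _)
  have hU : ∀ f, powMat r (mEnt U') (α f) = f := fun f => by
    rw [powMat_comp]; exact powMat_eq_id r _ (fun i j => (h i i.2 j j.2).1.1.1.1) f
  have hU' : ∀ f, α (powMat r (mEnt U') f) = f := fun f => by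
    rw [powMat_comp]; exact powMat_eq_id r _ (fun i j => (h i i.2 j j.2).1.1.1.2) f
  have hV : ∀ f : Fin r → Fˣ, powMat r (mEnt V') (β f) = f := fun f => by
    rw [powMat_comp]; exact powMat_eq_id r _ (fun i j => (h i i.2 j j.2).1.1.2) f
  have hCfac : ∀ f : Fin r → Fˣ,
      powMat r (fun i j => T.ca i (T.simple j)) f = β (δ (α f)) := by
    intro f
    rw [powMat_comp, powMat_comp]
    have e : ∀ i j : Fin r, (fun i j => T.ca i (T.simple j) : ℕ → ℕ → ℤ) i j =
        mMul r (mEnt U) (mMul r D (mEnt V)) i j := by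
      intro i j
      show T.ca i (T.simple j) = _
      rw [← (h i i.2 j j.2).2]
      simp only [mMul, list_sum_range, Finset.mul_sum, Finset.sum_mul]
      rw [Finset.sum_comm]
      exact Finset.sum_congr rfl fun a _ => Finset.sum_congr rfl fun b _ => mul_assoc _ _ _
    exact DFunLike.congr_fun (powMat_congr r _ _ e) f
  have hker : Nat.card (torusHom T F).ker = Nat.card δ.ker := by
    refine Nat.card_congr ⟨fun f => ⟨α f.1, ?_⟩, fun f => ⟨powMat r (mEnt U') f.1, ?_⟩,
      fun f => Subtype.ext (hU f.1), fun f => Subtype.ext (hU' f.1)⟩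
    · have hf := (torusHom_ker (F := F) hT).le f.2
      rw [MonoidHom.mem_ker, hCfac] at hf
      rw [MonoidHom.mem_ker, ← hV (δ (α f.1)), hf, map_one]
    · rw [torusHom_ker hT, MonoidHom.mem_ker, hCfac, hU', MonoidHom.mem_ker.mp f.2, map_one]
  have hδ : ∀ (f : Fin r → Fˣ) (j : Fin r), δ f j = f j ^ (d.getD j.val 0) := by
    intro f j
    show ∏ i : Fin r, f i ^ D i j = _
    rw [Finset.prod_eq_single j]
    · simp [D]
    · intro i _ hi
      rw [show D i j = 0 from if_neg fun e => hi (Fin.ext e), zpow_zero]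
    · simp
  have hker2 : Nat.card δ.ker = ∏ i : Fin r, Nat.gcd (q - 1) (d.getD i.val 0) := by
    have e : δ.ker ≃ ∀ i : Fin r, (powMonoidHom (d.getD i.val 0) : Fˣ →* Fˣ).ker :=
      { toFun := fun f i => ⟨f.1 i, by
          rw [MonoidHom.mem_ker, powMonoidHom_apply, ← hδ f.1 i, MonoidHom.mem_ker.mp f.2]; rfl⟩
        invFun := fun g => ⟨fun i => (g i).1, by
          rw [MonoidHom.mem_ker]
          funext i
          rw [hδ]
          exact MonoidHom.mem_ker.mp (g i).2⟩
        left_inv := fun f => rfl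
        right_inv := fun g => rfl }
    rw [Nat.card_congr e, Nat.card_pi]
    refine Finset.prod_congr rfl fun i _ => ?_
    rw [IsCyclic.card_powMonoidHom_ker, Nat.card_units, Nat.card_eq_fintype_card, hq]
  have h1 := Subgroup.card_mul_index (torusHom T F).ker
  rw [Subgroup.index_ker, torusHom_range hT, hker, hker2, Nat.card_fun, Nat.card_units,
    Nat.card_fin, Nat.card_eq_fintype_card (α := F), hq] at h1
  exact h1

end Tbl

end CfsgLib.Chevalley
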