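import Cfsg.Agent.Lib.Chevalley.SteinbergKernel
import Cfsg.Agent.Lib.Chevalley.Torus

/-!
The torus of the presented group.
-/

set_option autoImplicit false

namespace CfsgLib.Chevalley.Tbl

variable {T : Tbl} {F : Type*} [Field F]

theorem sDiag_comm (hO : T.StOk) {g h : T.datum.SteinbergGroup F} (hg : g ∈ T.sDiag F)
    (hh : h ∈ T.sDiag F) : g * h = h * g := by
  have key : ∀ (i : Fin T.rank) (t : F), t ≠ 0 → Commute g (T.sH F (T.simple i) t) := by
    intro i t ht
    obtain ⟨c, hc⟩ := (lifts_sDiag hO hg).conj_sN hO (i := i) (j := i) rfl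
    have hp := simple_lt hO.valid i.2
    show g * T.sH F (T.simple i) t = T.sH F (T.simple i) t * g
    have e1 : T.sH F (T.simple i) (c : F) * T.sH F (T.simple i) t = T.sH F (T.simple i) ((c : F) * t) :=
      sH_mul hO.valid hp c.ne_zero ht
    have e1' : T.sH F (T.simple i) t * T.sH F (T.simple i) (c : F) = T.sH F (T.simple i) ((c : F) * t) := by
      rw [sH_mul hO.valid hp ht c.ne_zero, mul_comm]
    conv_lhs => rw [sH, ← mul_assoc, hc t, mul_assoc, hc (-1), ← mul_assoc, mul_neg, mul_one,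
      sN_neg hO hp, sH_eq hO hp ((c : F) * t), sH_eq hO hp (c : F), ← e1']
    group
  refine Subgroup.closure_induction (p := fun x _ => g * x = x * g) ?_ (by simp) ?_ ?_ hh
  · rintro _ ⟨i, hi, t, ht, rfl⟩
    exact key ⟨i, hi⟩ t ht
  · intro x y _ _ hx hy
    exact Commute.mul_right hx hy
  · intro x _ hx
    exact Commute.inv_right hx

/-- `c ↦ h̄_i(c)`. -/
noncomputable def sHHom (hO : T.StOk) (i : Fin T.rank) : Fˣ →* T.datum.SteinbergGroup F where
  toFun c := T.sH F (T.simple i) (c : F)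
  map_one' := by
    have := sH_mul hO.valid (simple_lt hO.valid i.2) (one_ne_zero (α := F)) one_ne_zero
    rw [one_mul] at this
    exact mul_eq_left.mp this
  map_mul' a b := (sH_mul hO.valid (simple_lt hO.valid i.2) a.ne_zero b.ne_zero).symm

/-- `f ↦ ∏ h̄_i(f_i)`. -/
noncomputable def sTorus (hO : T.StOk) : (Fin T.rank → Fˣ) →* T.datum.SteinbergGroup F :=
  MonoidHom.noncommPiCoprod (fun i => sHHom hO i) fun i j _ a b =>
    sDiag_comm hO (sH_mem_sDiag hO i a.ne_zero) (sH_mem_sDiag hO j b.ne_zero)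

theorem sTorus_single (hO : T.StOk) (i : Fin T.rank) (c : Fˣ) :
    sTorus hO (Pi.mulSingle i c) = T.sH F (T.simple i) (c : F) :=
  MonoidHom.noncommPiCoprod_mulSingle (fun i => sHHom hO i) i c

theorem sDiag_le_range (hO : T.StOk) : T.sDiag F ≤ (sTorus (F := F) hO).range := by
  refine (Subgroup.closure_le _).mpr ?_
  rintro _ ⟨i, hi, t, ht, rfl⟩
  exact ⟨_, sTorus_single hO ⟨i, hi⟩ (Units.mk0 t ht)⟩

theorem hom_sTorus (hO : T.StOk) (f : Fin T.rank → Fˣ) :
    hO.hom F (sTorus hO f) = torusHom T F f := by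
  classical
  have h : (hO.hom F).comp (sTorus hO) = torusHom T F := by
    refine MonoidHom.pi_ext fun i c => ?_
    show hO.hom F (sTorus hO (Pi.mulSingle i c)) = _
    rw [sTorus_single, hom_sH hO (simple_lt hO.valid i.2), hU_eq hO.valid (simple_lt hO.valid i.2)]
    refine dU_congr fun s _ => ?_
    rw [Finset.prod_eq_single i]
    · simp [hCh, pair_simple hO.valid i.2]
    · intro j _ hj; simp [Pi.mulSingle_eq_of_ne hj]
    · simp
  exact DFunLike.congr_fun h f

/-- A Cartan matrix of determinant one gives an injective torus map. -/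
theorem torusHom_injective_of_smith (hT : T.Valid) {U U' V V' : List (List ℤ)} {d : List ℕ}
    (h : T.chkSmith U U' V V' d = true) (hd : ∀ i < T.rank, d.getD i 0 = 1) :
    Function.Injective (torusHom T F) := by
  rw [injective_iff_map_eq_one]
  intro f hf
  have hf' := (torusHom_ker (F := F) hT).le (MonoidHom.mem_ker.mpr hf)
  rw [MonoidHom.mem_ker] at hf'
  simp only [chkSmith, allLt_iff, Bool.and_eq_true, decide_eq_true_eq] at h
  let D : ℕ → ℕ → ℤ := fun i j => if i = j then (d.getD i 0 : ℤ) else 0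
  have e : (powMat T.rank (fun i j => T.ca i (T.simple j)) : (Fin T.rank → Fˣ) →* _) =
      powMat T.rank (mMul T.rank (mMul T.rank (mEnt U) D) (mEnt V)) :=
    powMat_congr _ _ _ fun i j => (h i i.2 j j.2).2.symm
  rw [e, ← powMat_comp, ← powMat_comp] at hf'
  have hD : ∀ g : Fin T.rank → Fˣ, powMat T.rank D g = g := powMat_eq_id _ _ fun i j => by
    simp only [D]
    split_ifs with hij
    · rw [hd i i.2, Nat.cast_one]
    · rfl
  rw [hD] at hf'
  have h1 := congrArg (powMat T.rank (mEnt V')) hf'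
  rw [powMat_comp, powMat_eq_id T.rank _ (fun i j => (h i i.2 j j.2).1.1.2), map_one] at h1
  have h2 := congrArg (powMat T.rank (mEnt U')) h1
  rwa [powMat_comp, powMat_eq_id T.rank _ (fun i j => (h i i.2 j j.2).1.1.1.1), map_one] at h2

theorem center_eq_bot (hO : T.StOk) (hinj : Function.Injective (torusHom T F)) :
    Subgroup.center (T.datum.SteinbergGroup F) = ⊥ := by
  rw [← stProj_ker hO, eq_bot_iff]
  intro k hk
  have hk1 : hO.hom F k = 1 := congrArg Subtype.val (MonoidHom.mem_ker.mp hk)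
  obtain ⟨f, rfl⟩ := sDiag_le_range hO (ker_le_sDiag hO (MonoidHom.mem_ker.mpr hk1))
  have hf1 : f = 1 := hinj (by rw [map_one, ← hom_sTorus hO f, hk1])
  rw [Subgroup.mem_bot, hf1, map_one]

end CfsgLib.Chevalley.Tbl
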