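import Cfsg.Agent.Lib.Chevalley.CommCheck

/-!
Certificates for perfectness and connectedness.
-/

set_option autoImplicit false

namespace CfsgLib.Chevalley.Tbl

variable (T : Tbl)

/-- Some coroot pairs to `±1` with the root. -/
def isK (v : ℕ) : Bool := (List.range T.n).any fun s => decide ((T.pair s v).natAbs = 1)

/-- A commutator exhibiting the root `p`. -/
def goodPair (torus : Bool) (p a b : ℕ) : Bool :=
  !(T.sum? a b).isNone &&
  (match (T.commT a b).filter (fun c => Nat.beq c.1 p) with
    | [c] => decide (c.2.1.natAbs = 1) && (Nat.beq c.2.2.1 1 || Nat.beq c.2.2.2 1)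
    | _ => false) &&
  (T.commT a b).all (fun c => Nat.beq c.1 p || (torus && T.isK c.1))

def chkGood (torus : Bool) (i : ℕ) : Bool :=
  (torus && T.isK (T.simple i)) ||
    (List.range T.n).any fun a => (List.range T.n).any fun b => T.goodPair torus (T.simple i) a b

def chkPerfect (torus : Bool) : Bool := allLt (T.chkGood torus) T.rank

/-- Nodes reached from node `0` in the diagram. -/
def reach : ℕ → List ℕ
  | 0 => [0]
  | k + 1 =>
    let R := reach k
    (List.range T.rank).filter fun j =>
      R.contains j || R.any fun i => !decide (T.ca i (T.simple j) = 0)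

def chkConn : Bool := allLt (fun j => (T.reach T.rank).contains j) T.rank && Nat.blt 1 T.rank

/-- The action of a word of fundamental reflections on a root index. -/
def actWord (l : List ℕ) (x : ℕ) : ℕ := l.foldr (fun i y => T.refl i y) x

def iterWord (l : List ℕ) : ℕ → ℕ → ℕ
  | 0, x => x
  | k + 1, x => T.actWord l (iterWord l k x)

/-- The word induces a permutation of order exactly `m`. -/
def chkOrd (l : List ℕ) (m : ℕ) : Bool :=
  Nat.blt 0 m && allLt (fun x => Nat.beq (T.iterWord l m x) x) T.n &&
    allLt (fun k => Nat.beq k 0 || (List.range T.n).any fun x => !Nat.beq (T.iterWord l k x) x) m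

end CfsgLib.Chevalley.Tbl
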