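import Cfsg.Agent.Lib.Chevalley.Weyl
import Cfsg.Agent.Lib.Chevalley.PerfectCheck
import Cfsg.Agent.Lib.BNPair.Exchange

/-!
`N / H` as a Coxeter group.
-/

set_option autoImplicit false

namespace CfsgLib.Chevalley.Tbl

open CfsgLib.BNPair

variable {T : Tbl} (hT : T.Valid)

/-- The fundamental reflection as an element of the reflection group. -/
def refW (T : Tbl) (hT : T.Valid) (i : Fin T.rank) : ↥(T.WP hT) :=
  ⟨T.refP hT i, Subgroup.subset_closure ⟨i, rfl⟩⟩

theorem refW_prod (l : List (Fin T.rank)) :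
    (((l.map (T.refW hT)).prod : ↥(T.WP hT)) : Equiv.Perm (Fin T.n)) = T.pw hT l := by
  induction l with
  | nil => rfl
  | cons a l ih => rw [List.map_cons, List.prod_cons, Subgroup.coe_mul, ih]; rfl

include hT

theorem isInvGen_refW : Exchange.IsInvGen (T.refW hT) where
  mul_self i := Subtype.ext (refP_mul_self hT i)
  gen w := by
    obtain ⟨l, hl⟩ := exists_pw hT w.2
    exact ⟨l, Subtype.ext ((refW_prod hT l).trans hl)⟩

theorem deletion_pw (i : Fin T.rank) (l : List (Fin T.rank))
    (h : (T.pw hT l (T.simpF hT i)).val < T.half) :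
    ∃ l1 j l2, l = l1 ++ j :: l2 ∧ T.pw hT l * T.refP hT i = T.pw hT (l1 ++ l2) := by
  obtain ⟨l1, j, l2, hl, -, x, hx, e⟩ := deletion (F := ℚ) hT i l h
  exact ⟨l1, j, l2, hl, pw_of_nw hT hx i e⟩

theorem hasExchange_refW : Exchange.HasExchange (isInvGen_refW hT) := by
  intro i l hred hle
  have hinv : ∀ v : ↥(T.WP hT), ∀ m : List (Fin T.rank), (m.map (T.refW hT)).prod = v →
      T.pw hT m.reverse = (v : Equiv.Perm (Fin T.n))⁻¹ := by
    rintro v m rfl
    rw [pw_reverse, refW_prod]
  by_cases hneg : (T.pw hT l.reverse (T.simpF hT i)).val < T.half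
  · obtain ⟨l1, j, l2, hl, e⟩ := deletion_pw hT i _ hneg
    have hl' : l = l2.reverse ++ j :: l1.reverse := by
      rw [← List.reverse_reverse l, hl]; simp
    refine ⟨l2.reverse.length, by rw [hl']; simp, ?_⟩
    rw [hl']
    apply Subtype.ext
    rw [Subgroup.coe_mul, refW_prod, refW_prod]
    have t1 : (l2.reverse ++ j :: l1.reverse).take l2.reverse.length = l2.reverse := by simp
    have t2 : (l2.reverse ++ j :: l1.reverse).take (l2.reverse.length + 1) = l2.reverse ++ [j] := by
      rw [List.take_length_add_append]; simp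
    rw [t1, t2, pw_append hT l2.reverse [j]]
    have e2 := congrArg (fun z : Equiv.Perm (Fin T.n) => z⁻¹) e
    simp only [_root_.mul_inv_rev, refP_inv, ← pw_reverse, List.reverse_reverse, List.reverse_append] at e2
    rw [hl', pw_append, pw_cons, pw_append, ← mul_assoc] at e2
    have e3 : T.refP hT i * T.pw hT l2.reverse * T.refP hT j = T.pw hT l2.reverse :=
      mul_right_cancel (by rw [mul_assoc (T.refP hT i * _), e2])
    rw [show T.pw hT [j] = T.refP hT j by simp [pw]]
    show T.refP hT i * _ = _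
    conv_rhs => rw [← e3]
    rw [mul_assoc, mul_assoc, refP_mul_self, mul_one]
  · exfalso
    obtain ⟨l', hr', he'⟩ := Exchange.exists_reduced (isInvGen_refW hT)
      (T.refW hT i * (l.map (T.refW hT)).prod)
    have hlen : l'.length ≤ l.length := by rw [← hr', he']; exact hle
    have hp : T.pw hT l'.reverse = T.pw hT l.reverse * T.refP hT i := by
      rw [hinv _ l' he', Subgroup.coe_mul, _root_.mul_inv_rev, refW_prod, ← pw_reverse]
      show _ * (T.refP hT i)⁻¹ = _
      rw [refP_inv]
    have hneg' : (T.pw hT l'.reverse (T.simpF hT i)).val < T.half := by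
      rw [hp, Equiv.Perm.mul_apply, refP_simpF, WP_negF hT (pw_mem hT _)]
      exact negF_lt (not_lt.mp hneg)
    obtain ⟨l1, j, l2, hl, e⟩ := deletion_pw hT i _ hneg'
    rw [hp, mul_assoc, refP_mul_self, mul_one] at e
    have h3 := Exchange.len_le (isInvGen_refW hT) (l2.reverse ++ l1.reverse)
    have h4 : ((l2.reverse ++ l1.reverse).map (T.refW hT)).prod = (l.map (T.refW hT)).prod := by
      apply Subtype.ext
      rw [refW_prod, refW_prod, ← List.reverse_append, pw_reverse, ← e, pw_reverse, inv_inv]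
    rw [h4, hred] at h3
    have hc := congrArg List.length hl
    simp at hc h3
    omega

theorem iterWord_pw (l : List (Fin T.rank)) (k : ℕ) (x : Fin T.n) :
    (((T.pw hT l) ^ k) x).val = T.iterWord (l.map Fin.val) k x.val := by
  have h1 : ∀ y : Fin T.n, (T.pw hT l y).val = T.actWord (l.map Fin.val) y.val := by
    intro y
    induction l with
    | nil => rfl
    | cons a l ih =>
      rw [pw_cons, Equiv.Perm.mul_apply, refP_apply, ih]
      rfl
  induction k with
  | zero => rfl
  | succ k ih => rw [pow_succ', Equiv.Perm.mul_apply, h1, ih]; rfl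

theorem orderOf_pw (l : List (Fin T.rank)) (m : ℕ) (h : T.chkOrd (l.map Fin.val) m = true) :
    orderOf (T.pw hT l) = m := by
  simp only [chkOrd, Bool.and_eq_true, allLt_iff, Bool.or_eq_true, List.any_eq_true,
    List.mem_range] at h
  obtain ⟨⟨h0, h1⟩, h2⟩ := h
  rw [orderOf_eq_iff (Nat.le_of_ble_eq_true h0)]
  refine ⟨Equiv.ext fun x => Fin.ext ?_, fun k hk hk0 he => ?_⟩
  · rw [iterWord_pw hT l m x]
    exact Nat.eq_of_beq_eq_true (h1 x.val x.2)
  · rcases h2 k hk with h' | ⟨x, hx, hne⟩
    · exact absurd (Nat.eq_of_beq_eq_true h') (by omega)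
    · have := iterWord_pw hT l k ⟨x, hx⟩
      rw [he] at this
      simp only [Bool.not_eq_true'] at hne
      exact (Bool.eq_false_iff.mp hne) (by rw [← this]; exact Nat.beq_refl _)

/-- `WP` is the Coxeter group of the checked matrix. -/
theorem exists_coxeter (M : CoxeterMatrix (Fin T.rank))
    (hM : ∀ i j : Fin T.rank, T.chkOrd [i.val, j.val] (M i j) = true) :
    ∃ e : ↥(T.WP hT) ≃* M.Group, ∀ i, e (T.refW hT i) = M.simple i := by
  obtain ⟨M', cs, hcs, hM'⟩ := Exchange.exists_coxeterSystem (isInvGen_refW hT) (hasExchange_refW hT)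
    (fun i j h => refP_injective hT (congrArg Subtype.val h))
  have hMM : M' = M := by
    apply CoxeterMatrix.ext
    ext i j
    show M' i j = M i j
    rw [hM' i j, ← Subgroup.orderOf_coe, Subgroup.coe_mul]
    rw [← orderOf_pw hT [i, j] (M i j) (hM i j)]
    exact congrArg orderOf (by simp [pw, refW])
  subst hMM
  refine ⟨cs.mulEquiv, fun i => ?_⟩
  rw [← hcs i]
  exact cs.mulEquiv.apply_symm_apply _

theorem exists_weylHom {F : Type*} [Field F] (M : CoxeterMatrix (Fin T.rank))
    (hM : ∀ i j : Fin T.rank, T.chkOrd [i.val, j.val] (M i j) = true) :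
    ∃ φ : ↥(T.datum.monomialSubgroup F) →* M.Group, Function.Surjective φ ∧
      φ.ker = (T.datum.diagonalSubgroup F).subgroupOf (T.datum.monomialSubgroup F) ∧
      ∀ (i : Fin T.rank) (g : ↥(T.datum.monomialSubgroup F)),
        ((g : GL T.datum.Idx F) : Matrix T.datum.Idx T.datum.Idx F) =
            T.datum.nMat F (T.datum.simple i) 1 → φ g = M.simple i := by
  obtain ⟨e, he⟩ := exists_coxeter hT M hM
  refine ⟨e.toMonoidHom.comp (wHom F hT), e.surjective.comp (wHom_surjective hT), ?_, fun i g hg => ?_⟩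
  · rw [← wHom_ker hT]
    ext g
    simp [MonoidHom.mem_ker]
  · rw [eq_nMat_simple_iff hT i.2] at hg
    have hg' : g = ⟨_, nU_simple_mem_N hT i⟩ := Subtype.ext hg
    show e (wHom F hT g) = _
    rw [hg', ← he i]
    exact congrArg e (Subtype.ext (wHom_nU hT i))

theorem orderOf_coxeterElement (M : CoxeterMatrix (Fin T.rank))
    (hM : ∀ i j : Fin T.rank, T.chkOrd [i.val, j.val] (M i j) = true) (m : ℕ)
    (hm : T.chkOrd ((List.finRange T.rank).map Fin.val) m = true) :
    orderOf ((List.finRange T.rank).map M.simple).prod = m := by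
  obtain ⟨e, he⟩ := exists_coxeter hT M hM
  have h : ((List.finRange T.rank).map M.simple).prod =
      e (((List.finRange T.rank).map (T.refW hT)).prod) := by
    rw [map_list_prod, List.map_map]
    congr 1
    exact List.map_congr_left fun i _ => (he i).symm
  rw [h, MulEquiv.orderOf_eq, ← Subgroup.orderOf_coe, refW_prod]
  exact orderOf_pw hT _ m hm

end CfsgLib.Chevalley.Tbl
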