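import Cfsg.Agent.Lib.Chevalley.Table

/-!
Certificates for minimal coset representatives in the chain of reflection subgroups.
-/

set_option autoImplicit false

namespace CfsgLib.Chevalley

/-- A minimal representative: images of the fundamental roots, length, parent, witness root, transitions. -/
structure Rep where
  key : ℕ
  depth : ℕ
  par : ℕ
  pi : ℕ
  wit : ℕ
  trans : List ℕ

namespace Rep

def dflt : Rep := ⟨0, 0, 0, 0, 0, []⟩

def img (R : Rep) (j : ℕ) : ℕ := Nat.land (Nat.shiftRight R.key (8 * j)) 255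

end Rep

namespace Tbl

variable (T : Tbl)

def chkTrans (k len : ℕ) (L : List Rep) (R : Rep) (i : ℕ) : Bool :=
  let t := R.trans.getD i 0
  bif Nat.blt t len then
    allLt (fun j => Nat.beq (T.refl i (R.img j)) ((L.getD t Rep.dflt).img j)) T.rank
  else
    Nat.blt (t - len) k &&
    allLt (fun j => allLt (fun c => decide (T.co (T.refl i (R.img j)) c =
      T.co (R.img j) c - T.ca (t - len) (T.simple j) * T.co (R.img (t - len)) c)) T.rank) T.rank

def chkRep (k len : ℕ) (L : List Rep) (m : ℕ) : Bool :=
  let R := L.getD m Rep.dflt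
  allLt (fun j => Nat.blt (R.img j) T.n) T.rank &&
  allLt (fun j => Nat.ble T.half (R.img j)) k &&
  allLt (T.chkTrans k len L R) (k + 1) &&
  (bif Nat.beq m 0 then Nat.beq R.depth 0 && allLt (fun j => Nat.beq (R.img j) (T.simple j)) T.rank
   else
    let P := L.getD R.par Rep.dflt
    Nat.blt R.par m && Nat.ble R.pi k && Nat.beq R.depth (P.depth + 1) &&
    allLt (fun j => Nat.beq (T.refl R.pi (P.img j)) (R.img j)) T.rank &&
    Nat.ble T.half R.wit && Nat.blt R.wit T.n &&
    allLt (fun c => decide (((List.range T.rank).map fun j => T.co R.wit j * T.co (P.img j) c).sum =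
      if c = R.pi then 1 else 0)) T.rank) &&
  allLt (fun m' => (List.range T.rank).any fun j => !Nat.beq (R.img j) ((L.getD m' Rep.dflt).img j)) m

def chkStep (k : ℕ) (L : List Rep) : Bool :=
  Nat.blt k T.rank && Nat.blt 0 L.length && allLt (T.chkRep k L.length L) L.length

end Tbl

/-- Evaluation of a coefficient list. -/
def pEval : List ℤ → ℤ → ℤ
  | [], _ => 0
  | a :: l, x => a + x * pEval l x

def pAdd : List ℤ → List ℤ → List ℤ
  | [], l => l
  | a :: l, [] => a :: l
  | a :: l, b :: m => (a + b) :: pAdd l m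

def pScale (c : ℤ) (l : List ℤ) : List ℤ := l.map (c * ·)

def pMul : List ℤ → List ℤ → List ℤ
  | [], _ => []
  | a :: l, m => pAdd (pScale a m) (0 :: pMul l m)

/-- `∑ x ^ d` as a coefficient list. -/
def pHist : List ℕ → List ℤ
  | [] => []
  | d :: l => pAdd (List.replicate d 0 ++ [1]) (pHist l)

/-- `x ^ d - 1`. -/
def pCyc (d : ℕ) : List ℤ := pAdd (List.replicate d 0 ++ [1]) [-1]

def pIsZero (l : List ℤ) : Bool := l.all fun a => decide (a = 0)

/-- `(x - 1) ^ r · ∏ steps = ∏ (x ^ d - 1)`. -/
def chkPoly (steps : List (List Rep)) (degs : List ℕ) : Bool :=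
  let lhs := (steps.map fun L => pMul (pCyc 1) (pHist (L.map Rep.depth))).foldr pMul [1]
  let rhs := (degs.map pCyc).foldr pMul [1]
  pIsZero (pAdd lhs (pScale (-1) rhs))

end CfsgLib.Chevalley
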