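import Cfsg.Agent.Lib.Chevalley.Length
import Cfsg.Agent.Lib.Chevalley.PosProduct
import Cfsg.Agent.Lib.Chevalley.PoincareCheck

/-!
The length generating function of the reflection group from the certificates.
-/

set_option autoImplicit false

namespace CfsgLib.Chevalley

theorem pEval_add : ∀ (l m : List ℤ) (x : ℤ), pEval (pAdd l m) x = pEval l x + pEval m x
  | [], m, x => by simp [pAdd, pEval]
  | a :: l, [], x => by simp [pAdd, pEval]
  | a :: l, b :: m, x => by simp only [pAdd, pEval, pEval_add l m x]; ring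

theorem pEval_scale (c : ℤ) : ∀ (l : List ℤ) (x : ℤ), pEval (pScale c l) x = c * pEval l x
  | [], x => by simp [pScale, pEval]
  | a :: l, x => by
    have := pEval_scale c l x
    simp only [pScale, List.map_cons, pEval] at this ⊢
    rw [this]; ring

theorem pEval_mul : ∀ (l m : List ℤ) (x : ℤ), pEval (pMul l m) x = pEval l x * pEval m x
  | [], m, x => by simp [pMul, pEval]
  | a :: l, m, x => by
    simp only [pMul, pEval_add, pEval_scale, pEval, pEval_mul l m x]; ring

theorem pEval_mono (d : ℕ) (x : ℤ) : pEval (List.replicate d 0 ++ [1]) x = x ^ d := by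
  induction d with
  | zero => simp [pEval]
  | succ d ih => rw [List.replicate_succ, List.cons_append, pEval, ih, pow_succ']; ring

theorem pEval_hist (x : ℤ) : ∀ l : List ℕ, pEval (pHist l) x = (l.map (x ^ ·)).sum
  | [] => rfl
  | d :: l => by simp [pHist, pEval_add, pEval_mono, pEval_hist x l]

theorem pEval_cyc (d : ℕ) (x : ℤ) : pEval (pCyc d) x = x ^ d - 1 := by
  rw [pCyc, pEval_add, pEval_mono]; simp [pEval]; ring

theorem pEval_zero : ∀ (l : List ℤ) (x : ℤ), pIsZero l = true → pEval l x = 0
  | [], x, _ => rfl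
  | a :: l, x, h => by
    simp only [pIsZero, List.all_cons, Bool.and_eq_true, decide_eq_true_eq] at h
    simp [pEval, h.1, pEval_zero l x h.2]

theorem pEval_foldr (x : ℤ) : ∀ ls : List (List ℤ),
    pEval (ls.foldr pMul [1]) x = (ls.map fun l => pEval l x).prod
  | [] => by simp [pEval]
  | l :: ls => by simp [pEval_mul, pEval_foldr x ls]

/-- The polynomial of one step. -/
def stepVal (L : List Rep) (x : ℤ) : ℤ := (L.map fun R => x ^ R.depth).sum

theorem poly_identity {steps : List (List Rep)} {degs : List ℕ} (h : chkPoly steps degs = true)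
    (x : ℤ) :
    (x - 1) ^ steps.length * (steps.map fun L => stepVal L x).prod =
      (degs.map fun d => x ^ d - 1).prod := by
  have h1 := pEval_zero _ x h
  rw [pEval_add, pEval_scale, pEval_foldr, pEval_foldr, List.map_map, List.map_map] at h1
  have e1 : (steps.map ((fun l => pEval l x) ∘ fun L => pMul (pCyc 1) (pHist (L.map Rep.depth)))).prod =
      (x - 1) ^ steps.length * (steps.map fun L => stepVal L x).prod := by
    have hl : ((fun l => pEval l x) ∘ fun L => pMul (pCyc 1) (pHist (L.map Rep.depth))) =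
        fun L : List Rep => (x - 1) * stepVal L x := by
      funext L
      simp [pEval_mul, pEval_cyc, pEval_hist, stepVal, List.map_map, Function.comp_def]
    rw [hl]
    clear h h1 hl
    induction steps with
    | nil => simp
    | cons L ls ih => simp only [List.map_cons, List.prod_cons, List.length_cons, ih]; ring
  have e2 : (degs.map ((fun l => pEval l x) ∘ pCyc)).prod = (degs.map fun d => x ^ d - 1).prod := by
    congr 1
    exact List.map_congr_left fun d _ => pEval_cyc d x
  rw [e1, e2] at h1
  linarith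

namespace Tbl

variable {T : Tbl} (hT : T.Valid)
include hT

theorem eq_simpF_of_co {s : Fin T.n} {i : Fin T.rank}
    (h : ∀ c < T.rank, T.co s.val c = if c = i.val then 1 else 0) : s = T.simpF hT i := by
  by_contra hne
  have hp : T.half ≤ s.val := half_le_of_co_nonneg hT s.2 fun j hj => by rw [h j hj]; split <;> omega
  obtain ⟨k, hk, hki, hpos⟩ := ne_simple_neg hT i.2 s.2 hp fun e => hne (Fin.ext e)
  rw [h k hk, if_neg hki] at hpos
  exact lt_irrefl _ hpos

theorem rep_exists {k : ℕ} {L : List Rep} (h : T.chkStep k L = true) :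
    ∀ m < L.length, ∃ u ∈ T.WK hT (k + 1), T.invN u = (L.getD m Rep.dflt).depth ∧
      ∀ j : Fin T.rank, (u (T.simpF hT j)).val = (L.getD m Rep.dflt).img j.val := by
  simp only [chkStep, Bool.and_eq_true, allLt_iff] at h
  obtain ⟨⟨hk, hlen⟩, hall⟩ := h
  intro m
  induction m using Nat.strong_induction_on with
  | _ m IH =>
  intro hm
  have hR := hall m hm
  simp only [chkRep, Bool.and_eq_true, allLt_iff] at hR
  obtain ⟨⟨⟨⟨himg, -⟩, -⟩, hpar⟩, -⟩ := hR
  by_cases hm0 : m = 0
  · subst hm0
    simp only [Nat.beq_refl, cond_true, Bool.and_eq_true, allLt_iff] at hpar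
    refine ⟨1, one_mem _, ?_, fun j => ?_⟩
    · rw [invN_one hT, Nat.eq_of_beq_eq_true hpar.1]
    · exact (Nat.eq_of_beq_eq_true (hpar.2 j.val j.2)).symm
  · rw [show Nat.beq m 0 = false from Bool.eq_false_iff.mpr fun e => hm0 (Nat.eq_of_beq_eq_true e)]
      at hpar
    simp only [cond_false, Bool.and_eq_true, allLt_iff, decide_eq_true_eq] at hpar
    obtain ⟨⟨⟨⟨⟨⟨hp1, hp2⟩, hp3⟩, hp4⟩, hp5⟩, hp6⟩, hp7⟩ := hpar
    have hpm := Nat.le_of_ble_eq_true hp1
    obtain ⟨u, hu, hud, huk⟩ := IH _ hpm (by omega)
    have hpi : (L.getD m Rep.dflt).pi < k + 1 := Nat.lt_succ_of_le (Nat.le_of_ble_eq_true hp2)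
    have hpir : (L.getD m Rep.dflt).pi < T.rank := by
      have := Nat.le_of_ble_eq_true hk; omega
    let i : Fin T.rank := ⟨_, hpir⟩
    let r : Fin T.n := ⟨(L.getD m Rep.dflt).wit, Nat.le_of_ble_eq_true hp6⟩
    have hur : u r = T.simpF hT i := by
      refine eq_simpF_of_co hT fun c hc => ?_
      rw [WP_linear hT (WK_le hT _ hu) r hc, ← hp7 c hc, list_sum_range]
      exact Finset.sum_congr rfl fun j _ => by rw [huk j]
    refine ⟨T.refP hT i * u, mul_mem (refP_mem_WK hT hpi) hu, ?_, fun j => ?_⟩
    · rw [invN_refP_mul hT (WK_le hT _ hu) i (r := r) (Nat.le_of_ble_eq_true hp5) hur, hud,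
        Nat.eq_of_beq_eq_true hp3]
    · rw [Equiv.Perm.mul_apply, refP_apply, huk j]
      exact Nat.eq_of_beq_eq_true (hp4 j.val j.2)

theorem step_sum {k : ℕ} {L : List Rep} (h : T.chkStep k L = true) (x : ℤ)
    [DecidablePred (· ∈ T.WK hT k)] [DecidablePred (· ∈ T.WK hT (k + 1))] :
    ∑ w : ↥(T.WK hT (k + 1)), x ^ T.invN (w : Equiv.Perm (Fin T.n)) =
      stepVal L x * ∑ w : ↥(T.WK hT k), x ^ T.invN (w : Equiv.Perm (Fin T.n)) := by
  have hex := rep_exists hT h
  simp only [chkStep, Bool.and_eq_true, allLt_iff] at h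
  obtain ⟨⟨hk, hlen⟩, hall⟩ := h
  have hkr : k < T.rank := Nat.le_of_ble_eq_true hk
  let u : Fin L.length → Equiv.Perm (Fin T.n) := fun m => (hex m.val m.2).choose
  have hu : ∀ m, u m ∈ T.WK hT (k + 1) := fun m => (hex m.val m.2).choose_spec.1
  have hud : ∀ m, T.invN (u m) = (L.getD m.val Rep.dflt).depth := fun m =>
    (hex m.val m.2).choose_spec.2.1
  have huk : ∀ m (j : Fin T.rank), (u m (T.simpF hT j)).val = (L.getD m.val Rep.dflt).img j.val :=
    fun m => (hex m.val m.2).choose_spec.2.2
  have hpos : ∀ m, ∀ i : Fin T.rank, i.val < k → T.half ≤ (u m (T.simpF hT i)).val := by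
    intro m i hi
    have hR := hall m.val m.2
    simp only [chkRep, Bool.and_eq_true, allLt_iff] at hR
    rw [huk m i]
    exact Nat.le_of_ble_eq_true (hR.1.1.1.2 i.val hi)
  let f : Fin L.length × ↥(T.WK hT k) → ↥(T.WK hT (k + 1)) := fun p =>
    ⟨u p.1 * p.2, mul_mem (hu p.1) (WK_mono hT (Nat.le_succ k) p.2.2)⟩
  have hf : Function.Bijective f := by
    refine ⟨?_, ?_⟩
    · rintro ⟨m, v⟩ ⟨m', v'⟩ e
      have e' : u m * (v : Equiv.Perm (Fin T.n)) = u m' * v' := congrArg Subtype.val e
      set z : Equiv.Perm (Fin T.n) := (v : Equiv.Perm (Fin T.n)) * (v' : Equiv.Perm (Fin T.n))⁻¹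
      have hz : z ∈ T.WK hT k := mul_mem v.2 (inv_mem v'.2)
      have e2 : u m' = u m * z := by simp only [z]; rw [← mul_assoc, e', mul_inv_cancel_right]
      have h1 := invN_mul hT (WK_le hT _ (hu m)) (hpos m) hz
      have h2 := invN_mul hT (WK_le hT _ (hu m')) (hpos m') (inv_mem hz)
      rw [← e2] at h1
      rw [show u m' * z⁻¹ = u m by rw [e2, mul_inv_cancel_right]] at h2
      have hz1 : z = 1 := by
        refine eq_one_of_pos hT (WK_le hT _ hz) fun i => ?_
        by_contra hneg
        have : 0 < T.invN z := Finset.card_pos.mpr ⟨T.simpF hT i, by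
          rw [Finset.mem_filter]
          exact ⟨Finset.mem_univ _, half_le_simpF hT i, not_le.mp hneg⟩⟩
        omega
      rw [hz1, mul_one] at e2
      have hmm : m = m' := by
        by_contra hne
        have key : ∀ a b : Fin L.length, b.val < a.val → u a ≠ u b := by
          intro a b hab he
          have hR := hall a.val a.2
          simp only [chkRep, Bool.and_eq_true, allLt_iff, List.any_eq_true, List.mem_range] at hR
          obtain ⟨j, hj, hne'⟩ := hR.2 b.val hab
          simp only [Bool.not_eq_true'] at hne'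
          have h3 := huk a ⟨j, hj⟩
          rw [he, huk b ⟨j, hj⟩] at h3
          simp only at h3
          rw [← h3, Nat.beq_refl] at hne'
          exact Bool.noConfusion hne'
        rcases lt_or_gt_of_ne (fun e => hne (Fin.ext e) : m.val ≠ m'.val) with h' | h'
        · exact key m' m h' e2
        · exact key m m' h' e2.symm
      subst hmm
      exact Prod.ext rfl (Subtype.ext (mul_left_cancel e'))
    · rintro ⟨w, hw⟩
      suffices hS : ∃ m, ∃ v ∈ T.WK hT k, w = u m * v by
        obtain ⟨m, v, hv, rfl⟩ := hS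
        exact ⟨(m, ⟨v, hv⟩), rfl⟩
      have hgen : ∀ (i : Fin T.rank), i.val < k + 1 → ∀ m, ∃ m', ∃ v ∈ T.WK hT k,
          T.refP hT i * u m = u m' * v := by
        intro i hi m
        have hR := hall m.val m.2
        simp only [chkRep, Bool.and_eq_true, allLt_iff] at hR
        have ht := hR.1.1.2 i.val hi
        simp only [chkTrans] at ht
        have hwp : T.refP hT i * u m ∈ T.WP hT :=
          mul_mem (Subgroup.subset_closure ⟨i, rfl⟩) (WK_le hT _ (hu m))
        cases hb : Nat.blt ((L.getD m.val Rep.dflt).trans.getD i.val 0) L.length with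
        | true =>
          simp only [hb, cond_true, allLt_iff] at ht
          refine ⟨⟨_, Nat.le_of_ble_eq_true hb⟩, 1, one_mem _, ?_⟩
          rw [mul_one]
          refine WP_ext hT hwp (WK_le hT _ (hu _)) fun j c _ => ?_
          rw [Equiv.Perm.mul_apply, refP_apply, huk, huk, Nat.eq_of_beq_eq_true (ht j.val j.2)]
        | false =>
          simp only [hb, cond_false, Bool.and_eq_true, allLt_iff, decide_eq_true_eq] at ht
          obtain ⟨hjk, hco⟩ := ht
          have hjk' : (L.getD m.val Rep.dflt).trans.getD i.val 0 - L.length < k :=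
            Nat.le_of_ble_eq_true hjk
          let jj : Fin T.rank := ⟨(L.getD m.val Rep.dflt).trans.getD i.val 0 - L.length, by omega⟩
          refine ⟨m, T.refP hT jj, refP_mem_WK hT hjk', ?_⟩
          refine WP_ext hT hwp
            (mul_mem (WK_le hT _ (hu m)) (Subgroup.subset_closure ⟨jj, rfl⟩)) fun j c hc => ?_
          rw [Equiv.Perm.mul_apply, refP_apply, huk, hco j.val j.2 c hc, Equiv.Perm.mul_apply,
            WP_linear hT (WK_le hT _ (hu m)) (T.refP hT jj (T.simpF hT j)) hc]
          rw [Finset.sum_congr rfl fun l _ => by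
            rw [refP_apply, co_refl hT jj.2 (T.simpF hT j).2 l.2, co_simpF hT j l.2, huk m l]]
          simp only [sub_mul, ite_mul, one_mul, zero_mul, Finset.sum_sub_distrib]
          rw [Finset.sum_eq_single j, Finset.sum_eq_single jj]
          · simp [jj, simpF]
          · intro l _ hl; rw [if_neg fun e => hl (Fin.ext e)]
          · simp
          · intro l _ hl; rw [if_neg fun e => hl (Fin.ext e)]
          · simp
      induction hw using Subgroup.closure_induction_left with
      | one =>
        obtain ⟨u0, hu0, hd0, hk0⟩ := hex 0 (Nat.le_of_ble_eq_true hlen)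
        refine ⟨⟨0, Nat.le_of_ble_eq_true hlen⟩, 1, one_mem _, ?_⟩
        rw [mul_one]
        refine (eq_one_of_pos hT (WK_le hT _ (hu _)) fun i => ?_).symm
        have hR := hall 0 (Nat.le_of_ble_eq_true hlen)
        simp only [chkRep, Bool.and_eq_true, allLt_iff, Nat.beq_refl, cond_true] at hR
        rw [huk]
        show T.half ≤ (L.getD 0 Rep.dflt).img i.val
        rw [Nat.eq_of_beq_eq_true (hR.1.2.2 i.val i.2)]
        exact half_le_simpF hT i
      | mul_left g hg y hy ih =>
        obtain ⟨i, hi, rfl⟩ := hg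
        obtain ⟨m, v, hv, rfl⟩ := ih
        obtain ⟨m', v', hv', e⟩ := hgen i hi m
        exact ⟨m', v' * v, mul_mem hv' hv, by rw [← mul_assoc, e, mul_assoc]⟩
      | inv_mul_cancel g hg y hy ih =>
        obtain ⟨i, hi, rfl⟩ := hg
        obtain ⟨m, v, hv, rfl⟩ := ih
        obtain ⟨m', v', hv', e⟩ := hgen i hi m
        exact ⟨m', v' * v, mul_mem hv' hv, by rw [refP_inv, ← mul_assoc, e, mul_assoc]⟩
  rw [← Fintype.sum_bijective f hf (fun p => x ^ T.invN (f p : Equiv.Perm (Fin T.n))) _ fun _ => rfl,
    Fintype.sum_prod_type]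
  have hS : stepVal L x = ∑ m : Fin L.length, x ^ (L.getD m.val Rep.dflt).depth := by
    rw [stepVal, ← Fin.sum_univ_fun_getElem L (fun R => x ^ R.depth)]
    exact Finset.sum_congr rfl fun m _ => by rw [List.getD_eq_getElem _ _ m.2]
  rw [hS, Finset.sum_mul_sum]
  refine Finset.sum_congr rfl fun m _ => Finset.sum_congr rfl fun v _ => ?_
  show x ^ T.invN (u m * (v : Equiv.Perm (Fin T.n))) = _
  rw [invN_mul hT (WK_le hT _ (hu m)) (hpos m) v.2, hud, pow_add]

theorem poincare_aux (x : ℤ) : ∀ (k : ℕ) (steps : List (List Rep)), steps.length = k →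
    (∀ j < k, T.chkStep j (steps.getD j []) = true) →
    ∀ [DecidablePred (· ∈ T.WK hT k)],
      ∑ w : ↥(T.WK hT k), x ^ T.invN (w : Equiv.Perm (Fin T.n)) =
        (steps.map fun L => stepVal L x).prod := by
  intro k
  induction k with
  | zero =>
    intro steps hl _ _
    rw [List.length_eq_zero_iff] at hl
    subst hl
    haveI : Subsingleton ↥(T.WK hT 0) := ⟨fun a b => Subtype.ext (by
      have ha := a.2; have hb := b.2
      simp only [WK_zero hT, Subgroup.mem_bot] at ha hb
      rw [ha, hb])⟩
    rw [Fintype.sum_subsingleton _ (⟨1, one_mem _⟩ : ↥(T.WK hT 0))]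
    simp [invN_one hT]
  | succ k ih =>
    intro steps hl h _
    classical
    obtain ⟨pre, last, rfl⟩ : ∃ pre last, steps = pre ++ [last] := by
      rcases List.eq_nil_or_concat steps with rfl | ⟨p, a, rfl⟩
      · simp at hl
      · exact ⟨p, a, List.concat_eq_append⟩
    have hpl : pre.length = k := by simpa using hl
    have hlast : T.chkStep k last = true := by
      have := h k (by omega)
      rwa [List.getD_append_right _ _ _ _ (by omega), hpl, Nat.sub_self] at this
    rw [step_sum hT hlast x, ih pre hpl fun j hj => by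
      have := h j (by omega)
      rwa [List.getD_append _ _ _ _ (by omega)] at this]
    simp [List.map_append, List.prod_append, mul_comm]

theorem poincare {steps : List (List Rep)} {degs : List ℕ} (hl : steps.length = T.rank)
    (hs : ∀ j < T.rank, T.chkStep j (steps.getD j []) = true) (hp : chkPoly steps degs = true)
    (x : ℤ) [DecidablePred (· ∈ T.WP hT)] :
    (x - 1) ^ T.rank * ∑ w : ↥(T.WP hT), x ^ T.invN (w : Equiv.Perm (Fin T.n)) =
      (degs.map fun d => x ^ d - 1).prod := by
  classical
  have h1 : ∑ w : ↥(T.WP hT), x ^ T.invN (w : Equiv.Perm (Fin T.n)) =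
      ∑ w : ↥(T.WK hT T.rank), x ^ T.invN (w : Equiv.Perm (Fin T.n)) :=
    Fintype.sum_equiv (MulEquiv.subgroupCongr (WK_rank hT)).symm.toEquiv _ _ fun _ => rfl
  rw [h1, poincare_aux hT x T.rank steps hl hs, ← poly_identity hp x, hl]

theorem card_WP {steps : List (List Rep)} (hl : steps.length = T.rank)
    (hs : ∀ j < T.rank, T.chkStep j (steps.getD j []) = true) :
    (Nat.card ↥(T.WP hT) : ℤ) = (steps.map fun L => (L.length : ℤ)).prod := by
  classical
  have h := poincare_aux hT 1 T.rank steps hl hs
  simp only [one_pow, Finset.sum_const, Finset.card_univ, nsmul_eq_mul, mul_one, stepVal,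
    List.map_const', List.sum_replicate] at h
  rw [Nat.card_congr (MulEquiv.subgroupCongr (WK_rank hT)).symm.toEquiv, Nat.card_eq_fintype_card]
  exact h

end Tbl

end CfsgLib.Chevalley
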