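import Cfsg.Agent.Lib.Chevalley.SteinbergConj
import Cfsg.Agent.Lib.BNPair.Parabolic

/-!
Bruhat decomposition in the presented group; the kernel of the map onto the Chevalley group is
the centre.
-/

set_option autoImplicit false

namespace CfsgLib.Chevalley.Tbl

variable {T : Tbl} {F : Type*} [Field F]

/-- Word in the fundamental `n`'s. -/
noncomputable def snw (T : Tbl) (F : Type*) [Field F] (l : List (Fin T.rank)) :
    T.datum.SteinbergGroup F :=
  (l.map fun i => T.sN F (T.simple i.val) 1).prod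

/-- The subgroup generated by the fundamental `h`'s. -/
def sDiag (T : Tbl) (F : Type*) [Field F] : Subgroup (T.datum.SteinbergGroup F) :=
  Subgroup.closure {h | ∃ i < T.rank, ∃ t : F, t ≠ 0 ∧ h = T.sH F (T.simple i) t}

/-- `B̄ = Ū H̄`. -/
def sBorel (T : Tbl) (F : Type*) [Field F] : Subgroup (T.datum.SteinbergGroup F) :=
  T.sGen F (fun r => T.half ≤ r) ⊔ T.sDiag F

/-- `N̄`. -/
def sMon (T : Tbl) (F : Type*) [Field F] : Subgroup (T.datum.SteinbergGroup F) :=
  Subgroup.closure {n | ∃ i < T.rank, ∃ t : F, t ≠ 0 ∧ n = T.sN F (T.simple i) t}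

variable (hO : T.StOk)
include hO

theorem sH_mem_sDiag (i : Fin T.rank) {t : F} (ht : t ≠ 0) : T.sH F (T.simple i) t ∈ T.sDiag F :=
  Subgroup.subset_closure ⟨i, i.2, t, ht, rfl⟩

theorem sDiag_le_sMon : T.sDiag F ≤ T.sMon F := by
  refine (Subgroup.closure_le _).mpr ?_
  rintro _ ⟨i, hi, t, ht, rfl⟩
  exact mul_mem (Subgroup.subset_closure ⟨i, hi, t, ht, rfl⟩)
    (Subgroup.subset_closure ⟨i, hi, -1, neg_ne_zero.mpr one_ne_zero, rfl⟩)

theorem exists_lifts {g : T.datum.SteinbergGroup F} (hg : g ∈ T.sMon F) : ∃ π, Lifts hO g π := by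
  induction hg using Subgroup.closure_induction with
  | mem x hx =>
    obtain ⟨i, hi, t, ht, rfl⟩ := hx
    exact ⟨_, lifts_sN hO ⟨i, hi⟩ ht⟩
  | one => exact ⟨1, Lifts.one⟩
  | mul x y _ _ hx hy =>
    obtain ⟨π, h⟩ := hx
    obtain ⟨π', h'⟩ := hy
    exact ⟨_, h.mul h'⟩
  | inv x _ hx =>
    obtain ⟨π, h⟩ := hx
    exact ⟨_, h.inv⟩

theorem lifts_sDiag {g : T.datum.SteinbergGroup F} (hg : g ∈ T.sDiag F) : Lifts hO g 1 := by
  induction hg using Subgroup.closure_induction with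
  | mem x hx =>
    obtain ⟨i, hi, t, ht, rfl⟩ := hx
    have := (lifts_sN hO ⟨i, hi⟩ ht).mul
      (lifts_sN hO ⟨i, hi⟩ (F := F) (neg_ne_zero.mpr one_ne_zero))
    rwa [refP_mul_self] at this
  | one => exact Lifts.one
  | mul x y _ _ hx hy => simpa using hx.mul hy
  | inv x _ hx => simpa using hx.inv

theorem hom_sDiag {g : T.datum.SteinbergGroup F} (hg : g ∈ T.sDiag F) :
    hO.hom F g ∈ T.datum.diagonalSubgroup F := by
  induction hg using Subgroup.closure_induction with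
  | mem x hx =>
    obtain ⟨i, hi, t, ht, rfl⟩ := hx
    rw [hom_sH hO (simple_lt hO.valid hi), show t = ((Units.mk0 t ht : Fˣ) : F) from rfl,
      hU_eq hO.valid (simple_lt hO.valid hi), diagonalSubgroup_eq hO.valid]
    exact Subgroup.subset_closure ⟨_, simple_lt hO.valid hi, _, rfl⟩
  | one => rw [map_one]; exact one_mem _
  | mul x y _ _ hx hy => rw [map_mul]; exact mul_mem hx hy
  | inv x _ hx => rw [map_inv]; exact inv_mem hx

/-- Lifts transport a fundamental `n` to another. -/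
theorem Lifts.conj_sN {g : T.datum.SteinbergGroup F} {π : Equiv.Perm (Fin T.n)} (h : Lifts hO g π)
    {i j : Fin T.rank} (hij : π (T.simpF hO.valid i) = T.simpF hO.valid j) :
    ∃ c : Fˣ, ∀ t : F, g * T.sN F (T.simple i) t = T.sN F (T.simple j) ((c : F) * t) * g := by
  have hT := hO.valid
  obtain ⟨c, hc⟩ := h.mono.conj (T.simpF hT i)
  refine ⟨c, fun t => ?_⟩
  have e1 := fun u => h.conj (T.simpF hT i) u _ (hc u).1
  have e2 : ∀ u, g * T.sX F (T.neg (T.simple i)) u =
      T.sX F (T.neg (T.simple j)) (((c⁻¹ : Fˣ) : F) * u) * g := by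
    intro u
    have h1 := (hc u).2
    have hn : π (T.negF (T.simpF hT i)) = T.negF (T.simpF hT j) := by rw [h.mono.negEq, hij]
    have := h.conj (T.negF (T.simpF hT i)) u (((c⁻¹ : Fˣ) : F) * u) (by
      rw [hn]
      rw [hij] at h1
      exact h1)
    rw [hn] at this
    exact this
  rw [hij] at e1
  change ∀ u, g * T.sX F (T.simple i) u = T.sX F (T.simple j) ((c : F) * u) * g at e1
  rw [sN, sN, ← mul_assoc, ← mul_assoc, e1, mul_assoc (T.sX F (T.simple j) _) g, e2,
    ← mul_assoc (T.sX F (T.simple j) _),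
    mul_assoc (T.sX F (T.simple j) _ * T.sX F (T.neg (T.simple j)) _) g, e1, ← mul_assoc,
    show ((c⁻¹ : Fˣ) : F) * -t⁻¹ = -((c : F) * t)⁻¹ by
      rw [Units.val_inv_eq_inv_val, _root_.mul_inv, mul_neg]]

/-- `H̄` is normalised by `N̄`. -/
theorem sN_conj_sDiag (i : Fin T.rank) {t : F} (ht : t ≠ 0) {g : T.datum.SteinbergGroup F}
    (hg : g ∈ T.sDiag F) :
    T.sN F (T.simple i) t * g * (T.sN F (T.simple i) t)⁻¹ ∈ T.sDiag F := by
  have hT := hO.valid
  obtain ⟨c, hc⟩ := (lifts_sDiag hO hg).conj_sN hO (i := i) (j := i) rfl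
  have e : T.sN F (T.simple i) t * g * (T.sN F (T.simple i) t)⁻¹ =
      T.sN F (T.simple i) t * (T.sN F (T.simple i) ((c : F) * t))⁻¹ * g := by
    have h1 := hc t
    rw [← eq_mul_inv_iff_mul_eq] at h1
    calc _ = T.sN F (T.simple i) t * (T.sN F (T.simple i) ((c : F) * t))⁻¹ *
        (T.sN F (T.simple i) ((c : F) * t) * g) * (T.sN F (T.simple i) t)⁻¹ := by group
      _ = _ := by rw [← hc t]; group
  rw [e, sH_eq hO (simple_lt hT i.2) t, sH_eq hO (simple_lt hT i.2) ((c : F) * t)]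
  refine mul_mem ?_ hg
  rw [mul_inv_rev, ← mul_assoc, mul_inv_cancel_right]
  exact mul_mem (sH_mem_sDiag hO i ht) (inv_mem (sH_mem_sDiag hO i (mul_ne_zero c.ne_zero ht)))

theorem sMon_normalizer {n g : T.datum.SteinbergGroup F} (hn : n ∈ T.sMon F) (hg : g ∈ T.sDiag F) :
    n * g * n⁻¹ ∈ T.sDiag F := by
  have key : n * g * n⁻¹ ∈ T.sDiag F ∧ n⁻¹ * g * n ∈ T.sDiag F := by
    clear * - hn hg hO
    induction hn using Subgroup.closure_induction generalizing g with
    | mem x hx =>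
      obtain ⟨i, hi, t, ht, rfl⟩ := hx
      refine ⟨sN_conj_sDiag hO ⟨i, hi⟩ ht hg, ?_⟩
      have := sN_conj_sDiag hO ⟨i, hi⟩ (neg_ne_zero.mpr ht) hg
      rwa [sN_neg hO (simple_lt hO.valid hi), inv_inv] at this
    | one => simpa using hg
    | mul x y _ _ hx hy =>
      exact ⟨by simpa [mul_assoc] using (hx (hy hg).1).1, by simpa [mul_assoc] using (hy (hx hg).2).2⟩
    | inv x _ hx => exact ⟨by simpa using (hx hg).2, by simpa using (hx hg).1⟩
  exact key.1

theorem snw_mem (l : List (Fin T.rank)) : T.snw F l ∈ T.sMon F := by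
  refine list_prod_mem fun x hx => ?_
  obtain ⟨i, -, rfl⟩ := List.mem_map.mp hx
  exact Subgroup.subset_closure ⟨i, i.2, 1, one_ne_zero, rfl⟩

theorem lifts_snw (l : List (Fin T.rank)) : Lifts hO (T.snw F l) (T.pw hO.valid l) := by
  induction l with
  | nil => exact Lifts.one
  | cons i l ih => exact (lifts_sN hO i one_ne_zero).mul ih

theorem sN_sq_mem (i : Fin T.rank) : T.sN F (T.simple i) 1 * T.sN F (T.simple i) 1 ∈ T.sDiag F := by
  have h := sH_mem_sDiag (F := F) hO i (neg_ne_zero.mpr (one_ne_zero (α := F)))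
  rw [sH, sN_neg hO (simple_lt hO.valid i.2), ← mul_inv_rev] at h
  simpa using inv_mem h

theorem exists_snw {g : T.datum.SteinbergGroup F} (hg : g ∈ T.sMon F) :
    ∃ h ∈ T.sDiag F, ∃ l, g = h * T.snw F l := by
  have hstep : ∀ (i : Fin T.rank) (t : F), t ≠ 0 → ∀ h ∈ T.sDiag F, ∀ l,
      ∃ h' ∈ T.sDiag F, T.sN F (T.simple i) t * (h * T.snw F l) = h' * T.snw F (i :: l) := by
    intro i t ht h hh l
    refine ⟨T.sH F (T.simple i) t * (T.sN F (T.simple i) 1 * h * (T.sN F (T.simple i) 1)⁻¹),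
      mul_mem (sH_mem_sDiag hO i ht) (sN_conj_sDiag hO i one_ne_zero hh), ?_⟩
    rw [sH_eq hO (simple_lt hO.valid i.2) t,
      show T.snw F (i :: l) = T.sN F (T.simple i) 1 * T.snw F l from rfl]
    group
  induction hg using Subgroup.closure_induction_left with
  | one => exact ⟨1, one_mem _, [], by simp [snw]⟩
  | mul_left x hx y hy ih =>
    obtain ⟨i, hi, t, ht, rfl⟩ := hx
    obtain ⟨h, hh, l, rfl⟩ := ih
    obtain ⟨h', hh', e⟩ := hstep ⟨i, hi⟩ t ht h hh l
    exact ⟨h', hh', _, e⟩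
  | inv_mul_cancel x hx y hy ih =>
    obtain ⟨i, hi, t, ht, rfl⟩ := hx
    obtain ⟨h, hh, l, rfl⟩ := ih
    obtain ⟨h', hh', e⟩ := hstep ⟨i, hi⟩ (-t) (neg_ne_zero.mpr ht) h hh l
    rw [sN_neg hO (simple_lt hO.valid hi)] at e
    exact ⟨h', hh', _, e⟩

theorem snw_mem_sDiag : ∀ k, ∀ l : List (Fin T.rank), l.length = k → T.pw hO.valid l = 1 →
    T.snw F l ∈ T.sDiag F := by
  intro k
  induction k using Nat.strong_induction_on with
  | _ k IH =>
  intro l hl hw
  have hT := hO.valid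
  rcases List.eq_nil_or_concat l with rfl | ⟨l0, i, rfl⟩
  · simp [snw]
  rw [List.concat_eq_append] at hl hw ⊢
  have hneg : (T.pw hT l0 (T.simpF hT i)).val < T.half := by
    rw [pw_append, mul_eq_one_iff_eq_inv] at hw
    rw [hw, show T.pw hT [i] = T.refP hT i by simp [pw], refP_inv, refP_simpF]
    exact negF_lt (half_le_simpF hT i)
  obtain ⟨l1, j, l2, rfl, hj, h, hh, e⟩ := deletion (F := F) hT i l0 hneg
  have e2 : T.pw hT (l1 ++ l2) = 1 := by
    rw [← pw_of_nw hT hh i e, show T.refP hT i = T.pw hT [i] by simp [pw], ← pw_append]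
    exact hw
  have hrec := IH (l1 ++ l2).length (by simp at hl ⊢; omega) _ rfl e2
  obtain ⟨c, hc⟩ := (lifts_snw (F := F) hO l2).conj_sN hO hj
  have h1 : T.snw F (l1 ++ j :: l2 ++ [i]) = T.snw F l1 *
      (T.sN F (T.simple j) 1 * T.sN F (T.simple j) (c : F)) * (T.snw F l1)⁻¹ * T.snw F (l1 ++ l2) := by
    have := hc 1
    rw [mul_one] at this
    simp only [snw, List.map_append, List.map_cons, List.map_nil, List.prod_append, List.prod_cons,
      List.prod_nil, mul_one] at this ⊢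
    rw [mul_assoc, mul_assoc (T.sN F (T.simple j) 1), this]
    group
  rw [h1]
  refine mul_mem (sMon_normalizer hO (snw_mem hO l1) ?_) hrec
  rw [sH_eq hO (simple_lt hT j.2) (c : F)]
  have h2 := sN_conj_sDiag hO j (one_ne_zero (α := F)) (sH_mem_sDiag hO j c.ne_zero)
  have h3 := mul_mem h2 (sN_sq_mem (F := F) hO j)
  simpa [mul_assoc] using h3

theorem mem_sDiag_of_lifts_one {g : T.datum.SteinbergGroup F} (hg : g ∈ T.sMon F)
    (h : Lifts hO g 1) : g ∈ T.sDiag F := by
  obtain ⟨k, hk, l, rfl⟩ := exists_snw hO hg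
  refine mul_mem hk (snw_mem_sDiag hO _ l rfl ?_)
  have h1 := ((lifts_sDiag hO hk).mul (lifts_snw hO l)).mono.unique h.mono
  rwa [one_mul] at h1

theorem sDiag_le_normalizer (P : ℕ → Prop) :
    T.sDiag F ≤ Subgroup.normalizer (T.sGen F P : Set (T.datum.SteinbergGroup F)) := by
  intro g hg
  refine Subgroup.mem_normalizer_iff.mpr fun x => ⟨fun hx => ?_, fun hx => ?_⟩
  · exact (lifts_sDiag hO hg).conj_gen (fun s h => h) hx
  · have := (lifts_sDiag hO hg).inv.conj_gen (P := P) (Q := P) (fun s h => by simpa using h) hx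
    simpa [mul_assoc] using this

theorem mem_sBorel_iff {g : T.datum.SteinbergGroup F} :
    g ∈ T.sBorel F ↔ ∃ u ∈ T.sGen F (fun r => T.half ≤ r), ∃ h ∈ T.sDiag F, g = u * h := by
  show g ∈ T.sGen F _ ⊔ T.sDiag F ↔ _
  rw [← SetLike.mem_coe, Subgroup.coe_mul_of_right_le_normalizer_left _ _ (sDiag_le_normalizer hO _)]
  simp only [Set.mem_mul, SetLike.mem_coe]
  exact ⟨fun ⟨u, hu, h, hh, e⟩ => ⟨u, hu, h, hh, e.symm⟩, fun ⟨u, hu, h, hh, e⟩ => ⟨u, hu, h, hh, e.symm⟩⟩

/-- The axiom `s B̄ n ⊆ B̄ s n B̄ ∪ B̄ n B̄`. -/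
theorem sbn_axiom (i : Fin T.rank) {n b : T.datum.SteinbergGroup F} (hn : n ∈ T.sMon F)
    (hb : b ∈ T.sBorel F) :
    ∃ a ∈ T.sBorel F, ∃ m ∈ T.sMon F, ∃ c ∈ T.sBorel F,
      T.sN F (T.simple i) 1 * b * n = a * m * c := by
  have hT := hO.valid
  obtain ⟨u, hu, h, hh, rfl⟩ := (mem_sBorel_iff hO).mp hb
  have hp := simple_lt hT i.2
  have hpp : T.half ≤ T.simple i := simple_pos' hT i.2
  have hpB : ∀ {r : ℕ}, r < T.n → T.half ≤ r → ∀ t, T.sX F r t ∈ T.sBorel F := fun hr h t =>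
    Subgroup.mem_sup_left (sX_mem_sGen (P := fun r => T.half ≤ r) hr h t)
  have hnorm : T.sGen F (fun s => s = T.simple i) ≤ Subgroup.normalizer
      (T.sGen F (fun s => T.half ≤ s ∧ s ≠ T.simple i) : Set (T.datum.SteinbergGroup F)) :=
    sGen_le fun r _ e t => (sX_simple_normalizer hO i.2 (Or.inl e) t).1
  have hle : T.sGen F (fun r => T.half ≤ r) ≤
      T.sGen F (fun s => T.half ≤ s ∧ s ≠ T.simple i) ⊔ T.sGen F (fun s => s = T.simple i) :=
    sGen_le fun r hr hrp t => by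
      by_cases e : r = T.simple i
      · exact Subgroup.mem_sup_right (sX_mem_sGen (P := fun s => s = T.simple i) hr e t)
      · exact Subgroup.mem_sup_left
          (sX_mem_sGen (P := fun s => T.half ≤ s ∧ s ≠ T.simple i) hr ⟨hrp, e⟩ t)
  have hu2 := hle hu
  rw [← SetLike.mem_coe, Subgroup.coe_mul_of_right_le_normalizer_left _ _ hnorm] at hu2
  obtain ⟨u', hu', x, hx, rfl⟩ := hu2
  obtain ⟨t, rfl⟩ := exists_sX_of_mem_single hT hp hx
  set s := T.sN F (T.simple i) 1 with hs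
  have hsM : s ∈ T.sMon F := Subgroup.subset_closure ⟨i, i.2, 1, one_ne_zero, rfl⟩
  have hLs := lifts_sN hO i (one_ne_zero (α := F))
  have hu'' : s * u' * s⁻¹ ∈ T.sBorel F := by
    refine Subgroup.mem_sup_left (hLs.conj_gen (fun r ⟨h1, h2⟩ => ?_) hu')
    exact refP_pos hT h1 (fun e => h2 (congrArg Fin.val e))
  have hh' : n⁻¹ * h * n ∈ T.sDiag F := by
    simpa using sMon_normalizer hO (inv_mem hn) hh
  obtain ⟨w, hL⟩ := exists_lifts hO hn
  set v := w⁻¹ (T.simpF hT i) with hv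
  have hwv : w v = T.simpF hT i := w.apply_symm_apply _
  by_cases hcase : t = 0 ∨ T.half ≤ v.val
  · refine ⟨s * u' * s⁻¹, hu'', s * n, mul_mem hsM hn,
      n⁻¹ * T.sX F (T.simple i) t * n * (n⁻¹ * h * n),
      mul_mem ?_ (Subgroup.mem_sup_right hh'), by group⟩
    rcases hcase with rfl | hpos
    · simp [sX_zero hT hp]
    · obtain ⟨c, hc⟩ := hL.inv.mono.conj (T.simpF hT i)
      have e := hL.inv.conj (T.simpF hT i) t _ (hc t).1
      change n⁻¹ * T.sX F (T.simple i) t = _ at e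
      rw [e, inv_mul_cancel_right]
      exact hpB v.2 hpos _
  · push Not at hcase
    obtain ⟨ht, hneg⟩ := hcase
    set a : F := t⁻¹ with ha
    have hat : a⁻¹ = t := inv_inv t
    have hane : a ≠ 0 := inv_ne_zero ht
    have hx : s * T.sX F (T.simple i) t = T.sX F (T.neg (T.simple i)) (-t) * s := by
      have h1 := hLs.conj (T.simpF hT i) t (-t) (by
        rw [refP_simpF, hom_sN hO hp]
        exact nU_conj hT hp t)
      rw [refP_simpF] at h1
      exact h1
    have hy : T.sX F (T.neg (T.simple i)) (-t) =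
        T.sX F (T.simple i) (-a) * (T.sH F (T.simple i) a * s) * T.sX F (T.simple i) (-a) := by
      rw [hs, ← sH_eq hO hp, sN, hat, ← sX_inv hT hp]
      group
    have hL2 := (hLs.mul hL).inv
    obtain ⟨c, hc⟩ := hL2.mono.conj (T.simpF hT i)
    have hw : (T.refP hT i * w)⁻¹ (T.simpF hT i) = T.negF v := by
      apply (T.refP hT i * w).injective
      rw [show (T.refP hT i * w) ((T.refP hT i * w)⁻¹ (T.simpF hT i)) = T.simpF hT i from
        (T.refP hT i * w).apply_symm_apply _, Equiv.Perm.mul_apply, hL.mono.negEq, hwv,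
        ← refP_simpF hT i]
      exact (Fin.ext (refl_refl hT i.2 hp)).symm
    have hd := hL2.conj (T.simpF hT i) (-a) _ (hc (-a)).1
    rw [hw] at hd
    change (s * n)⁻¹ * T.sX F (T.simple i) (-a) =
      T.sX F (T.neg v.val) ((c : F) * -a) * (s * n)⁻¹ at hd
    refine ⟨s * u' * s⁻¹ * T.sX F (T.simple i) (-a) * T.sH F (T.simple i) a * (s * s),
      mul_mem (mul_mem (mul_mem hu'' (hpB hp hpp _))
        (Subgroup.mem_sup_right (sH_mem_sDiag hO i hane))) (Subgroup.mem_sup_right (sN_sq_mem hO i)),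
      n, hn, T.sX F (T.neg v.val) ((c : F) * -a) * (n⁻¹ * h * n),
      mul_mem (hpB (neg_lt' v.2) (le_negF hneg) _) (Subgroup.mem_sup_right hh'), ?_⟩
    have hd' : T.sX F (T.simple i) (-a) * (s * n) = (s * n) * T.sX F (T.neg v.val) ((c : F) * -a) := by
      rw [inv_mul_eq_iff_eq_mul, ← mul_assoc, eq_mul_inv_iff_mul_eq] at hd
      exact hd
    calc s * (u' * T.sX F (T.simple i) t * h) * n
        = (s * u' * s⁻¹) * (s * T.sX F (T.simple i) t) * n * (n⁻¹ * h * n) := by group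
      _ = (s * u' * s⁻¹) * T.sX F (T.simple i) (-a) * T.sH F (T.simple i) a * s *
          (T.sX F (T.simple i) (-a) * (s * n)) * (n⁻¹ * h * n) := by rw [hx, hy]; group
      _ = _ := by rw [hd']; group

theorem exists_bruhat (g : T.datum.SteinbergGroup F) :
    ∃ a ∈ T.sBorel F, ∃ m ∈ T.sMon F, ∃ c ∈ T.sBorel F, g = a * m * c := by
  have hT := hO.valid
  let S : Set (T.datum.SteinbergGroup F) :=
    {g | ∃ a ∈ T.sBorel F, ∃ m ∈ T.sMon F, ∃ c ∈ T.sBorel F, g = a * m * c}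
  let M : Subgroup (T.datum.SteinbergGroup F) :=
    { carrier := {g | (∀ x ∈ S, g * x ∈ S) ∧ ∀ x ∈ S, g⁻¹ * x ∈ S}
      one_mem' := ⟨fun x h => by simpa using h, fun x h => by simpa using h⟩
      mul_mem' := fun {p q} hp hq => ⟨fun x h => by rw [mul_assoc]; exact hp.1 _ (hq.1 x h),
        fun x h => by rw [mul_inv_rev, mul_assoc]; exact hq.2 _ (hp.2 x h)⟩
      inv_mem' := fun {p} hp => ⟨hp.2, by simpa using hp.1⟩ }
  have hB : ∀ b ∈ T.sBorel F, b ∈ M := fun b hb =>
    ⟨fun x ⟨a, ha, m, hm, c, hc, e⟩ => ⟨b * a, mul_mem hb ha, m, hm, c, hc, by rw [e]; group⟩,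
      fun x ⟨a, ha, m, hm, c, hc, e⟩ =>
        ⟨b⁻¹ * a, mul_mem (inv_mem hb) ha, m, hm, c, hc, by rw [e]; group⟩⟩
  have hs1 : ∀ (i : Fin T.rank), ∀ x ∈ S, T.sN F (T.simple i) 1 * x ∈ S := by
    rintro i _ ⟨a, ha, m, hm, c, hc, rfl⟩
    obtain ⟨a', ha', m', hm', c', hc', e⟩ := sbn_axiom hO i hm ha
    exact ⟨a', ha', m', hm', c' * c, mul_mem hc' hc, by
      rw [show T.sN F (T.simple i) 1 * (a * m * c) = T.sN F (T.simple i) 1 * a * m * c by group, e]
      group⟩
  have hs : ∀ i : Fin T.rank, T.sN F (T.simple i) 1 ∈ M := by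
    refine fun i => ⟨hs1 i, fun x hx => ?_⟩
    have h2 := (hB _ (Subgroup.mem_sup_right (inv_mem (sN_sq_mem (F := F) hO i)))).1 _ (hs1 i x hx)
    rwa [show (T.sN F (T.simple i) 1 * T.sN F (T.simple i) 1)⁻¹ * (T.sN F (T.simple i) 1 * x) =
      (T.sN F (T.simple i) 1)⁻¹ * x by group] at h2
  have hall : ∀ r < T.n, ∀ t, T.sX F r t ∈ M := by
    refine root_induction hT (P := fun r => ∀ t, T.sX F r t ∈ M) (fun i hi t => ?_) ?_
    · exact hB _ (Subgroup.mem_sup_left
        (sX_mem_sGen (P := fun r => T.half ≤ r) (simple_lt hT hi) (simple_pos' hT hi) t))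
    · intro j hj v hv ih t
      have hL := lifts_sN hO ⟨j, hj⟩ (one_ne_zero (α := F))
      obtain ⟨c, hc⟩ := hL.mono.conj ⟨v, hv⟩
      have h1 := hL.conj ⟨v, hv⟩ (((c⁻¹ : Fˣ) : F) * t) t (by
        have := (hc (((c⁻¹ : Fˣ) : F) * t)).1
        rwa [← mul_assoc (c : F), ← Units.val_mul, mul_inv_cancel, Units.val_one, one_mul] at this)
      change T.sN F (T.simple j) 1 * T.sX F v _ = T.sX F (T.refl j v) t * _ at h1
      rw [show T.sX F (T.refl j v) t = T.sN F (T.simple j) 1 * T.sX F v (((c⁻¹ : Fˣ) : F) * t) *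
        (T.sN F (T.simple j) 1)⁻¹ by rw [h1, mul_inv_cancel_right]]
      exact mul_mem (mul_mem (hs ⟨j, hj⟩) (ih _)) (inv_mem (hs ⟨j, hj⟩))
  have htop : (⊤ : Subgroup (T.datum.SteinbergGroup F)) ≤ M := by
    rw [← PresentedGroup.closure_range_of (T.datum.steinbergRels F), Subgroup.closure_le]
    rintro _ ⟨⟨r, t⟩, rfl⟩
    have := hall r.val r.2 t
    rwa [sX, Cfsg.Lie.ChevalleyDatum.stGen, Cfsg.Lie.ChevalleyDatum.stX, dif_pos r.2] at this
  have := (htop (Subgroup.mem_top g)).1 1 ⟨1, one_mem _, 1, one_mem _, 1, one_mem _, by simp⟩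
  rwa [mul_one] at this

theorem hom_sBorel {b : T.datum.SteinbergGroup F} (hb : b ∈ T.sBorel F) :
    hO.hom F b ∈ T.datum.borelSubgroup F := by
  obtain ⟨u, hu, h, hh, rfl⟩ := (mem_sBorel_iff hO).mp hb
  rw [map_mul]
  refine mul_mem (Subgroup.mem_sup_left ?_) (Subgroup.mem_sup_right (hom_sDiag hO hh))
  rw [posUnipotent_rootGen hO.valid, ← stHom_sGen hO.valid hO.comm]
  exact ⟨u, hu, rfl⟩

theorem hom_sMon {g : T.datum.SteinbergGroup F} (hg : g ∈ T.sMon F) :
    hO.hom F g ∈ T.datum.monomialSubgroup F := by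
  obtain ⟨h, hh, l, rfl⟩ := exists_snw hO hg
  rw [map_mul]
  refine mul_mem (diag_le_N hO.valid (hom_sDiag hO hh)) ?_
  rw [snw, map_list_prod, List.map_map]
  refine list_prod_mem fun x hx => ?_
  obtain ⟨i, -, rfl⟩ := List.mem_map.mp hx
  rw [Function.comp_apply, hom_sN hO (simple_lt hO.valid i.2)]
  exact nU_simple_mem_N hO.valid i

/-- The kernel lies in `H̄`. -/
theorem ker_le_sDiag : (hO.hom F).ker ≤ T.sDiag F := by
  intro g hg
  have hT := hO.valid
  obtain ⟨a, ha, m, hm, c, hc, rfl⟩ := exists_bruhat hO g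
  rw [MonoidHom.mem_ker, map_mul, map_mul, mul_eq_one_iff_eq_inv, ← eq_inv_mul_iff_mul_eq] at hg
  obtain ⟨π, hL⟩ := exists_lifts hO hm
  have hdiag : hO.hom F m ∈ T.datum.diagonalSubgroup F := by
    rw [← borel_inf_monomial (T := T) (F := F) hT]
    refine ⟨?_, hom_sMon hO hm⟩
    show hO.hom F m ∈ T.datum.borelSubgroup F
    rw [hg]
    exact mul_mem (inv_mem (hom_sBorel hO ha)) (inv_mem (hom_sBorel hO hc))
  have hπ : π = 1 := hL.mono.unique (mono_diag hT hdiag)
  subst hπ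
  have hmH := mem_sDiag_of_lifts_one hO hm hL
  have hgB : a * m * c ∈ T.sBorel F := mul_mem (mul_mem ha (Subgroup.mem_sup_right hmH)) hc
  obtain ⟨u, hu, h, hh, e⟩ := (mem_sBorel_iff hO).mp hgB
  have h1 : hO.hom F u * hO.hom F h = 1 := by
    rw [← map_mul, ← e, map_mul, map_mul, hg]; group
  have hu1 : hO.hom F u = 1 := by
    have : hO.hom F u ∈ (⊥ : Subgroup (GL T.I F)) := by
      rw [← pos_inf_diag (T := T) (F := F) hT]
      refine ⟨?_, ?_⟩
      · rw [SetLike.mem_coe, posUnipotent_rootGen hT, ← stHom_sGen hT hO.comm]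
        exact ⟨u, hu, rfl⟩
      · show hO.hom F u ∈ T.datum.diagonalSubgroup F
        rw [eq_inv_of_mul_eq_one_left h1]; exact inv_mem (hom_sDiag hO hh)
    exact Subgroup.mem_bot.mp this
  have hu0 : u = 1 := eq_of_sys hO (one_mem _) Mono.one (P := fun r => T.half ≤ r)
    (fun r hr => hr) hu (one_mem _) (by rw [hu1, map_one])
  rw [e, hu0, one_mul]
  exact hh

omit hO in
theorem group_center_eq_bot (hT : T.Valid) (hC : T.chkComm = true) :
    Subgroup.center ↥(T.datum.group F) = ⊥ := by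
  rw [eq_bot_iff, ← borel_core (F := F) hT hC, Subgroup.normal_le_normalCore]
  intro z hz
  have := BNPair.Parabolic.normalizer_eq (bnPair hT hC F) (le_refl _)
  change z ∈ (bnPair hT hC F).B
  rw [← this, Subgroup.mem_normalizer_iff]
  intro b
  rw [← Subgroup.mem_center_iff.mp hz b, mul_inv_cancel_right]

theorem hom_mem_group (g : T.datum.SteinbergGroup F) : hO.hom F g ∈ T.datum.group F := by
  have : (⊤ : Subgroup (T.datum.SteinbergGroup F)) ≤ (T.datum.group F).comap (hO.hom F) := by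
    rw [← PresentedGroup.closure_range_of (T.datum.steinbergRels F), Subgroup.closure_le]
    rintro _ ⟨⟨r, t⟩, rfl⟩
    rw [SetLike.mem_coe, Subgroup.mem_comap]
    have e := hom_sX hO r.2 t
    rw [sX, Cfsg.Lie.ChevalleyDatum.stGen, Cfsg.Lie.ChevalleyDatum.stX, dif_pos r.2] at e
    exact (congrArg (· ∈ T.datum.group F) e).mpr (xU_mem_group hO.valid r.2 t)
  exact this (Subgroup.mem_top g)

/-- The map onto the Chevalley group. -/
noncomputable def stProj : T.datum.SteinbergGroup F →* ↥(T.datum.group F) :=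
  (hO.hom F).codRestrict _ (hom_mem_group hO)

theorem stProj_surjective : Function.Surjective (stProj (F := F) hO) := by
  rintro ⟨g, hg⟩
  have hle : T.datum.group F ≤ (hO.hom F).range := by
    rw [group_eq hO.valid, Subgroup.closure_le]
    rintro _ ⟨r, hr, t, rfl⟩
    exact ⟨_, hom_sX hO hr t⟩
  obtain ⟨x, hx⟩ := hle hg
  exact ⟨x, Subtype.ext hx⟩

theorem stProj_ker : (stProj (F := F) hO).ker = Subgroup.center _ := by
  refine le_antisymm (fun k hk => ?_) (fun z hz => ?_)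
  · have hk1 : hO.hom F k = 1 := congrArg Subtype.val hk
    have hL := lifts_sDiag hO (ker_le_sDiag hO (MonoidHom.mem_ker.mpr hk1))
    rw [Subgroup.mem_center_iff]
    intro g
    have hle : (⊤ : Subgroup (T.datum.SteinbergGroup F)) ≤ Subgroup.centralizer {k} := by
      rw [← PresentedGroup.closure_range_of (T.datum.steinbergRels F), Subgroup.closure_le]
      rintro _ ⟨⟨r, t⟩, rfl⟩
      rw [SetLike.mem_coe, Subgroup.mem_centralizer_singleton_iff]
      have e := hL.conj r t t (by rw [hk1, one_mul, mul_one]; rfl)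
      change k * T.sX F r.val t = T.sX F r.val t * k at e
      rw [sX, Cfsg.Lie.ChevalleyDatum.stGen, Cfsg.Lie.ChevalleyDatum.stX, dif_pos r.2] at e
      exact e.symm
    exact Subgroup.mem_centralizer_singleton_iff.mp (hle (Subgroup.mem_top g))
  · have hc : stProj hO z ∈ Subgroup.center ↥(T.datum.group F) := by
      rw [Subgroup.mem_center_iff]
      intro g
      obtain ⟨x, rfl⟩ := stProj_surjective hO g
      rw [← map_mul, ← map_mul, Subgroup.mem_center_iff.mp hz x]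
    rw [group_center_eq_bot hO.valid hO.comm, Subgroup.mem_bot] at hc
    exact hc

end CfsgLib.Chevalley.Tbl
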