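import Cfsg.Agent.Lib.Chevalley.GraphCheck
import Cfsg.Agent.Lib.Chevalley.SteinbergKernel
import Mathlib.Algebra.CharP.Frobenius

/-!
Endomorphisms of the Chevalley group given by root maps, through the presented group.
-/

set_option autoImplicit false

namespace CfsgLib.Chevalley.Tbl

variable {T : Tbl} {F : Type*} [Field F]

/-- The map on parameters of the root `r`. -/
def RootMap.par (M : RootMap) (r : ℕ) (t : F) : F := (M.ε r : F) * t ^ M.lam r

/-- The characteristic admits the exponents. -/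
def CharOk (F : Type*) [Field F] (p : ℕ) : Prop := p = 0 ∨ (p.Prime ∧ CharP F p)

theorem CharOk.cast_mod {p : ℕ} (hp : CharOk F p) (z : ℤ) : ((z % (p : ℤ) : ℤ) : F) = (z : F) := by
  have h0 : (p : F) = 0 := by
    rcases hp with rfl | ⟨-, h⟩
    · exact Nat.cast_zero
    · exact CharP.cast_eq_zero F p
  conv_rhs => rw [← Int.mul_ediv_add_emod z p]
  push_cast
  rw [h0, zero_mul, zero_add]

theorem chkMap_facts {p : ℕ} {M : RootMap} (h : T.chkMap p M = true) {r : ℕ} (hr : r < T.n) :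
    M.ρ r < T.n ∧ M.ρ (T.neg r) = T.neg (M.ρ r) ∧ (M.ε r = 1 ∨ M.ε r = -1) ∧
      M.ε (T.neg r) = M.ε r ∧ M.lam (T.neg r) = M.lam r ∧
      (M.lam r = 1 ∨ (M.lam r = p ∧ 1 < p)) ∧ ∀ s < T.n, M.ρ r = M.ρ s → r = s := by
  have h1 := allLt_iff.mp h r hr
  simp only [Bool.and_eq_true, chkMapRoot, Bool.or_eq_true, decide_eq_true_eq, chkMapInj,
    allLt_iff] at h1
  obtain ⟨⟨⟨⟨⟨⟨⟨a, b⟩, c⟩, d⟩, e⟩, f⟩, g⟩, -⟩ := h1
  refine ⟨Nat.le_of_ble_eq_true a, Nat.eq_of_beq_eq_true b, c, d, Nat.eq_of_beq_eq_true e, ?_,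
    fun s hs hrs => ?_⟩
  · rcases f with f | ⟨f1, f2⟩
    · exact Or.inl (Nat.eq_of_beq_eq_true f)
    · exact Or.inr ⟨Nat.eq_of_beq_eq_true f1, Nat.le_of_ble_eq_true f2⟩
  · rcases g s hs with g | g
    · exact Nat.eq_of_beq_eq_true g
    · simp [hrs] at g

section

variable {p : ℕ} (hp : CharOk F p) {M : RootMap} (hM : T.chkMap p M = true) {r : ℕ} (hr : r < T.n)
include hp hM hr

theorem lam_cases : M.lam r = 1 ∨ ∃ q : ℕ, M.lam r = q ∧ q.Prime ∧ CharP F q := by
  rcases (chkMap_facts hM hr).2.2.2.2.2.1 with h | ⟨h, h1⟩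
  · exact Or.inl h
  · rcases hp with rfl | hp
    · omega
    · exact Or.inr ⟨p, h, hp⟩

theorem lam_pos : 0 < M.lam r := by
  rcases lam_cases hp hM hr with h | ⟨q, h, hq, -⟩
  · omega
  · rw [h]; exact hq.pos

theorem pow_lam_add (a b : F) : (a + b) ^ M.lam r = a ^ M.lam r + b ^ M.lam r := by
  rcases lam_cases hp hM hr with h | ⟨q, h, hq, hc⟩
  · simp [h]
  · haveI := hc
    haveI : Fact q.Prime := ⟨hq⟩
    rw [h, add_pow_char]

theorem pow_lam_neg (a : F) : (-a) ^ M.lam r = -a ^ M.lam r := by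
  have h := pow_lam_add hp hM hr a (-a)
  rw [add_neg_cancel, zero_pow (lam_pos hp hM hr).ne'] at h
  linear_combination -h

theorem pow_lam_int (z : ℤ) : (z : F) ^ M.lam r = (z : F) := by
  rcases lam_cases hp hM hr with h | ⟨q, h, hq, hc⟩
  · simp [h]
  · haveI := hc
    haveI : Fact q.Prime := ⟨hq⟩
    rw [h]
    exact map_intCast (frobenius F q) z

theorem eps_sq : (M.ε r : F) * (M.ε r : F) = 1 := by
  rcases (chkMap_facts hM hr).2.2.1 with h | h <;> simp [h]

end

variable (hO : T.StOk) {p : ℕ} (hp : CharOk F p) {M : RootMap} (hM : T.chkMap p M = true)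
include hO hp hM

theorem map_comm {r s : ℕ} (hr : r < T.n) (hs : s < T.n) (hrs : s ≠ r) (hneg : s ≠ T.neg r) (t u : F) :
    T.xU F (M.ρ s) (M.par s u) * T.xU F (M.ρ r) (M.par r t) =
      T.xU F (M.ρ r) (M.par r t) * T.xU F (M.ρ s) (M.par s u) *
        ((T.commT r s).map fun c =>
          T.xU F (M.ρ c.1) (M.par c.1 ((c.2.1 : F) * (-t) ^ c.2.2.1 * u ^ c.2.2.2))).prod := by
  classical
  have hT := hO.valid
  obtain ⟨hr', hrneg, -, -, -, -, hrinj⟩ := chkMap_facts hM hr
  obtain ⟨hs', -, -, -, -, -, -⟩ := chkMap_facts hM hs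
  have hrs' : M.ρ s ≠ M.ρ r := fun e => hrs (hrinj s hs e.symm).symm
  have hneg' : M.ρ s ≠ T.neg (M.ρ r) := fun e => hneg (by
    rw [← hrneg] at e
    exact ((chkMap_facts hM (neg_lt' hr)).2.2.2.2.2.2 s hs e.symm).symm)
  rw [comm_xU hT hO.comm hr' hs' hrs' hneg' (M.par r t) (M.par s u)]
  congr 1
  let G : ℕ × ℤ × ℕ × ℕ → GL T.I F := fun c =>
    T.xU F c.1 ((c.2.1 : F) * (-t) ^ c.2.2.1 * u ^ c.2.2.2)
  have hfilter : ∀ l : List (ℕ × ℤ × ℕ × ℕ), (∀ c ∈ l, c.1 < T.n) →
      ((l.filter fun c => !decide (c.2.1 = 0)).map G).prod = (l.map G).prod := by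
    intro l hl
    induction l with
    | nil => rfl
    | cons c l ih =>
      have ih' := ih fun d hd => hl d (List.mem_cons_of_mem _ hd)
      by_cases hc : c.2.1 = 0
      · rw [List.filter_cons_of_neg (by simp [hc]), ih', List.map_cons, List.prod_cons]
        simp [G, hc, xU_zero hT (hl c List.mem_cons_self)]
      · rw [List.filter_cons_of_pos (by simp [hc]), List.map_cons, List.map_cons, List.prod_cons,
          List.prod_cons, ih']
  have hL : ((T.lhsTerms p M r s).map G).prod = ((T.commT r s).map fun c =>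
      T.xU F (M.ρ c.1) (M.par c.1 ((c.2.1 : F) * (-t) ^ c.2.2.1 * u ^ c.2.2.2))).prod := by
    rw [lhsTerms, hfilter _ (by
      intro c hc
      obtain ⟨d, hd, rfl⟩ := List.mem_map.mp hc
      exact (chkMap_facts hM (commT_lt hT hr hs d hd)).1), List.map_map]
    refine congrArg List.prod (List.map_congr_left fun c hc => ?_)
    have hv := commT_lt hT hr hs c hc
    simp only [G, Function.comp_apply, RootMap.par]
    congr 1
    rw [hp.cast_mod, Int.cast_mul, mul_pow, mul_pow, pow_lam_int hp hM hv, ← pow_mul, ← pow_mul]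
    ring
  have hR : ((T.rhsTerms p M r s).map G).prod = ((T.commT (M.ρ r) (M.ρ s)).map fun c =>
      T.xU F c.1 ((c.2.1 : F) * (-M.par r t) ^ c.2.2.1 * M.par s u ^ c.2.2.2)).prod := by
    rw [rhsTerms, hfilter _ (by
      intro c hc
      obtain ⟨d, hd, rfl⟩ := List.mem_map.mp hc
      exact commT_lt hT hr' hs' d hd), List.map_map]
    refine congrArg List.prod (List.map_congr_left fun c hc => ?_)
    simp only [G, Function.comp_apply, RootMap.par]
    congr 1
    rw [hp.cast_mod, ← mul_neg, ← pow_lam_neg hp hM hr, mul_pow, mul_pow, ← pow_mul, ← pow_mul]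
    push_cast
    ring
  rw [← hR, ← hL]
  have hpair := allLt_iff.mp hM r hr
  simp only [Bool.and_eq_true] at hpair
  have hpair' := allLt_iff.mp hpair.2 s hs
  simp only [chkMapPair, Bool.or_eq_true, Bool.and_eq_true] at hpair'
  rcases hpair' with (h | h) | ⟨hperm, hcomm⟩
  · exact absurd (Nat.eq_of_beq_eq_true h).symm hrs
  · exact absurd (Nat.eq_of_beq_eq_true h) hneg
  refine (List.Perm.prod_eq' (List.Perm.map G (List.isPerm_iff.mp hperm)) ?_).symm
  have hall : ∀ a ∈ T.rhsTerms p M r s, ∀ b ∈ T.rhsTerms p M r s, Commute (G a) (G b) := by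
    intro a ha b hb
    have hlt : ∀ c ∈ T.rhsTerms p M r s, c.1 < T.n := by
      intro c hc
      obtain ⟨hc, -⟩ := List.mem_filter.mp hc
      obtain ⟨d, hd, rfl⟩ := List.mem_map.mp hc
      exact commT_lt hT hr' hs' d hd
    have h1 := List.all_eq_true.mp (List.all_eq_true.mp hcomm a ha) b hb
    simp only [commMod, Bool.or_eq_true, Bool.and_eq_true, Bool.not_eq_true', List.all_eq_true,
      decide_eq_true_eq] at h1
    rcases h1 with h1 | ⟨h1, h2⟩
    · have e := Nat.eq_of_beq_eq_true h1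
      simp only [G, e]
      show _ * _ = _ * _
      rw [xU_add hT (hlt b hb), xU_add hT (hlt b hb), add_comm]
    · by_cases e : b.1 = a.1
      · simp only [G, e]
        show _ * _ = _ * _
        rw [xU_add hT (hlt a ha), xU_add hT (hlt a ha), add_comm]
      · have hne : b.1 ≠ T.neg a.1 := fun e2 => by rw [e2] at h1; simp at h1
        have h3 := comm_xU hT hO.comm (hlt a ha) (hlt b hb) e hne
          ((a.2.1 : F) * (-t) ^ a.2.2.1 * u ^ a.2.2.2) ((b.2.1 : F) * (-t) ^ b.2.2.1 * u ^ b.2.2.2)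
        rw [List.prod_eq_one, mul_one] at h3
        · exact h3.symm
        · intro x hx
          obtain ⟨d, hd, rfl⟩ := List.mem_map.mp hx
          have hz : (d.2.1 : F) = 0 := by rw [← hp.cast_mod, h2 d hd, Int.cast_zero]
          rw [hz, zero_mul, zero_mul, xU_zero hT (commT_lt hT (hlt a ha) (hlt b hb) d hd)]
  have hmem : ∀ a ∈ (T.lhsTerms p M r s).map G, a ∈ (T.rhsTerms p M r s).map G := fun a ha =>
    (List.Perm.map G (List.isPerm_iff.mp hperm)).subset ha
  refine List.pairwise_of_forall_mem_list fun a ha b hb => ?_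
  obtain ⟨a', ha', rfl⟩ := List.mem_map.mp (hmem a ha)
  obtain ⟨b', hb', rfl⟩ := List.mem_map.mp (hmem b hb)
  exact hall a' ha' b' hb'

theorem map_par_neg_inv {r : ℕ} (hr : r < T.n) (t : F) :
    M.par (T.neg r) (-t⁻¹) = -(M.par r t)⁻¹ := by
  obtain ⟨-, -, -, he, hl, -, -⟩ := chkMap_facts hM hr
  rw [RootMap.par, RootMap.par, he, hl, pow_lam_neg hp hM hr, _root_.mul_inv, inv_pow,
    inv_eq_of_mul_eq_one_right (eps_sq hp hM hr), mul_neg]

theorem map_hU_mul {r : ℕ} (hr : r < T.n) {a b : F} (ha : a ≠ 0) (hb : b ≠ 0) :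
    T.nU F (M.ρ r) (M.par r a) * T.nU F (M.ρ r) (M.par r (-1)) *
        (T.nU F (M.ρ r) (M.par r b) * T.nU F (M.ρ r) (M.par r (-1))) =
      T.nU F (M.ρ r) (M.par r (a * b)) * T.nU F (M.ρ r) (M.par r (-1)) := by
  have hT := hO.valid
  obtain ⟨hr', -, -, -, -, -, -⟩ := chkMap_facts hM hr
  have hee := eps_sq hp hM hr
  let e : Fˣ := ⟨(M.ε r : F), (M.ε r : F), hee, hee⟩
  let A : Fˣ := Units.mk0 (a ^ M.lam r) (pow_ne_zero _ ha)
  let B : Fˣ := Units.mk0 (b ^ M.lam r) (pow_ne_zero _ hb)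
  have h1 : M.par r (-1) = ((-e : Fˣ) : F) := by
    rw [RootMap.par, pow_lam_neg hp hM hr, one_pow, Units.val_neg, mul_neg, mul_one]
  have key : ∀ C : Fˣ, T.nU F (M.ρ r) ((M.ε r : F) * (C : F)) * T.nU F (M.ρ r) (M.par r (-1)) =
      T.dU (T.hCh (M.ρ r) C) := by
    intro C
    rw [h1, show (M.ε r : F) * (C : F) = ((e * C : Fˣ) : F) from rfl, nU_t hT hr', nU_t hT hr',
      ← mul_assoc, mul_assoc (T.dU (T.hCh (M.ρ r) (e * C))) (T.nU F (M.ρ r) 1),
      nU_dU_hCh hT hr', ← mul_assoc, dU_mul, hCh_mul, mul_assoc, nU_sq hT hr', dU_mul, hCh_mul]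
    congr 2
    apply Units.ext
    simp only [Units.val_mul, Units.val_neg, Units.val_inv_eq_inv_val, Units.val_one]
    have he0 : (e : F) ≠ 0 := e.ne_zero
    field_simp
  have e2 : M.par r (a * b) = (M.ε r : F) * ((A * B : Fˣ) : F) := by
    simp [RootMap.par, A, B, mul_pow]
  rw [e2, show M.par r a = (M.ε r : F) * (A : F) from rfl,
    show M.par r b = (M.ε r : F) * (B : F) from rfl, key, key, key, dU_mul, hCh_mul]

/-- The map on the presented group. -/
noncomputable def rootMapSt : T.datum.SteinbergGroup F →* GL T.I F :=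
  PresentedGroup.toGroup (f := fun q : Fin T.datum.nroots × F => T.xU F (M.ρ q.1.val) (M.par q.1.val q.2))
    (by
    set f := fun q : Fin T.datum.nroots × F => T.xU F (M.ρ q.1.val) (M.par q.1.val q.2)
    have hX : ∀ r < T.n, ∀ t : F,
        FreeGroup.lift f (T.datum.stX r t) = T.xU F (M.ρ r) (M.par r t) := by
      intro r hr t
      rw [Cfsg.Lie.ChevalleyDatum.stX, dif_pos hr, FreeGroup.lift_apply_of]
    have hW : ∀ w : List (ℕ × F), (∀ q ∈ w, q.1 < T.n) → FreeGroup.lift f (T.datum.stWord w) =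
          (w.map fun q => T.xU F (M.ρ q.1) (M.par q.1 q.2)).prod := by
      intro w hw
      rw [Cfsg.Lie.ChevalleyDatum.stWord, map_list_prod, List.map_map]
      exact congrArg List.prod (List.map_congr_left fun q hq => hX q.1 (hw q hq) q.2)
    rintro g ((⟨r, t₁, t₂, hr, rfl⟩ | ⟨r, s, t, u, hr, hs, hrs, hneg, rfl⟩) |
      ⟨r, t₁, t₂, hr, h₁, h₂, rfl⟩)
    · have hr' : r < T.n := hr
      simp only [map_mul, map_inv, hX r hr', RootMap.par, xU_add hO.valid (chkMap_facts hM hr').1,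
        pow_lam_add hp hM hr', mul_add, mul_inv_cancel]
    · have hr' : r < T.n := hr
      have hs' : s < T.n := hs
      rw [datum_neg hr'] at hneg
      simp only [map_mul, map_inv, hX r hr', hX s hs']
      rw [hW _ (by
        intro q hq
        simp only [Cfsg.Lie.ChevalleyDatum.commWord, datum_commTerms hO.valid hr' hs',
          List.mem_map] at hq
        obtain ⟨c, hc, rfl⟩ := hq
        exact commT_lt hO.valid hr' hs' c hc)]
      simp only [Cfsg.Lie.ChevalleyDatum.commWord, datum_commTerms hO.valid hr' hs', List.map_map,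
        Function.comp_def]
      rw [mul_assoc _ (T.xU F (M.ρ s) (M.par s u)) (T.xU F (M.ρ r) (M.par r t)),
        map_comm hO hp hM hr' hs' hrs hneg t u]
      group
    · have hr' : r < T.n := hr
      obtain ⟨hr'', hrneg, -, -, -, -, -⟩ := chkMap_facts hM hr'
      have hh : ∀ c : F, FreeGroup.lift f (T.datum.stH r c) =
          T.nU F (M.ρ r) (M.par r c) * T.nU F (M.ρ r) (M.par r (-1)) := by
        intro c
        rw [Cfsg.Lie.ChevalleyDatum.stH, hW]
        · simp only [Cfsg.Lie.ChevalleyDatum.hWord, Cfsg.Lie.ChevalleyDatum.nWord, datum_neg hr',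
            List.cons_append, List.nil_append, List.map_cons, List.map_nil, List.prod_cons,
            List.prod_nil, mul_one, map_par_neg_inv hO hp hM hr', hrneg, nU, mul_assoc]
        · have := neg_lt' hr'
          simp [Cfsg.Lie.ChevalleyDatum.hWord, Cfsg.Lie.ChevalleyDatum.nWord, datum_neg hr', hr', this]
      simp only [map_mul, map_inv, hh]
      rw [map_hU_mul hO hp hM hr' h₁ h₂, mul_inv_cancel])

theorem rootMapSt_sX {r : ℕ} (hr : r < T.n) (t : F) :
    rootMapSt hO hp hM (T.sX F r t) = T.xU F (M.ρ r) (M.par r t) := by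
  rw [sX, Cfsg.Lie.ChevalleyDatum.stGen, Cfsg.Lie.ChevalleyDatum.stX, dif_pos hr]
  exact PresentedGroup.toGroup.of _

theorem rootMapSt_mem (g : T.datum.SteinbergGroup F) : rootMapSt hO hp hM g ∈ T.datum.group F := by
  have : (⊤ : Subgroup (T.datum.SteinbergGroup F)) ≤
      (T.datum.group F).comap (rootMapSt hO hp hM) := by
    rw [← PresentedGroup.closure_range_of (T.datum.steinbergRels F), Subgroup.closure_le]
    rintro _ ⟨⟨r, t⟩, rfl⟩
    rw [SetLike.mem_coe, Subgroup.mem_comap]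
    have e := rootMapSt_sX hO hp hM r.2 t
    rw [sX, Cfsg.Lie.ChevalleyDatum.stGen, Cfsg.Lie.ChevalleyDatum.stX, dif_pos r.2] at e
    exact (congrArg (· ∈ T.datum.group F) e).mpr (xU_mem_group hO.valid (chkMap_facts hM r.2).1 _)
  exact this (Subgroup.mem_top g)

theorem par_surjective (hperf : ∀ x : F, ∃ y : F, y ^ p = x ∨ p = 0) {r : ℕ} (hr : r < T.n) :
    Function.Surjective (M.par (F := F) r) := by
  intro x
  rcases (chkMap_facts hM hr).2.2.2.2.2.1 with h | ⟨h, h1⟩
  · exact ⟨(M.ε r : F) * x, by rw [RootMap.par, h, pow_one, ← mul_assoc, eps_sq hp hM hr, one_mul]⟩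
  · obtain ⟨y, hy⟩ := hperf ((M.ε r : F) * x)
    rcases hy with hy | hy
    · exact ⟨y, by rw [RootMap.par, h, hy, ← mul_assoc, eps_sq hp hM hr, one_mul]⟩
    · omega

theorem rootMapSt_surjective (hperf : ∀ x : F, ∃ y : F, y ^ p = x ∨ p = 0) :
    Function.Surjective ((rootMapSt hO hp hM).codRestrict _ (rootMapSt_mem hO hp hM)) := by
  rintro ⟨g, hg⟩
  have hinj : Set.InjOn M.ρ (Set.Iio T.n) := fun a ha b hb e =>
    (chkMap_facts hM ha).2.2.2.2.2.2 b hb e
  have hle : T.datum.group F ≤ (rootMapSt hO hp hM).range := by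
    rw [group_eq hO.valid, Subgroup.closure_le]
    rintro _ ⟨v, hv, t, rfl⟩
    have hmaps : Set.MapsTo M.ρ (Set.Iio T.n) (Set.Iio T.n) := fun a ha => (chkMap_facts hM ha).1
    obtain ⟨r, hr, rfl⟩ := (((Set.finite_Iio T.n).injOn_iff_bijOn_of_mapsTo hmaps).mp hinj).surjOn hv
    obtain ⟨t', ht'⟩ := par_surjective hO hp hM hperf hr t
    exact ⟨_, by rw [rootMapSt_sX hO hp hM hr, ht']⟩
  obtain ⟨x, hx⟩ := hle hg
  exact ⟨x, Subtype.ext hx⟩

/-- The endomorphism of the Chevalley group. -/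
theorem exists_rootMap_end (hperf : ∀ x : F, ∃ y : F, y ^ p = x ∨ p = 0) :
    ∃ σ : ↥(T.datum.group F) →* ↥(T.datum.group F), Function.Surjective σ ∧
      ∀ (g : ↥(T.datum.group F)) (r : ℕ) (t : F), r < T.n → (g : GL T.I F) = T.xU F r t →
        (σ g : GL T.I F) = T.xU F (M.ρ r) (M.par r t) := by
  set ψ := (rootMapSt hO hp hM).codRestrict _ (rootMapSt_mem hO hp hM) with hψ
  have hs := rootMapSt_surjective hO hp hM hperf
  have hker : (stProj (F := F) hO).ker ≤ ψ.ker := by
    rw [stProj_ker hO]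
    intro z hz
    have hc : ψ z ∈ Subgroup.center ↥(T.datum.group F) := by
      rw [Subgroup.mem_center_iff]
      intro g
      obtain ⟨x, rfl⟩ := hs g
      rw [← map_mul, ← map_mul, Subgroup.mem_center_iff.mp hz x]
    rw [group_center_eq_bot hO.valid hO.comm, Subgroup.mem_bot] at hc
    exact hc
  have hlift := MonoidHom.liftOfRightInverse_comp_apply (stProj (F := F) hO)
    (Function.surjInv (stProj_surjective hO)) (Function.rightInverse_surjInv (stProj_surjective hO))
    ⟨ψ, hker⟩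
  set σ := (stProj (F := F) hO).liftOfRightInverse (Function.surjInv (stProj_surjective hO))
    (Function.rightInverse_surjInv (stProj_surjective hO)) ⟨ψ, hker⟩
  refine ⟨σ, fun g => ?_, fun g r t hr hg => ?_⟩
  · obtain ⟨x, rfl⟩ := hs g
    exact ⟨stProj hO x, hlift x⟩
  · have e : g = stProj hO (T.sX F r t) := Subtype.ext (hg.trans (hom_sX hO hr t).symm)
    rw [e, hlift]
    exact rootMapSt_sX hO hp hM hr t

omit hp hM in
/-- Root maps with inverses up to the Frobenius map give automorphisms. -/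
theorem exists_rootMap_aut {M N : RootMap} (hp : CharOk F p) (hM : T.chkMap p M = true)
    (hN : T.chkMap p N = true) (hinv : T.chkInvMap p M N = true)
    (hperf : ∀ x : F, ∃ y : F, y ^ p = x ∨ p = 0) :
    ∃ α : ↥(T.datum.group F) ≃* ↥(T.datum.group F),
      ∀ (g : ↥(T.datum.group F)) (r : ℕ) (t : F), r < T.n → (g : GL T.I F) = T.xU F r t →
        (α g : GL T.I F) = T.xU F (M.ρ r) (M.par r t) := by
  obtain ⟨σ, hσs, hσ⟩ := exists_rootMap_end hO hp hM hperf
  obtain ⟨τ, -, hτ⟩ := exists_rootMap_end hO hp hN hperf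
  obtain ⟨f, hf, hfe⟩ : ∃ f : F →+* F, Function.Injective f ∧
      ∀ t : F, f t = t ^ (bif Nat.beq p 0 then 1 else p) := by
    rcases hp with rfl | ⟨hpr, hc⟩
    · exact ⟨RingHom.id F, fun a b h => h, fun t => by simp⟩
    · haveI := hc
      haveI : Fact p.Prime := ⟨hpr⟩
      refine ⟨frobenius F p, (frobenius F p).injective, fun t => ?_⟩
      have : Nat.beq p 0 = false := Bool.eq_false_iff.mpr fun h => hpr.ne_zero (Nat.eq_of_beq_eq_true h)
      rw [this]
      rfl
  let Φ : GL T.I F →* GL T.I F := Units.map f.mapMatrix.toMonoidHom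
  have key : ∀ g : ↥(T.datum.group F), ((τ (σ g)) : GL T.I F) = Φ (g : GL T.I F) := by
    intro g
    have hle : (T.datum.group F).subgroupOf (T.datum.group F) ≤
        MonoidHom.eqLocus ((T.datum.group F).subtype.comp (τ.comp σ))
          (Φ.comp (T.datum.group F).subtype) := by
      have hgen : (Subgroup.closure {g : GL T.I F | ∃ r < T.n, ∃ t, g = T.xU F r t}) ≤
          (MonoidHom.eqLocus ((T.datum.group F).subtype.comp (τ.comp σ))
            (Φ.comp (T.datum.group F).subtype)).map (T.datum.group F).subtype := by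
        rw [Subgroup.closure_le]
        rintro _ ⟨r, hr, t, rfl⟩
        refine ⟨⟨_, xU_mem_group hO.valid hr t⟩, ?_, rfl⟩
        obtain ⟨hr', -, -, -, -, -, -⟩ := chkMap_facts hM hr
        show ((τ (σ ⟨_, _⟩)) : GL T.I F) = Φ (T.xU F r t)
        rw [hτ _ _ _ hr' (hσ _ r t hr rfl)]
        have h := allLt_iff.mp hinv r hr
        simp only [Bool.and_eq_true, decide_eq_true_eq] at h
        obtain ⟨⟨h1, h2⟩, h3⟩ := h
        have hpar : N.par (M.ρ r) (M.par r t) = f t := by
          rw [hfe, ← Nat.eq_of_beq_eq_true h3, RootMap.par, RootMap.par, mul_pow,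
            pow_lam_int hp hN hr', ← mul_assoc, ← Int.cast_mul, h2, Int.cast_one, one_mul, ← pow_mul]
        rw [hpar, Nat.eq_of_beq_eq_true h1]
        apply Units.ext
        show ((T.xU F r (f t) : GL T.I F) : Matrix T.I T.I F) = f.mapMatrix _
        rw [xU_val hO.valid hr, xU_val hO.valid hr, map_X]
      intro x hx
      have hx' := (group_eq hO.valid).le x.2
      obtain ⟨y, hy, hye⟩ := hgen hx'
      rwa [show x = y from Subtype.ext hye.symm]
    exact hle (show g ∈ (T.datum.group F).subgroupOf (T.datum.group F) from g.2)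
  have hinjσ : Function.Injective σ := by
    intro a b h
    have h' := congrArg (fun x => ((τ x : ↥(T.datum.group F)) : GL T.I F)) h
    simp only [key] at h'
    exact Subtype.ext (Units.map_injective (Matrix.map_injective hf) h')
  exact ⟨MulEquiv.ofBijective σ ⟨hinjσ, hσs⟩, hσ⟩

end CfsgLib.Chevalley.Tbl
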