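import Cfsg.Agent.Lib.Chevalley.Weyl

/-!
Inversions of elements of the reflection group and minimal coset representatives.
-/

set_option autoImplicit false

namespace CfsgLib.Chevalley.Tbl

/-- The number of positive roots sent to negative ones. -/
def invN (T : Tbl) (w : Equiv.Perm (Fin T.n)) : ℕ :=
  (Finset.univ.filter fun s : Fin T.n => T.half ≤ s.val ∧ (w s).val < T.half).card

/-- The roots in the span of the first `k` fundamental ones. -/
def InSpan (T : Tbl) (k : ℕ) (s : Fin T.n) : Prop := ∀ j < T.rank, k ≤ j → T.co s.val j = 0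

instance (T : Tbl) (k : ℕ) (s : Fin T.n) : Decidable (T.InSpan k s) :=
  inferInstanceAs (Decidable (∀ j < T.rank, k ≤ j → T.co s.val j = 0))

/-- The subgroup generated by the first `k` fundamental reflections. -/
def WK (T : Tbl) (hT : T.Valid) (k : ℕ) : Subgroup (Equiv.Perm (Fin T.n)) :=
  Subgroup.closure {w | ∃ i : Fin T.rank, i.val < k ∧ w = T.refP hT i}

variable {T : Tbl} (hT : T.Valid)
include hT

theorem WK_le (k : ℕ) : T.WK hT k ≤ T.WP hT :=
  (Subgroup.closure_le _).mpr (by rintro _ ⟨i, -, rfl⟩; exact Subgroup.subset_closure ⟨i, rfl⟩)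

theorem WK_rank : T.WK hT T.rank = T.WP hT :=
  le_antisymm (WK_le hT _) ((Subgroup.closure_le _).mpr
    (by rintro _ ⟨i, rfl⟩; exact Subgroup.subset_closure ⟨i, i.2, rfl⟩))

theorem WK_zero : T.WK hT 0 = ⊥ := by
  rw [eq_bot_iff, WK, Subgroup.closure_le]
  rintro _ ⟨i, hi, -⟩
  omega

theorem WK_mono {k l : ℕ} (h : k ≤ l) : T.WK hT k ≤ T.WK hT l :=
  Subgroup.closure_mono (by rintro _ ⟨i, hi, rfl⟩; exact ⟨i, by omega, rfl⟩)

theorem refP_mem_WK {k : ℕ} {i : Fin T.rank} (hi : i.val < k) : T.refP hT i ∈ T.WK hT k :=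
  Subgroup.subset_closure ⟨i, hi, rfl⟩

theorem half_le_of_co_nonneg {v : ℕ} (hv : v < T.n) (h : ∀ j < T.rank, 0 ≤ T.co v j) :
    T.half ≤ v := by
  by_contra hlt
  have hp : T.isPos (T.neg v) = true := by rw [isPos_iff]; unfold neg n at *; omega
  have h1 := ht_pos hT (neg_lt' hv) hp
  rw [ht, list_sum_range] at h1
  have h2 : ∑ j : Fin T.rank, T.co (T.neg v) j ≤ 0 :=
    Finset.sum_nonpos fun j _ => by rw [co_neg hT hv j.2]; have := h j j.2; omega
  omega

theorem lt_half_of_co_nonpos {v : ℕ} (hv : v < T.n) (h : ∀ j < T.rank, T.co v j ≤ 0) :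
    v < T.half := by
  by_contra hge
  have hp : T.isPos v = true := isPos_iff.mpr (not_lt.mp hge)
  have h1 := ht_pos hT hv hp
  rw [ht, list_sum_range] at h1
  have h2 : ∑ j : Fin T.rank, T.co v j ≤ 0 := Finset.sum_nonpos fun j _ => h j j.2
  omega

theorem co_nonneg' {s : Fin T.n} (h : T.half ≤ s.val) {j : ℕ} (hj : j < T.rank) : 0 ≤ T.co s.val j :=
  co_nonneg hT s.2 (isPos_iff.mpr h) hj

theorem co_nonpos' {s : Fin T.n} (h : s.val < T.half) {j : ℕ} (hj : j < T.rank) :
    T.co s.val j ≤ 0 := by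
  have := co_nonneg' hT (s := T.negF s) (le_negF h) hj
  rw [negF, co_neg hT s.2 hj] at this
  omega

theorem co_simpF (i : Fin T.rank) {j : ℕ} (hj : j < T.rank) :
    T.co (T.simpF hT i).val j = if j = i.val then 1 else 0 :=
  co_simple hT i.2 hj

theorem WP_pos_of_simple {w : Equiv.Perm (Fin T.n)} (hw : w ∈ T.WP hT) {k : ℕ}
    (h : ∀ i : Fin T.rank, i.val < k → T.half ≤ (w (T.simpF hT i)).val) {s : Fin T.n}
    (hs : T.InSpan k s) (hp : T.half ≤ s.val) : T.half ≤ (w s).val := by
  refine half_le_of_co_nonneg hT (w s).2 fun j hj => ?_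
  rw [WP_linear hT hw s hj]
  refine Finset.sum_nonneg fun i _ => ?_
  rcases Nat.lt_or_ge i.val k with h' | h'
  · exact mul_nonneg (co_nonneg' hT hp i.2) (co_nonneg' hT (h i h') hj)
  · rw [hs i.val i.2 h', zero_mul]

theorem inSpan_rank (s : Fin T.n) : T.InSpan T.rank s := fun j hj hk => by omega

theorem inSpan_simpF {k : ℕ} {i : Fin T.rank} (hi : i.val < k) : T.InSpan k (T.simpF hT i) := by
  intro j hj hkj
  rw [co_simpF hT i hj, if_neg (by omega)]

theorem inSpan_negF {k : ℕ} {s : Fin T.n} (h : T.InSpan k s) : T.InSpan k (T.negF s) := by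
  intro j hj hkj
  rw [negF, co_neg hT s.2 hj, h j hj hkj, _root_.neg_zero]

/-- An element preserving positivity of all fundamental roots is the identity. -/
theorem eq_one_of_pos {w : Equiv.Perm (Fin T.n)} (hw : w ∈ T.WP hT)
    (h : ∀ i : Fin T.rank, T.half ≤ (w (T.simpF hT i)).val) : w = 1 := by
  obtain ⟨l, rfl⟩ := exists_pw hT hw
  have key : ∀ m, ∀ l' : List (Fin T.rank), l'.length = m → T.pw hT l' = T.pw hT l →
      T.pw hT l = 1 := by
    intro m
    induction m using Nat.strong_induction_on with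
    | _ m IH =>
    intro l' hl' he
    rcases List.eq_nil_or_concat l' with rfl | ⟨l0, i, rfl⟩
    · rw [← he, pw_nil]
    rw [List.concat_eq_append] at hl' he
    have hneg : (T.pw hT l0 (T.simpF hT i)).val < T.half := by
      have h1 := h i
      rw [← he, pw_append, Equiv.Perm.mul_apply, show T.pw hT [i] = T.refP hT i by simp [pw],
        refP_simpF, WP_negF hT (pw_mem hT l0)] at h1
      by_contra hge
      exact absurd h1 (not_le.mpr (negF_lt (not_lt.mp hge)))
    obtain ⟨l1, j, l2, rfl, -, x, hx, e⟩ := deletion (F := ℚ) hT i l0 hneg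
    have e2 : T.pw hT (l1 ++ l2) = T.pw hT l := by
      rw [← pw_of_nw hT hx i e, ← he, pw_append hT _ [i], show T.pw hT [i] = T.refP hT i by simp [pw]]
    exact IH (l1 ++ l2).length (by simp at hl' ⊢; omega) _ rfl e2
  exact key _ l rfl rfl

/-- Elements of `WP` are determined by the coordinates of the images of the fundamental roots. -/
theorem WP_ext {w w' : Equiv.Perm (Fin T.n)} (hw : w ∈ T.WP hT) (hw' : w' ∈ T.WP hT)
    (h : ∀ i : Fin T.rank, ∀ j < T.rank,
      T.co (w (T.simpF hT i)).val j = T.co (w' (T.simpF hT i)).val j) : w = w' := by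
  have h1 : w'⁻¹ * w = 1 := by
    refine eq_one_of_pos hT (mul_mem (inv_mem hw') hw) fun i => ?_
    refine half_le_of_co_nonneg hT (Fin.isLt _) fun j hj => ?_
    have e : T.co ((w'⁻¹ * w) (T.simpF hT i)).val j = T.co (T.simpF hT i).val j := by
      rw [Equiv.Perm.mul_apply, WP_linear hT (inv_mem hw') _ hj,
        Finset.sum_congr rfl fun k _ => by rw [h i k.val k.2], ← WP_linear hT (inv_mem hw') _ hj]
      simp
    rw [e]
    exact co_nonneg' hT (half_le_simpF hT i) hj
  exact (inv_mul_eq_one.mp h1).symm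

theorem WK_inSpan {k : ℕ} {v : Equiv.Perm (Fin T.n)} (hv : v ∈ T.WK hT k) (s : Fin T.n) :
    (T.InSpan k s → T.InSpan k (v s)) ∧ (∀ j < T.rank, k ≤ j → T.co (v s).val j = T.co s.val j) := by
  have key : ∀ j < T.rank, k ≤ j → T.co (v s).val j = T.co s.val j := by
    intro j hj hkj
    induction hv using Subgroup.closure_induction generalizing s with
    | mem x hx =>
      obtain ⟨i, hi, rfl⟩ := hx
      rw [refP_apply, co_refl hT i.2 s.2 hj, if_neg (by omega), sub_zero]
    | one => rfl
    | mul x y _ _ hx hy => rw [Equiv.Perm.mul_apply, hx, hy]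
    | inv x _ hx =>
      have := hx (x⁻¹ s)
      rw [show x (x⁻¹ s) = s from x.apply_symm_apply s] at this
      exact this.symm
  exact ⟨fun h j hj hkj => by rw [key j hj hkj, h j hj hkj], key⟩

theorem WK_pos_iff {k : ℕ} {v : Equiv.Perm (Fin T.n)} (hv : v ∈ T.WK hT k) {s : Fin T.n}
    (hp : T.half ≤ s.val) (hs : ¬ T.InSpan k s) : T.half ≤ (v s).val ∧ ¬ T.InSpan k (v s) := by
  simp only [InSpan] at hs
  push Not at hs
  obtain ⟨j, hj, hkj, hne⟩ := hs
  have e := (WK_inSpan hT hv s).2 j hj hkj
  refine ⟨?_, fun h => hne (by rw [← e]; exact h j hj hkj)⟩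
  by_contra hlt
  have h1 := co_nonpos' hT (not_le.mp hlt) hj
  have h2 := co_nonneg' hT hp hj
  omega

/-- Length is additive on a minimal representative times an element of the smaller group. -/
theorem invN_mul {k : ℕ} {u v : Equiv.Perm (Fin T.n)} (hu : u ∈ T.WP hT)
    (hpos : ∀ i : Fin T.rank, i.val < k → T.half ≤ (u (T.simpF hT i)).val) (hv : v ∈ T.WK hT k) :
    T.invN (u * v) = T.invN u + T.invN v := by
  classical
  set A := Finset.univ.filter fun s : Fin T.n => T.half ≤ s.val ∧ ((u * v) s).val < T.half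
  have hA : ∀ s : Fin T.n, s ∈ A ↔ T.half ≤ s.val ∧ (u (v s)).val < T.half := fun s => by
    rw [Finset.mem_filter]; exact and_iff_right (Finset.mem_univ s)
  have hneg : ∀ x : Fin T.n, T.InSpan k x → x.val < T.half → (u x).val < T.half := by
    intro x hx hlt
    have := WP_pos_of_simple hT hu hpos (inSpan_negF hT hx) (le_negF hlt)
    rw [WP_negF hT hu] at this
    by_contra hge
    exact absurd this (not_le.mpr (negF_lt (not_lt.mp hge)))
  have h1 : A.filter (T.InSpan k) =
      Finset.univ.filter fun s : Fin T.n => T.half ≤ s.val ∧ (v s).val < T.half := by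
    ext s
    simp only [Finset.mem_filter, Finset.mem_univ, true_and, hA]
    refine ⟨fun ⟨⟨hp, hn⟩, hs⟩ => ⟨hp, ?_⟩, fun ⟨hp, hn⟩ => ?_⟩
    · by_contra hge
      have := WP_pos_of_simple hT hu hpos ((WK_inSpan hT hv s).1 hs) (not_lt.mp hge)
      omega
    · have hs : T.InSpan k s := by
        by_contra hs
        have := (WK_pos_iff hT hv hp hs).1
        omega
      exact ⟨⟨hp, hneg _ ((WK_inSpan hT hv s).1 hs) hn⟩, hs⟩
  have h2 : (A.filter fun s => ¬ T.InSpan k s).card =
      (Finset.univ.filter fun s : Fin T.n => T.half ≤ s.val ∧ (u s).val < T.half).card := by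
    refine Finset.card_bij (fun s _ => v s) (fun s hs => ?_) (fun a _ b _ h => v.injective h)
      (fun y hy => ?_)
    · simp only [Finset.mem_filter, hA, Finset.mem_univ, true_and] at hs ⊢
      exact ⟨(WK_pos_iff hT hv hs.1.1 hs.2).1, hs.1.2⟩
    · simp only [Finset.mem_filter, Finset.mem_univ, true_and] at hy
      have hys : ¬ T.InSpan k y := fun h => by
        have := WP_pos_of_simple hT hu hpos h hy.1
        omega
      obtain ⟨hp, hs⟩ := WK_pos_iff hT (inv_mem hv) hy.1 hys
      refine ⟨v⁻¹ y, ?_, v.apply_symm_apply y⟩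
      simp only [Finset.mem_filter, hA]
      refine ⟨⟨hp, ?_⟩, hs⟩
      rw [show v (v⁻¹ y) = y from v.apply_symm_apply y]
      exact hy.2
  show A.card = _
  rw [← Finset.card_filter_add_card_filter_not (T.InSpan k) (s := A), h1, h2, Nat.add_comm]
  rfl

theorem invN_one : T.invN (1 : Equiv.Perm (Fin T.n)) = 0 := by
  rw [invN, Finset.card_eq_zero, Finset.filter_eq_empty_iff]
  intro s _ h
  simp at h
  omega

/-- `refP i` has a single inversion. -/
theorem invN_refP (i : Fin T.rank) : T.invN (T.refP hT i) = 1 := by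
  rw [invN, Finset.card_eq_one]
  refine ⟨T.simpF hT i, ?_⟩
  ext s
  simp only [Finset.mem_filter, Finset.mem_univ, true_and, Finset.mem_singleton]
  refine ⟨fun ⟨h1, h2⟩ => ?_, fun h => ?_⟩
  · by_contra hne
    exact absurd (refP_pos hT h1 hne) (not_le.mpr h2)
  · subst h
    exact ⟨half_le_simpF hT i, by rw [refP_simpF]; exact negF_lt (half_le_simpF hT i)⟩

/-- Multiplying by a fundamental reflection on the left raises the length by one. -/
theorem invN_refP_mul {w : Equiv.Perm (Fin T.n)} (hw : w ∈ T.WP hT) (i : Fin T.rank)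
    {r : Fin T.n} (hr : T.half ≤ r.val) (hwr : w r = T.simpF hT i) :
    T.invN (T.refP hT i * w) = T.invN w + 1 := by
  classical
  rw [invN, invN]
  have hset : (Finset.univ.filter fun s : Fin T.n => T.half ≤ s.val ∧ ((T.refP hT i * w) s).val < T.half) =
      insert r (Finset.univ.filter fun s : Fin T.n => T.half ≤ s.val ∧ (w s).val < T.half) := by
    ext s
    rw [Finset.mem_filter, Finset.mem_insert, Finset.mem_filter]
    simp only [Finset.mem_univ, true_and, Equiv.Perm.mul_apply]
    constructor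
    · rintro ⟨h1, h2⟩
      by_cases hs : s = r
      · exact Or.inl hs
      · refine Or.inr ⟨h1, ?_⟩
        by_contra hge
        have hne : w s ≠ T.simpF hT i := fun e => hs (w.injective (e.trans hwr.symm))
        exact absurd (refP_pos hT (not_lt.mp hge) hne) (not_le.mpr h2)
    · rintro (rfl | ⟨h1, h2⟩)
      · exact ⟨hr, by rw [hwr, refP_simpF]; exact negF_lt (half_le_simpF hT i)⟩
      · refine ⟨h1, ?_⟩
        by_contra hge
        have hne : T.negF (w s) ≠ T.simpF hT i := fun e => by
          rw [← WP_negF hT hw, ← hwr] at e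
          have := congrArg Fin.val (w.injective e)
          have h3 := negF_lt (s := s) h1
          omega
        have := refP_pos hT (le_negF h2) hne
        rw [WP_negF hT (Subgroup.subset_closure ⟨i, rfl⟩)] at this
        exact absurd this (not_le.mpr (negF_lt (not_lt.mp hge)))
  rw [hset, Finset.card_insert_of_notMem]
  intro h
  simp only [Finset.mem_filter] at h
  rw [hwr] at h
  exact absurd h.2.2 (not_lt.mpr (half_le_simpF hT i))

end CfsgLib.Chevalley.Tbl
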