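import Cfsg.Agent.Lib.Chevalley.Poincare
import Cfsg.Agent.Lib.Chevalley.Torus
import Cfsg.Agent.Lib.Chevalley.Coxeter

/-!
The order formula.
-/

set_option autoImplicit false

namespace CfsgLib.Chevalley.Tbl

variable {T : Tbl}

theorem group_order (hT : T.Valid) (hC : T.chkComm = true) {F : Type*} [Field F] [Fintype F] {q : ℕ}
    (hq : Fintype.card F = q) {U U' V V' : List (List ℤ)} {d : List ℕ}
    (hsm : T.chkSmith U U' V V' d = true) {steps : List (List Rep)} {degs : List ℕ}
    (hl : steps.length = T.rank) (hs : ∀ j < T.rank, T.chkStep j (steps.getD j []) = true)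
    (hp : chkPoly steps degs = true) :
    (∏ i : Fin T.rank, Nat.gcd (q - 1) (d.getD i.val 0)) * Nat.card ↥(T.datum.group F) =
      q ^ T.half * (degs.map fun e => q ^ e - 1).prod := by
  classical
  have hq1 : 1 ≤ q := by rw [← hq]; exact Fintype.card_pos
  rw [card_group hT hC, hq]
  have hH := card_diag hT hq hsm (F := F)
  have hcalc : (∏ i : Fin T.rank, Nat.gcd (q - 1) (d.getD i.val 0)) *
      (q ^ T.half * Nat.card (T.datum.diagonalSubgroup F) *
        ∑ w : ↥(T.WP hT), q ^ T.invN (w : Equiv.Perm (Fin T.n))) =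
      q ^ T.half * ((q - 1) ^ T.rank * ∑ w : ↥(T.WP hT), q ^ T.invN (w : Equiv.Perm (Fin T.n))) := by
    rw [← hH]; ring
  rw [hcalc]
  congr 1
  apply Int.natCast_inj.mp
  rw [Nat.cast_mul, Nat.cast_pow, Nat.cast_sub hq1, Nat.cast_sum, Nat.cast_one]
  simp only [Nat.cast_pow]
  rw [poincare hT hl hs hp (q : ℤ)]
  clear hp
  induction degs with
  | nil => simp
  | cons e l ih =>
    simp only [List.map_cons, List.prod_cons, Nat.cast_mul, ih, Nat.cast_sub (Nat.one_le_pow e q hq1),
      Nat.cast_pow, Nat.cast_one]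

/-- The order of the Coxeter group. -/
theorem card_coxeter (hT : T.Valid) (M : CoxeterMatrix (Fin T.rank))
    (hM : ∀ i j : Fin T.rank, T.chkOrd [i.val, j.val] (M i j) = true) {steps : List (List Rep)}
    (hl : steps.length = T.rank) (hs : ∀ j < T.rank, T.chkStep j (steps.getD j []) = true) {c : ℕ}
    (hc : (steps.map fun L => (L.length : ℤ)).prod = c) : Nat.card M.Group = c := by
  obtain ⟨e, -⟩ := exists_coxeter hT M hM
  rw [← Nat.card_congr e.toEquiv]
  exact Int.natCast_inj.mp ((card_WP hT hl hs).trans hc)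

theorem diag_order (hT : T.Valid) {F : Type*} [Field F] [Fintype F] {q : ℕ}
    (hq : Fintype.card F = q) {U U' V V' : List (List ℤ)} {d : List ℕ}
    (hsm : T.chkSmith U U' V V' d = true) :
    (∏ i : Fin T.rank, Nat.gcd (q - 1) (d.getD i.val 0)) * Nat.card (T.datum.diagonalSubgroup F) =
      (q - 1) ^ T.rank :=
  card_diag hT hq hsm

end CfsgLib.Chevalley.Tbl
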