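import Cfsg.Agent.Lib.Chevalley.Lie

/-!
The root elements over a commutative ring are automorphisms of the Lie algebra.
-/

set_option autoImplicit false

namespace CfsgLib.Chevalley.Tbl

open Matrix Finset

variable {T : Tbl} (hT : T.Valid)

/-- Integral form of `exp(t ad e_r) ad(c) exp(-t ad e_r) = ad(exp(t ad e_r) c)`. -/
theorem conj_coeff (hT : T.Valid) {r : ℕ} (hr : r < T.n) (c : T.I) (k : ℕ) :
    ∑ p ∈ antidiagonal k, ((-1 : ℤ) ^ p.2) • (T.A r p.1 * T.adM c * T.A r p.2) =
      T.ad fun b => T.A r k b c := by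
  induction k with
  | zero =>
    rw [Finset.Nat.antidiagonal_zero, sum_singleton]
    simp only [pow_zero, one_smul, A_zero, one_mul, mul_one]
    rw [← ad_single c]
    congr 1
    ext b
    simp [Matrix.one_apply, Pi.single_apply]
  | succ k ih =>
    apply smul_right_injective _ (by omega : ((k : ℤ) + 1) ≠ 0)
    show ((k : ℤ) + 1) • _ = ((k : ℤ) + 1) • _
    have h1 := (der_root hT hr).ad_vec fun b => T.A r k b c
    have h2 : T.A r 1 *ᵥ (fun b => T.A r k b c) = ((k : ℤ) + 1) • fun b => T.A r (k + 1) b c := by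
      rw [← mul_col, A_one_mul hT r hr k]; rfl
    rw [h2, map_smul, ← ih] at h1
    rw [← h1, mul_sum, sum_mul, smul_sum]
    have e : ∀ p ∈ antidiagonal (k + 1),
        ((k : ℤ) + 1) • (((-1 : ℤ) ^ p.2) • (T.A r p.1 * T.adM c * T.A r p.2)) =
        (p.1 : ℤ) • (((-1 : ℤ) ^ p.2) • (T.A r p.1 * T.adM c * T.A r p.2)) +
        (p.2 : ℤ) • (((-1 : ℤ) ^ p.2) • (T.A r p.1 * T.adM c * T.A r p.2)) := by
      intro p hp
      rw [Finset.HasAntidiagonal.mem_antidiagonal] at hp
      rw [← add_smul]; congr 1; omega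
    rw [sum_congr rfl e, sum_add_distrib, Finset.Nat.sum_antidiagonal_succ,
      Finset.Nat.sum_antidiagonal_succ']
    simp only [Nat.cast_zero, zero_smul, zero_add, add_zero]
    rw [← sub_eq_zero, add_sub_assoc, sub_sub_eq_add_sub, ← sum_add_distrib, ← sum_sub_distrib]
    rw [← sum_add_distrib]
    refine sum_eq_zero fun p _ => ?_
    have hl : ((p.1 : ℤ) + 1) • (T.A r (p.1 + 1) * T.adM c * T.A r p.2) =
        T.A r 1 * (T.A r p.1 * T.adM c * T.A r p.2) := by
      rw [← mul_assoc, ← mul_assoc, A_one_mul hT r hr, smul_mul_assoc, smul_mul_assoc]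
    have hr' : ((p.2 : ℤ) + 1) • (T.A r p.1 * T.adM c * T.A r (p.2 + 1)) =
        T.A r p.1 * T.adM c * T.A r p.2 * T.A r 1 := by
      rw [mul_assoc (T.A r p.1 * T.adM c) (T.A r p.2), A_mul_A hT r hr,
        show ((p.2 + 1).choose p.2 : ℤ) = (p.2 : ℤ) + 1 by norm_num, mul_smul_comm]
    simp only [mul_smul_comm, smul_mul_assoc, Nat.cast_add, Nat.cast_one, ← hl, ← hr', pow_succ]
    module

variable (R : Type*) [CommRing R]

/-- Base change of an integral matrix. -/
def castM : Matrix T.I T.I ℤ →+* Matrix T.I T.I R := (Int.castRingHom R).mapMatrix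

/-- The matrix of `x_r(t)`. -/
def X (r : ℕ) (t : R) : Matrix T.I T.I R := ∑ k ∈ range 4, t ^ k • castM R (T.A r k)

/-- The adjoint map over `R`. -/
def adR : (T.I → R) →ₗ[R] Matrix T.I T.I R :=
  Fintype.linearCombination R fun b => castM R (T.adM b)

theorem adR_apply (v : T.I → R) : adR R v = ∑ b, v b • castM R (T.adM b) :=
  Fintype.linearCombination_apply R (fun b => castM R (T.adM b)) v

theorem castM_apply (M : Matrix T.I T.I ℤ) (i j : T.I) : castM R M i j = (M i j : R) := rfl

theorem castM_smul (z : ℤ) (M : Matrix T.I T.I ℤ) : castM R (z • M) = (z : R) • castM R M := by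
  ext i j
  show ((z * M i j : ℤ) : R) = (z : R) * (M i j : R)
  push_cast; rfl

theorem adR_cast (v : T.I → ℤ) : adR R (fun b => (v b : R)) = castM R (T.ad v) := by
  rw [adR_apply, ad_apply, map_sum]
  exact Finset.sum_congr rfl fun b _ => (castM_smul R _ _).symm

theorem map_X {R' : Type*} [CommRing R'] (f : R →+* R') (r : ℕ) (t : R) :
    f.mapMatrix (X R r t : Matrix T.I T.I R) = X R' r (f t) := by
  ext i j
  simp [X, Matrix.sum_apply, castM_apply]

theorem X_zero (r : ℕ) : (X R r 0 : Matrix T.I T.I R) = 1 := by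
  simp [X, sum_range_succ, A_zero, castM]

include hT

theorem castA_mul {r : ℕ} (hr : r < T.n) (i j : ℕ) :
    castM R (T.A r i) * castM R (T.A r j) = ((i + j).choose i : R) • castM R (T.A r (i + j)) := by
  rw [← map_mul, A_mul_A hT r hr, castM_smul, Int.cast_natCast]

theorem X_mul {r : ℕ} (hr : r < T.n) (s t : R) :
    (X R r s * X R r t : Matrix T.I T.I R) = X R r (s + t) := by
  have h4 : ∀ k, 4 ≤ k → castM (T := T) R (T.A r k) = 0 := fun k hk => by
    rw [A_eq_zero hT hr hk, map_zero]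
  simp only [X, sum_range_succ, sum_range_zero, zero_add, add_mul, mul_add, smul_mul_assoc,
    mul_smul_comm, castA_mul hT R hr, smul_smul, Nat.reduceAdd]
  simp only [h4 4 le_rfl, h4 5 (by norm_num), h4 6 (by norm_num), smul_zero, add_zero]
  norm_num [Nat.choose]
  module

theorem X_mul_X_neg {r : ℕ} (hr : r < T.n) (t : R) :
    (X R r t * X R r (-t) : Matrix T.I T.I R) = 1 := by
  rw [X_mul hT R hr, add_neg_cancel, X_zero]

/-- Root elements are automorphisms. -/
theorem X_conj_adM {r : ℕ} (hr : r < T.n) (t : R) (c : T.I) :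
    X R r t * castM R (T.adM c) * X R r (-t) = adR R fun b => X R r t b c := by
  have hsum : (fun b => X (T := T) R r t b c) =
      ∑ k ∈ range 4, t ^ k • fun b => (T.A r k b c : R) := by
    funext b; simp [X, Matrix.sum_apply, castM_apply]
  have hY : ∀ k, ∑ p ∈ antidiagonal k, ((-1 : R) ^ p.2) •
      (castM R (T.A r p.1) * castM R (T.adM c) * castM R (T.A r p.2)) =
      adR R fun b => (T.A r k b c : R) := by
    intro k
    rw [adR_cast, ← conj_coeff hT hr c k, map_sum]
    refine sum_congr rfl fun p _ => ?_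
    rw [castM_smul, map_mul, map_mul]; simp
  have h4 : ∀ k, 4 ≤ k → castM (T := T) R (T.A r k) = 0 := fun k hk => by
    rw [A_eq_zero hT hr hk, map_zero]
  have hY0 : ∀ k, 4 ≤ k → adR (T := T) R (fun b => (T.A r k b c : R)) = 0 := fun k hk => by
    rw [A_eq_zero hT hr hk]
    rw [show (fun b => (((0 : Matrix T.I T.I ℤ) b c : ℤ) : R)) = 0 by funext b; simp, map_zero]
  have e4 := hY 4
  have e5 := hY 5
  have e6 := hY 6
  rw [hY0 4 le_rfl] at e4
  rw [hY0 5 (by norm_num)] at e5
  rw [hY0 6 (by norm_num)] at e6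
  have e0 := hY 0
  have e1 := hY 1
  have e2 := hY 2
  have e3 := hY 3
  simp [Finset.Nat.sum_antidiagonal_succ, Finset.Nat.antidiagonal_zero, h4] at e0 e1 e2 e3 e4 e5 e6
  rw [hsum, map_sum]
  simp only [map_smul, X, sum_range_succ, sum_range_zero, zero_add, add_mul, mul_add,
    smul_mul_assoc, mul_smul_comm, smul_smul]
  rw [← e0, ← e1, ← e2, ← e3]
  simp only [pow_zero, one_smul]
  linear_combination (norm := module) (t ^ 4) • e4 + (t ^ 5) • e5 - (t ^ 6) • e6

theorem X_conj_adR {r : ℕ} (hr : r < T.n) (t : R) (v : T.I → R) :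
    X R r t * adR R v * X R r (-t) = adR R (X R r t *ᵥ v) := by
  have hv : X R r t *ᵥ v = ∑ c, v c • fun b => X (T := T) R r t b c := by
    funext b; simp [Matrix.mulVec, dotProduct, mul_comm]
  rw [hv, map_sum, adR_apply, Finset.mul_sum, Finset.sum_mul]
  exact Finset.sum_congr rfl fun c _ => by
    rw [map_smul, ← X_conj_adM hT R hr, mul_smul_comm, smul_mul_assoc]

end CfsgLib.Chevalley.Tbl
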