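import Mathlib

/-!
Homomorphisms out of `SL₂` of a field.
-/

set_option autoImplicit false

namespace CfsgLib.Chevalley.SL2

open Matrix

variable {F : Type*} [Field F] {G : Type*} [Group G]

/-- Elements satisfying the relations of `SL₂`. -/
structure Data (F : Type*) [Field F] (G : Type*) [Group G] where
  x : F → G
  y : F → G
  h : Fˣ → G
  n : G
  x_add : ∀ a b, x a * x b = x (a + b)
  h_mul : ∀ a b, h a * h b = h (a * b)
  h_x : ∀ c t, h c * x t = x (((c : F) ^ 2) * t) * h c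
  n_h : ∀ c, n * h c = h c⁻¹ * n
  n_n : n * n = h (-1)
  n_x : ∀ t, n * x t = y (-t) * n
  n_t : ∀ u : Fˣ, x u * y (-(u : F)⁻¹) * x u = h u * n

variable (S : Data F G)

theorem Data.x_zero : S.x 0 = 1 := by
  have := S.x_add 0 0; rw [add_zero] at this; exact mul_eq_left.mp this

theorem Data.h_one : S.h 1 = 1 := by
  have := S.h_mul 1 1; rw [one_mul] at this; exact mul_eq_left.mp this

theorem Data.y_eq (t : F) : S.y t = S.n * S.x (-t) * S.n⁻¹ := by
  rw [S.n_x, neg_neg, mul_inv_cancel_right]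

theorem Data.n_inv : S.n⁻¹ = S.n * S.h (-1) := by
  apply inv_eq_of_mul_eq_one_right
  rw [← mul_assoc, S.n_n, S.h_mul]
  norm_num [S.h_one]

theorem Data.h_neg_one_x (t : F) : S.h (-1) * S.x t = S.x t * S.h (-1) := by
  rw [S.h_x]; simp

theorem Data.n_x_n (t : Fˣ) :
    S.n * S.x t * S.n = S.x (-(t : F)⁻¹) * S.h (-t⁻¹) * S.n * S.x (-(t : F)⁻¹) := by
  have h := S.n_t t⁻¹
  rw [S.y_eq, S.n_inv] at h
  simp only [Units.val_inv_eq_inv_val, inv_inv, neg_neg] at h
  have h2 : S.n * S.x t * (S.n * S.h (-1)) =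
      S.x (-(t : F)⁻¹) * (S.h t⁻¹ * S.n) * S.x (-(t : F)⁻¹) := by
    rw [← h]
    simp only [← mul_assoc, S.x_add, neg_add_cancel, S.x_zero, one_mul]
    rw [mul_assoc (S.n * S.x t * S.n * S.h (-1)) (S.x _) (S.x _), S.x_add, add_neg_cancel, S.x_zero,
      mul_one]
  have h3 : S.h (-1) * S.h (-1) = 1 := by rw [S.h_mul]; simp [S.h_one]
  calc S.n * S.x t * S.n = S.n * S.x t * (S.n * S.h (-1)) * S.h (-1) := by
        rw [mul_assoc _ _ (S.h (-1)), mul_assoc S.n (S.h (-1)), h3, mul_one]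
    _ = S.x (-(t : F)⁻¹) * (S.h t⁻¹ * (S.n * S.h (-1))) * S.x (-(t : F)⁻¹) := by
        rw [h2, mul_assoc _ (S.x _) (S.h (-1)), ← S.h_neg_one_x]; simp only [mul_assoc]
    _ = S.x (-(t : F)⁻¹) * S.h (-t⁻¹) * S.n * S.x (-(t : F)⁻¹) := by
        rw [S.n_h, ← mul_assoc (S.h t⁻¹), S.h_mul]; simp [mul_assoc]

/-- The map on `SL₂`. -/
noncomputable def Data.map (g : SpecialLinearGroup (Fin 2) F) : G := by
  classical
  exact if hc : g.1 1 0 = 0 then
      S.h (Units.mk0 (g.1 0 0) (fun ha => by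
        have := g.2; rw [Matrix.det_fin_two, ha, hc] at this; simp at this)) * S.x (g.1 0 1 / g.1 0 0)
    else
      S.x (g.1 0 0 / g.1 1 0) * S.h (-(Units.mk0 _ hc)⁻¹) * S.n * S.x (g.1 1 1 / g.1 1 0)

theorem Data.map_zero {g : SpecialLinearGroup (Fin 2) F} (hc : g.1 1 0 = 0) (a : Fˣ)
    (ha : g.1 0 0 = a) : S.map g = S.h a * S.x (g.1 0 1 / g.1 0 0) := by
  rw [Data.map, dif_pos hc]
  congr 2
  exact Units.ext ha

theorem Data.map_ne {g : SpecialLinearGroup (Fin 2) F} (c : Fˣ) (hc : g.1 1 0 = c) :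
    S.map g = S.x (g.1 0 0 / c) * S.h (-c⁻¹) * S.n * S.x (g.1 1 1 / c) := by
  rw [Data.map, dif_neg (by rw [hc]; exact c.ne_zero)]
  simp only [hc]
  rw [show Units.mk0 (c : F) c.ne_zero = c from Units.ext rfl]

/-- The upper unitriangular element. -/
def ux (t : F) : SpecialLinearGroup (Fin 2) F := ⟨!![1, t; 0, 1], by simp [Matrix.det_fin_two]⟩

/-- The diagonal element. -/
def dh (c : Fˣ) : SpecialLinearGroup (Fin 2) F :=
  ⟨!![(c : F), 0; 0, (c : F)⁻¹], by simp [Matrix.det_fin_two]⟩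

/-- The Weyl element. -/
def wn : SpecialLinearGroup (Fin 2) F := ⟨!![0, 1; -1, 0], by simp [Matrix.det_fin_two]⟩

theorem val_ux_mul (t : F) (g : SpecialLinearGroup (Fin 2) F) :
    (ux t * g).1 = !![g.1 0 0 + t * g.1 1 0, g.1 0 1 + t * g.1 1 1; g.1 1 0, g.1 1 1] := by
  show !![1, t; 0, 1] * g.1 = _
  ext i j; fin_cases i <;> fin_cases j <;> simp [Matrix.mul_apply]

theorem val_dh_mul (c : Fˣ) (g : SpecialLinearGroup (Fin 2) F) :
    (dh c * g).1 = !![(c : F) * g.1 0 0, (c : F) * g.1 0 1; (c : F)⁻¹ * g.1 1 0, (c : F)⁻¹ * g.1 1 1] := by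
  show !![(c : F), 0; 0, (c : F)⁻¹] * g.1 = _
  ext i j; fin_cases i <;> fin_cases j <;> simp [Matrix.mul_apply]

theorem val_wn_mul (g : SpecialLinearGroup (Fin 2) F) :
    (wn * g).1 = !![g.1 1 0, g.1 1 1; -g.1 0 0, -g.1 0 1] := by
  show !![0, 1; -1, 0] * g.1 = _
  ext i j; fin_cases i <;> fin_cases j <;> simp [Matrix.mul_apply]

theorem Data.map_ux_mul (t : F) (g : SpecialLinearGroup (Fin 2) F) :
    S.map (ux t * g) = S.x t * S.map g := by
  by_cases hc : g.1 1 0 = 0
  · have hd : g.1 0 0 * g.1 1 1 = 1 := by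
      have := g.2; rw [Matrix.det_fin_two, hc] at this; simpa using this
    have ha : g.1 0 0 ≠ 0 := fun h => by simp [h] at hd
    have e := val_ux_mul t g
    rw [S.map_zero (g := g) hc (Units.mk0 _ ha) rfl,
      S.map_zero (g := ux t * g) (by simp [e, hc]) (Units.mk0 _ ha) (by simp [e, hc]), ← mul_assoc,
      show S.x t = S.x (((Units.mk0 _ ha : Fˣ) : F) ^ 2 * (t / g.1 0 0 ^ 2)) by
        rw [Units.val_mk0]; congr 1; field_simp, ← S.h_x, mul_assoc (S.h _) (S.x _) (S.x _), S.x_add]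
    congr 2
    have h11 : g.1 1 1 = (g.1 0 0)⁻¹ := eq_inv_of_mul_eq_one_right hd
    simp [e, hc, h11]
    field_simp
    ring
  · have e := val_ux_mul t g
    rw [S.map_ne (g := g) (Units.mk0 _ hc) rfl, S.map_ne (g := ux t * g) (Units.mk0 _ hc) (by simp [e]),
      ← mul_assoc, ← mul_assoc, ← mul_assoc, S.x_add]
    have h1 : (ux t * g).1 0 0 / g.1 1 0 = t + g.1 0 0 / g.1 1 0 := by
      rw [e]; simp; field_simp; ring
    rw [Units.val_mk0, h1, show (ux t * g).1 1 1 = g.1 1 1 by simp [e]]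

theorem Data.map_dh_mul (c : Fˣ) (g : SpecialLinearGroup (Fin 2) F) :
    S.map (dh c * g) = S.h c * S.map g := by
  have e := val_dh_mul c g
  by_cases hc : g.1 1 0 = 0
  · have hd : g.1 0 0 * g.1 1 1 = 1 := by
      have := g.2; rw [Matrix.det_fin_two, hc] at this; simpa using this
    have ha : g.1 0 0 ≠ 0 := fun h => by simp [h] at hd
    rw [S.map_zero (g := g) hc (Units.mk0 _ ha) rfl,
      S.map_zero (g := dh c * g) (by simp [e, hc]) (c * Units.mk0 _ ha) (by simp [e]), ← mul_assoc,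
      S.h_mul]
    congr 2
    simp [e]
    field_simp
  · rw [S.map_ne (g := g) (Units.mk0 _ hc) rfl,
      S.map_ne (g := dh c * g) (c⁻¹ * Units.mk0 _ hc) (by simp [e]), ← mul_assoc, ← mul_assoc,
      ← mul_assoc, S.h_x, mul_assoc (S.x _) (S.h c), S.h_mul]
    have h1 : (dh c * g).1 0 0 / ((c⁻¹ * Units.mk0 _ hc : Fˣ) : F) =
        (c : F) ^ 2 * (g.1 0 0 / ((Units.mk0 _ hc : Fˣ) : F)) := by
      simp [e]; field_simp
    have h2 : (dh c * g).1 1 1 / ((c⁻¹ * Units.mk0 _ hc : Fˣ) : F) =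
        g.1 1 1 / ((Units.mk0 _ hc : Fˣ) : F) := by
      simp [e]; field_simp
    have h3 : c * -(Units.mk0 _ hc)⁻¹ = -(c⁻¹ * Units.mk0 _ hc)⁻¹ := by
      rw [mul_inv, inv_inv, mul_neg]
    rw [h1, h2, h3]

theorem Data.map_wn_mul (g : SpecialLinearGroup (Fin 2) F) :
    S.map (wn * g) = S.n * S.map g := by
  have e := val_wn_mul g
  have hdet : g.1 0 0 * g.1 1 1 - g.1 0 1 * g.1 1 0 = 1 := by
    have := g.2; rwa [Matrix.det_fin_two] at this
  by_cases hc : g.1 1 0 = 0
  · have ha : g.1 0 0 ≠ 0 := fun h => by simp [h, hc] at hdet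
    rw [S.map_zero (g := g) hc (Units.mk0 _ ha) rfl,
      S.map_ne (g := wn * g) (-Units.mk0 _ ha) (by simp [e]), ← mul_assoc, S.n_h]
    have h1 : (wn * g).1 0 0 / ((-Units.mk0 _ ha : Fˣ) : F) = 0 := by simp [e, hc]
    have h2 : (wn * g).1 1 1 / ((-Units.mk0 _ ha : Fˣ) : F) = g.1 0 1 / g.1 0 0 := by simp [e]
    rw [h1, h2, S.x_zero, one_mul, inv_neg, neg_neg]
  · by_cases ha : g.1 0 0 = 0
    · rw [S.map_ne (g := g) (Units.mk0 _ hc) rfl,
        S.map_zero (g := wn * g) (by simp [e, ha]) (Units.mk0 _ hc) (by simp [e]),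
        show g.1 0 0 / ((Units.mk0 _ hc : Fˣ) : F) = 0 by simp [ha], S.x_zero, one_mul,
        ← mul_assoc, ← mul_assoc, S.n_h, mul_assoc (S.h _) S.n S.n, S.n_n, S.h_mul]
      congr 2
      · rw [mul_neg, mul_one, inv_neg, inv_inv, neg_neg]
      · simp [e]
    · rw [S.map_ne (g := g) (Units.mk0 _ hc) rfl,
        S.map_ne (g := wn * g) (-Units.mk0 _ ha) (by simp [e])]
      set a := Units.mk0 _ ha
      set c := Units.mk0 _ hc
      have hcomm : S.h (-c⁻¹) * S.n = S.n * S.h (-c) := by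
        rw [S.n_h]; simp
      calc S.x ((wn * g).1 0 0 / ((-a : Fˣ) : F)) * S.h (-(-a)⁻¹) * S.n *
            S.x ((wn * g).1 1 1 / ((-a : Fˣ) : F))
          = S.x (-((a / c : Fˣ) : F)⁻¹) * S.h (-(a / c)⁻¹) * (S.n * S.h (-c)) *
              S.x (((-c : Fˣ) : F)⁻¹ ^ 2 * -((a / c : Fˣ) : F)⁻¹ + g.1 1 1 / c) := by
            rw [S.n_h, ← mul_assoc, mul_assoc (S.x _) (S.h _) (S.h _), S.h_mul]
            congr 2
            · congr 2
              · simp [e, a, c]; field_simp
              · congr 1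
                apply Units.ext
                simp [a, c]
                field_simp
            · simp [e, a, c]
              field_simp
              linear_combination -hdet
        _ = S.n * S.x ((a / c : Fˣ) : F) * S.n * S.h (-c) * S.x (g.1 1 1 / c) := by
            rw [S.n_x_n, ← S.x_add, ← mul_assoc]
            congr 1
            simp only [mul_assoc]
            congr 3
            rw [S.h_x]
            simp [a, c]
            congr 1
            field_simp
        _ = S.n * (S.x (g.1 0 0 / c) * S.h (-c⁻¹) * S.n * S.x (g.1 1 1 / c)) := by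
            rw [show g.1 0 0 / (c : F) = ((a / c : Fˣ) : F) by simp [a, c],
              mul_assoc _ S.n (S.h (-c)), ← hcomm]
            simp only [mul_assoc]

theorem exists_normal_form (g : SpecialLinearGroup (Fin 2) F) :
    g ∈ Submonoid.closure (Set.range ux ∪ Set.range dh ∪ {wn}) := by
  have hx : ∀ t : F, ux t ∈ Submonoid.closure (Set.range ux ∪ Set.range dh ∪ {wn (F := F)}) :=
    fun t => Submonoid.subset_closure (.inl (.inl ⟨t, rfl⟩))
  have hh : ∀ c : Fˣ, dh c ∈ Submonoid.closure (Set.range ux ∪ Set.range dh ∪ {wn (F := F)}) :=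
    fun c => Submonoid.subset_closure (.inl (.inr ⟨c, rfl⟩))
  have hn : (wn : SpecialLinearGroup (Fin 2) F) ∈
      Submonoid.closure (Set.range ux ∪ Set.range dh ∪ {wn (F := F)}) :=
    Submonoid.subset_closure (.inr rfl)
  have hdet : g.1 0 0 * g.1 1 1 - g.1 0 1 * g.1 1 0 = 1 := by
    have := g.2; rwa [Matrix.det_fin_two] at this
  by_cases hc : g.1 1 0 = 0
  · have ha : g.1 0 0 ≠ 0 := fun h => by simp [h, hc] at hdet
    have : g = dh (Units.mk0 _ ha) * ux (g.1 0 1 / g.1 0 0) := by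
      apply Subtype.ext
      rw [val_dh_mul]
      have h11 : g.1 1 1 = (g.1 0 0)⁻¹ := by
        rw [hc, mul_zero, sub_zero] at hdet; exact eq_inv_of_mul_eq_one_right hdet
      ext i j; fin_cases i <;> fin_cases j <;> simp [ux, hc, h11, mul_div_cancel₀ _ ha]
    rw [this]; exact mul_mem (hh _) (hx _)
  · have : g = ux (g.1 0 0 / g.1 1 0) * (dh (-(Units.mk0 _ hc)⁻¹) * (wn * ux (g.1 1 1 / g.1 1 0))) := by
      apply Subtype.ext
      rw [val_ux_mul, val_dh_mul, val_wn_mul]
      ext i j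
      fin_cases i <;> fin_cases j <;> simp [ux] <;> field_simp
      linear_combination -hdet
    rw [this]; exact mul_mem (hx _) (mul_mem (hh _) (mul_mem hn (hx _)))

theorem Data.map_one : S.map 1 = 1 := by
  rw [S.map_zero (g := 1) (by simp) 1 (by simp)]
  simp [S.h_one, S.x_zero]

/-- The homomorphism. -/
noncomputable def Data.hom : SpecialLinearGroup (Fin 2) F →* G where
  toFun := S.map
  map_one' := S.map_one
  map_mul' g g' := by
    have h1 : ∀ t, S.map (ux t) = S.x t := fun t => by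
      have := S.map_ux_mul t 1; rwa [mul_one, S.map_one, mul_one] at this
    have h2 : ∀ c, S.map (dh c) = S.h c := fun c => by
      have := S.map_dh_mul c 1; rwa [mul_one, S.map_one, mul_one] at this
    have h3 : S.map wn = S.n := by
      have := S.map_wn_mul 1; rwa [mul_one, S.map_one, mul_one] at this
    have key : ∀ g', S.map (g * g') = S.map g * S.map g' := by
      have hg := exists_normal_form g
      induction hg using Submonoid.closure_induction with
      | mem x hx =>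
        intro g'
        rcases hx with (⟨t, rfl⟩ | ⟨c, rfl⟩) | hx
        · rw [S.map_ux_mul, h1]
        · rw [S.map_dh_mul, h2]
        · rw [Set.mem_singleton_iff.mp hx, S.map_wn_mul, h3]
      | one => intro g'; rw [one_mul, S.map_one, one_mul]
      | mul x y _ _ ihx ihy => intro g'; rw [mul_assoc, ihx, ihy, ihx, mul_assoc]
    exact key g'

theorem Data.hom_upper (g : SpecialLinearGroup (Fin 2) F) (t : F) (h : g.1 = !![1, t; 0, 1]) :
    S.hom g = S.x t := by
  show S.map g = _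
  rw [S.map_zero (g := g) (by simp [h]) 1 (by simp [h])]
  simp [h, S.h_one]

theorem Data.hom_lower (g : SpecialLinearGroup (Fin 2) F) (t : F) (h : g.1 = !![1, 0; t, 1]) :
    S.hom g = S.y t := by
  have he : g = wn * ux (-t) * (wn * dh (-1)) := by
    apply Subtype.ext
    rw [mul_assoc, val_wn_mul, val_ux_mul, val_wn_mul, h]
    ext i j; fin_cases i <;> fin_cases j <;> simp [dh, inv_neg]
  have h1 : S.hom (ux (-t)) = S.x (-t) := S.hom_upper _ _ rfl
  have h2 : S.hom wn = S.n := by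
    show S.map wn = _
    have := S.map_wn_mul 1; rwa [mul_one, S.map_one, mul_one] at this
  have h3 : S.hom (dh (-1)) = S.h (-1) := by
    show S.map _ = _
    have := S.map_dh_mul (-1) 1; rwa [mul_one, S.map_one, mul_one] at this
  rw [he, map_mul, map_mul, map_mul, h1, h2, h3, S.y_eq, S.n_inv]

end CfsgLib.Chevalley.SL2
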