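import Cfsg.Agent.Lib.Chevalley.Words
import Cfsg.Agent.Lib.Chevalley.SL2

/-!
Basic facts in the form of the statements: injectivity, `SL₂`, field automorphisms.
-/

set_option autoImplicit false

namespace CfsgLib.Chevalley.Tbl

open Matrix

variable {T : Tbl} {F : Type*} [Field F] (hT : T.Valid)
include hT

theorem X_eq_one_iff {r : ℕ} (hr : r < T.n) (t : F) :
    (X F r t : Matrix T.I T.I F) = 1 ↔ t = 0 := by
  refine ⟨fun h => ?_, fun h => by rw [h, X_zero]⟩
  obtain ⟨i, hi, j, hj, hij⟩ := cv_coprime hT hr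
  have key : ∀ k < T.rank, (T.cv r k : F) * t = 0 := by
    intro k hk
    have hx := congrFun (congrFun h (Sum.inl ⟨k, hk⟩)) (Sum.inr ⟨T.neg r, neg_lt' hr⟩)
    rw [← x_eq hT F hr, Cfsg.Lie.ChevalleyDatum.x, dif_pos hr, Matrix.one_apply_ne (by simp)] at hx
    have e1 : ¬ (T.neg r = r) := neg_ne hr
    have e2 := datum_negIdx_getD (T := T) hr
    simp only [Cfsg.Lie.ChevalleyDatum.xMat, Matrix.of_apply, Fin.ext_iff, e1, if_false, e2, if_true,
      datum_coroot hr hk] at hx
    exact hx
  have hbez := Int.gcd_eq_gcd_ab (T.cv r i) (T.cv r j)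
  rw [hij] at hbez
  have : ((1 : ℕ) : F) * t = 0 := by
    have e := congrArg (fun z : ℤ => (z : F) * t) hbez
    simp only [Int.cast_natCast, Int.cast_add, Int.cast_mul] at e
    rw [e, add_mul, mul_right_comm, key i hi, mul_right_comm, key j hj]
    simp
  simpa using this

theorem xU_inj {r : ℕ} (hr : r < T.n) {s t : F} (h : T.xU F r s = T.xU F r t) : s = t := by
  have h1 : T.xU F r (s + -t) = 1 := by rw [← xU_add hT hr, h, xU_add hT hr, add_neg_cancel, xU_zero hT hr]
  have h2 := congrArg (fun g : GL T.I F => (g : Matrix T.I T.I F)) h1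
  simp only [xU_val hT hr, Units.val_one, X_eq_one_iff hT hr] at h2
  linear_combination h2

/-- The relations of `SL₂` for a root. -/
noncomputable def sl2Data {r : ℕ} (hr : r < T.n) : SL2.Data F (GL T.I F) where
  x := T.xU F r
  y := T.xU F (T.neg r)
  h c := T.dU (T.hCh r c)
  n := T.nU F r 1
  x_add := xU_add hT hr
  h_mul a b := by rw [dU_mul, hCh_mul]
  h_x c t := by rw [dU_hCh_xU hT hr c hr, pair_self hT hr, Units.val_zpow_eq_zpow_val, zpow_two, ← sq]
  n_h := nU_dU_hCh hT hr
  n_n := nU_sq hT hr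
  n_x := nU_conj hT hr
  n_t u := nU_t hT hr u

theorem exists_sl2 {r : ℕ} (hr : r < T.n) :
    ∃ φ : Matrix.SpecialLinearGroup (Fin 2) F →* GL T.datum.Idx F,
      φ.range = T.datum.rootSubgroup F r ⊔ T.datum.rootSubgroup F (T.datum.neg r) ∧
      ∀ (g : Matrix.SpecialLinearGroup (Fin 2) F) (t : F),
        ((g : Matrix (Fin 2) (Fin 2) F) = !![1, t; 0, 1] →
          ((φ g : GL T.datum.Idx F) : Matrix T.datum.Idx T.datum.Idx F) = T.datum.x F r t) ∧
        ((g : Matrix (Fin 2) (Fin 2) F) = !![1, 0; t, 1] →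
          ((φ g : GL T.datum.Idx F) : Matrix T.datum.Idx T.datum.Idx F) =
            T.datum.x F (T.datum.neg r) t) := by
  have hn := neg_lt' hr
  let S := sl2Data (F := F) hT hr
  refine ⟨S.hom, ?_, fun g t => ⟨fun h => ?_, fun h => ?_⟩⟩
  · rw [datum_neg hr, rootSubgroup_eq hT hr, rootSubgroup_eq hT hn, ← Subgroup.closure_union]
    refine le_antisymm ?_ ((Subgroup.closure_le _).mpr ?_)
    · have hx : ∀ t, T.xU F r t ∈ Subgroup.closure
          ((Set.range fun t : F => T.xU F r t) ∪ Set.range fun t : F => T.xU F (T.neg r) t) :=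
        fun t => Subgroup.subset_closure (.inl ⟨t, rfl⟩)
      have hy : ∀ t, T.xU F (T.neg r) t ∈ Subgroup.closure
          ((Set.range fun t : F => T.xU F r t) ∪ Set.range fun t : F => T.xU F (T.neg r) t) :=
        fun t => Subgroup.subset_closure (.inr ⟨t, rfl⟩)
      have hnt : ∀ t : F, T.nU F r t ∈ Subgroup.closure
          ((Set.range fun t : F => T.xU F r t) ∪ Set.range fun t : F => T.xU F (T.neg r) t) :=
        fun t => mul_mem (mul_mem (hx _) (hy _)) (hx _)
      rintro _ ⟨g, rfl⟩
      have key : ∀ g, S.hom g ∈ Subgroup.closure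
          ((Set.range fun t : F => T.xU F r t) ∪ Set.range fun t : F => T.xU F (T.neg r) t) := by
        intro g
        have hh : ∀ c : Fˣ, T.dU (T.hCh r c) ∈ Subgroup.closure
            ((Set.range fun t : F => T.xU F r t) ∪ Set.range fun t : F => T.xU F (T.neg r) t) :=
          fun c => by rw [← hU_eq hT hr c]; exact mul_mem (hnt _) (hnt _)
        show S.map g ∈ _
        by_cases hc : g.1 1 0 = 0
        · rw [SL2.Data.map, dif_pos hc]; exact mul_mem (hh _) (hx _)
        · rw [SL2.Data.map, dif_neg hc]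
          exact mul_mem (mul_mem (mul_mem (hx _) (hh _)) (hnt 1)) (hx _)
      exact key g
    · rintro x (⟨t, rfl⟩ | ⟨t, rfl⟩)
      · exact ⟨⟨!![1, t; 0, 1], by simp [Matrix.det_fin_two]⟩, S.hom_upper _ t rfl⟩
      · exact ⟨⟨!![1, 0; t, 1], by simp [Matrix.det_fin_two]⟩, S.hom_lower _ t rfl⟩
  · rw [x_eq_val hT hr]; exact congrArg _ (S.hom_upper g t h)
  · rw [datum_neg hr, x_eq_val hT hn]; exact congrArg _ (S.hom_lower g t h)

theorem diag_word (g : GL T.datum.Idx F) (hg : g ∈ T.datum.diagonalSubgroup F) :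
    ∃ c : ℕ → F, (∀ i < T.datum.rank, c i ≠ 0) ∧
      (g : Matrix T.datum.Idx T.datum.Idx F) = T.datum.wordMat F
        ((List.range T.datum.rank).flatMap fun i => T.datum.hWord (T.datum.simple i) (c i)) := by
  classical
  obtain ⟨f, rfl⟩ := (mem_diag_iff hT).mp hg
  let c : ℕ → Fˣ := fun i => if h : i < T.rank then f ⟨i, h⟩ else 1
  refine ⟨fun i => (c i : F), fun i _ => (c i).ne_zero, ?_⟩
  have key : ∀ m, m ≤ T.rank → T.datum.wordMat F
      ((List.range m).flatMap fun i => T.datum.hWord (T.datum.simple i) (c i : F)) =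
      (((T.dU fun s => ∏ i ∈ Finset.range m, c i ^ T.ca i s : GL T.I F)) : Matrix T.I T.I F) := by
    intro m hm
    induction m with
    | zero =>
      rw [show (T.dU fun s => ∏ i ∈ Finset.range 0, c i ^ T.ca i s : GL T.I F) = 1 by
        rw [← dU_one]; exact dU_congr fun s _ => by simp]
      simp [Cfsg.Lie.ChevalleyDatum.wordMat]
    | succ m ih =>
      have hm' : m < T.rank := by omega
      have hp := simple_lt hT hm'
      have h1 : T.datum.wordMat F (T.datum.hWord (T.datum.simple m) (c m : F)) =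
          ((T.dU (T.hCh (T.simple m) (c m)) : GL T.I F) : Matrix T.I T.I F) := by
        rw [datum_simple hm', ← hU_eq hT hp]; exact hMat_eq hT hp _
      simp only [Cfsg.Lie.ChevalleyDatum.wordMat] at ih h1 ⊢
      rw [List.range_succ, List.flatMap_append, List.map_append, List.prod_append, ih (by omega),
        List.flatMap_singleton, h1, ← Units.val_mul, dU_mul]
      refine congrArg _ (dU_congr fun s _ => ?_)
      simp [Finset.prod_range_succ, hCh, pair_simple hT hm']
  refine Eq.trans ?_ (key T.rank le_rfl).symm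
  refine congrArg _ (dU_congr fun s _ => ?_)
  rw [← Fin.prod_univ_eq_prod_range (fun i => c i ^ T.ca i s) T.rank]
  exact Finset.prod_congr rfl fun i _ => by simp [c]

theorem nMat_hMat_simple {i j : ℕ} (hi : i < T.rank) (hj : j < T.rank) {t : F} (ht : t ≠ 0) :
    T.datum.nMat F (T.datum.simple i) 1 * T.datum.hMat F (T.datum.simple j) t =
      T.datum.hMat F (T.datum.reflectRoot i (T.datum.simple j)) t *
        T.datum.nMat F (T.datum.simple i) 1 := by
  have hp := simple_lt hT hi
  have hq := simple_lt hT hj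
  have hr' := refl_lt hT hi hq
  rw [datum_simple hi, datum_simple hj, reflectRoot_eq hT hi hq, nMat_eq hT hp, hMat_eq hT hq,
    hMat_eq hT hr', ← Units.val_mul, ← Units.val_mul]
  refine congrArg _ ?_
  rw [show t = ((Units.mk0 t ht : Fˣ) : F) from rfl, hU_eq hT hq, hU_eq hT hr', nU_simple_dU hT hi]
  congr 1
  exact dU_congr fun v hv => by simp only [hCh]; rw [pair_refl hT hi hq hv]

theorem nMat_simple_monomial {i : ℕ} (hi : i < T.rank) :
    ∃ η : ℕ → ℤ, (∀ s < T.datum.nroots, η s = 1 ∨ η s = -1) ∧ η (T.datum.simple i) = -1 ∧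
      η (T.datum.neg (T.datum.simple i)) = -1 ∧
      (∀ s < T.datum.nroots, η s * η (T.datum.reflectRoot i s) = (-1) ^ (T.datum.cartan i s).natAbs ∧
        η s * η (T.datum.neg s) = 1) ∧
      T.datum.nMat F (T.datum.simple i) 1 = Matrix.of (fun (row col : T.datum.Idx) =>
        Sum.elim
          (fun j' : Fin T.datum.rank => Sum.elim
            (fun j : Fin T.datum.rank => (if j' = j then (1 : F) else 0) -
              (if (j' : ℕ) = i then ((T.datum.cartan j (T.datum.simple i) : ℤ) : F) else 0))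
            (fun _ => (0 : F)) col)
          (fun s' : Fin T.datum.nroots => Sum.elim
            (fun _ => (0 : F))
            (fun s : Fin T.datum.nroots =>
              if (s' : ℕ) = T.datum.reflectRoot i s then ((η s : ℤ) : F) else 0) col)
          row) := by
  have hp := simple_lt hT hi
  refine ⟨T.eta i, fun s hs => eta_sq hT hi hs, ?_, ?_, fun s hs => ?_, ?_⟩
  · rw [datum_simple hi]; exact eta_simple hT hi
  · rw [datum_simple hi, datum_neg hp]
    have h := eta_neg hT hi hp
    rw [eta_simple hT hi] at h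
    linarith
  · rw [reflectRoot_eq hT hi hs, datum_cartan hi hs, datum_neg hs]
    exact ⟨eta_refl hT hi hs, eta_neg hT hi hs⟩
  · rw [datum_simple hi, nMat_eq hT hp]
    ext row col
    rcases col with j | s
    · rw [nU_simple_inl hT hi row j]
      rcases row with k | v
      · simp [datum_cartan j.2 hp, Fin.ext_iff]
      · simp
    · rw [nU_simple_inr hT hi row s]
      rcases row with k | v
      · simp
      · simp [wI, Fin.ext_iff, reflectRoot_eq hT hi s.2]

theorem exists_fieldAut (f : F ≃+* F) :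
    ∃ α : ↥(T.datum.group F) ≃* ↥(T.datum.group F), ∀ (g : ↥(T.datum.group F)) (r : ℕ) (t : F),
      r < T.datum.nroots → ((g : GL T.datum.Idx F) : Matrix T.datum.Idx T.datum.Idx F) = T.datum.x F r t →
      ((α g : GL T.datum.Idx F) : Matrix T.datum.Idx T.datum.Idx F) = T.datum.x F r (f t) := by
  let φ : GL T.I F ≃* GL T.I F := Units.mapEquiv f.mapMatrix.toMulEquiv
  have hx : ∀ r < T.n, ∀ t, φ (T.xU F r t) = T.xU F r (f t) := by
    intro r hr t
    apply Units.ext
    show f.mapMatrix ((T.xU F r t : GL T.I F) : Matrix T.I T.I F) = _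
    rw [xU_val hT hr, xU_val hT hr]
    exact map_X F f.toRingHom r t
  have hmap : (T.datum.group F).map φ.toMonoidHom = T.datum.group F := by
    rw [group_eq hT, MonoidHom.map_closure]
    congr 1
    ext g
    constructor
    · rintro ⟨_, ⟨r, hr, t, rfl⟩, rfl⟩; exact ⟨r, hr, f t, hx r hr t⟩
    · rintro ⟨r, hr, t, rfl⟩
      exact ⟨_, ⟨r, hr, f.symm t, rfl⟩, (hx r hr _).trans (by rw [RingEquiv.apply_symm_apply])⟩
  refine ⟨(φ.subgroupMap _).trans (MulEquiv.subgroupCongr hmap), fun g r t hr h => ?_⟩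
  rw [eq_x_iff hT hr] at h
  rw [x_eq_val hT hr]
  show ((φ (g : GL T.I F) : GL T.I F) : Matrix T.I T.I F) = _
  rw [h, hx r hr]

end CfsgLib.Chevalley.Tbl
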