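import Cfsg.Agent.Lib.Chevalley.Auto

/-!
The Chevalley datum of a table has the root elements `X r t`.
-/

set_option autoImplicit false

namespace CfsgLib.Chevalley.Tbl

open Matrix

variable {T : Tbl}

theorem getD_map_range {α : Type*} (f : ℕ → α) (n i : ℕ) (d : α) :
    (((List.range n).map f).toArray).getD i d = if i < n then f i else d := by
  rw [Array.getD]
  by_cases h : i < n <;> simp [h]

theorem datum_negIdx_getD {r : ℕ} (hr : r < T.n) : T.datum.negIdx.getD r 0 = T.neg r := by
  simp only [datum]; rw [getD_map_range, if_pos hr]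

theorem datum_neg {r : ℕ} (hr : r < T.n) : T.datum.neg r = T.neg r := datum_negIdx_getD hr

theorem datum_simple {i : ℕ} (hi : i < T.rank) : T.datum.simple i = T.simple i := by
  show T.datum.simpleIdx.getD i 0 = _
  simp only [datum]; rw [getD_map_range, if_pos hi]

theorem datum_coroot {r : ℕ} (hr : r < T.n) {i : ℕ} (hi : i < T.rank) :
    (T.datum.coroot.getD r #[]).getD i 0 = T.cv r i := by
  simp only [datum]; rw [getD_map_range, if_pos hr, getD_map_range, if_pos hi]

theorem datum_cartanSR {i r : ℕ} (hi : i < T.rank) (hr : r < T.n) :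
    (T.datum.cartanSR.getD i #[]).getD r 0 = T.ca i r := by
  simp only [datum]; rw [getD_map_range, if_pos hi, getD_map_range, if_pos hr]

theorem datum_cartan {i r : ℕ} (hi : i < T.rank) (hr : r < T.n) : T.datum.cartan i r = T.ca i r :=
  datum_cartanSR hi hr

theorem datum_chain {r : ℕ} (hr : r < T.n) : T.datum.chain.getD r #[] = (T.chainRowL r).toArray := by
  simp only [datum]; rw [getD_map_range, if_pos hr]

theorem sum?_none_iff {r s : ℕ} : T.sum? r s = none ↔ T.code r s = 0 := by
  rw [sum?_eq]; split <;> simp_all

theorem chainList_eq_nil {r s : ℕ} (h : T.sum? r s = none) : T.chainList r s = [] := by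
  have h1 : T.chain r s 1 = none := by rw [chain_one, h]
  simp [chainList, h1, chain_none_mono h1, chain_none_mono (chain_none_mono h1)]

theorem filter_range_eq (n s : ℕ) :
    (List.range n).filter (fun x => decide (x = s)) = if s < n then [s] else [] := by
  rw [List.filter_eq, List.count_range]
  split <;> simp [*]

theorem chainRowL_filter {r s : ℕ} (hs : s < T.n) :
    (T.chainRowL r).filter (fun e => decide (e.1 = s)) =
      if T.sum? r s = none then [] else [(s, (T.chainList r s).toArray)] := by
  have key : ∀ x, Option.filter (fun e : ℕ × Array (ℕ × ℤ) => decide (e.1 = s))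
      (bif Nat.beq (T.code r x) 0 then none else some (x, (T.chainList r x).toArray)) =
      if decide (x = s) then
        (bif Nat.beq (T.code r x) 0 then none else some (x, (T.chainList r x).toArray)) else none := by
    intro x
    cases Nat.beq (T.code r x) 0
    · by_cases hx : x = s <;> simp [Option.filter, hx]
    · simp
  rw [chainRowL, List.filter_filterMap]
  simp only [key]
  rw [← List.filterMap_filter, filter_range_eq, if_pos hs]
  by_cases h : T.code r s = 0
  · simp [h, sum?_none_iff.mpr h]
  · have : Nat.beq (T.code r s) 0 = false := by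
      rw [Bool.eq_false_iff]; exact fun e => h (Nat.eq_of_beq_eq_true e)
    simp [this, h, sum?_none_iff]

theorem chainCoeff_eq (hT : T.Valid) {r : ℕ} (hr : r < T.n) {s : ℕ} (hs : s < T.n) (u : ℕ) :
    T.datum.chainCoeff r s u =
      (((T.chainList r s).zipIdx).filter fun q => q.1.1 = u).map fun q => (q.2 + 1, q.1.2) := by
  unfold Cfsg.Lie.ChevalleyDatum.chainCoeff
  rw [datum_chain hr, List.toList_toArray, chainRowL_filter hs]
  split
  · rename_i h; rw [chainList_eq_nil h]; rfl
  · simp

theorem chainCoeff_sum (hT : T.Valid) {R : Type*} [CommRing R] (t : R) {r : ℕ} (hr : r < T.n)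
    (s u : Fin T.n) :
    ((T.datum.chainCoeff r s.val u.val).map fun km => ((km.2 : ℤ) : R) * t ^ km.1).sum =
      ∑ k ∈ Finset.Ico 1 4, t ^ k * ((T.optVec (T.chain r s.val k) (Sum.inr u) : ℤ) : R) := by
  rw [chainCoeff_eq hT hr s.2, Finset.sum_Ico_eq_sum_range, Finset.sum_range_succ,
    Finset.sum_range_succ, Finset.sum_range_succ, Finset.sum_range_zero]
  rcases h1 : T.chain r s.val 1 with _ | ⟨u1, m1⟩
  · simp [chainList, h1, chain_none_mono h1, chain_none_mono (chain_none_mono h1), optVec]
  rcases h2 : T.chain r s.val 2 with _ | ⟨u2, m2⟩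
  · simp [chainList, h1, h2, chain_none_mono h2, optVec, rootVec]
    by_cases hu : u.val = u1
    · simp [hu, mul_comm]
    · simp [hu, Ne.symm hu]
  rcases h3 : T.chain r s.val 3 with _ | ⟨u3, m3⟩
  · simp [chainList, h1, h2, h3, optVec, rootVec, List.zipIdx, List.filter]
    by_cases hu : u1 = u.val <;> by_cases hu' : u2 = u.val <;>
      simp [hu, hu', eq_comm (a := u.val)] <;> ring
  · simp [chainList, h1, h2, h3, optVec, rootVec, List.zipIdx, List.filter]
    by_cases hu : u1 = u.val <;> by_cases hu' : u2 = u.val <;> by_cases hu'' : u3 = u.val <;>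
      simp [hu, hu', hu'', eq_comm (a := u.val)] <;> ring

theorem X_apply {R : Type*} [CommRing R] (r : ℕ) (t : R) (row col : T.I) :
    X R r t row col = (if row = col then 1 else 0) +
      ∑ k ∈ Finset.Ico 1 4, t ^ k * ((T.colA r k col row : ℤ) : R) := by
  rw [X, Finset.range_eq_Ico, Finset.sum_eq_sum_Ico_succ_bot (by norm_num), Matrix.add_apply,
    Matrix.sum_apply, pow_zero, one_smul, A_zero, map_one, Matrix.one_apply]
  rfl



theorem xMat_eq (hT : T.Valid) (F : Type*) [Field F] (r : Fin T.n) (t : F) :
    T.datum.xMat F r t = (X F r.val t : Matrix T.I T.I F) := by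
  ext row col
  refine Eq.trans ?_ (X_apply r.val t row col).symm
  have hneg : T.datum.negIdx.getD r.val 0 = T.neg r.val := datum_negIdx_getD r.2
  rcases col with i | s
  · simp only [Cfsg.Lie.ChevalleyDatum.xMat, Matrix.of_apply]
    rw [Finset.sum_Ico_eq_sum_range]
    simp only [Finset.sum_range_succ, Finset.sum_range_zero, colA]
    rcases row with i' | u
    · by_cases h : i' = i <;> simp [h, rootVec]
    · rw [datum_cartanSR i.2 r.2]
      by_cases h : u.val = r.val
      · simp [Fin.ext h, rootVec, mul_comm]
      · have : u ≠ r := fun e => h (by rw [e])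
        simp [this, rootVec, h]
  · simp only [Cfsg.Lie.ChevalleyDatum.xMat, Matrix.of_apply]
    by_cases h1 : s = r
    · subst h1
      rw [Finset.sum_Ico_eq_sum_range]
      simp only [Finset.sum_range_succ, Finset.sum_range_zero, colA, if_true]
      rcases row with i' | u
      · simp
      · by_cases h : u = s <;> simp [h]
    have h1' : s.val ≠ r.val := fun e => h1 (Fin.ext e)
    rw [if_neg h1]
    by_cases h2 : s.val = T.neg r.val
    · rw [if_pos (by rw [hneg]; exact h2), Finset.sum_Ico_eq_sum_range]
      simp only [Finset.sum_range_succ, Finset.sum_range_zero, colA, if_neg h1', if_pos h2]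
      rcases row with i' | u
      · simp only [getD_map_range, if_pos r.2, if_pos i'.2]; simp [coVec, rootVec, mul_comm]
      · by_cases h : u = s
        · subst h; simp [coVec, rootVec, h1']
        · by_cases h' : u = r
          · subst h'; simp [h, coVec, rootVec]
          · have : u.val ≠ r.val := fun e => h' (Fin.ext e)
            simp [h, h', coVec, rootVec, this]
    · rw [if_neg (by rw [hneg]; exact h2)]
      rcases row with i' | u
      · rw [Finset.sum_eq_zero]
        · simp
        · intro k hk
          obtain ⟨hk1, -⟩ := Finset.mem_Ico.mp hk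
          obtain ⟨j, rfl⟩ : ∃ j, k = j + 1 := ⟨k - 1, by omega⟩
          simp only [colA, if_neg h1', if_neg h2]
          cases T.chain r.val s.val (j + 1) <;> simp [optVec, rootVec]
      · refine congrArg₂ (· + ·) (by by_cases h : u = s <;> simp [h]) ?_
        rw [chainCoeff_sum hT t r.2 s u]
        refine Finset.sum_congr rfl fun k hk => ?_
        obtain ⟨hk1, -⟩ := Finset.mem_Ico.mp hk
        obtain ⟨j, rfl⟩ : ∃ j, k = j + 1 := ⟨k - 1, by omega⟩
        simp [colA, h1', h2]

theorem x_eq (hT : T.Valid) (F : Type*) [Field F] {r : ℕ} (hr : r < T.n) (t : F) :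
    T.datum.x F r t = (X F r t : Matrix T.I T.I F) := by
  unfold Cfsg.Lie.ChevalleyDatum.x
  rw [dif_pos (show r < T.datum.nroots from hr)]
  exact xMat_eq hT F ⟨r, hr⟩ t

end CfsgLib.Chevalley.Tbl
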