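import Cfsg.Agent.Lib.Chevalley.BN
import Cfsg.Agent.Lib.Chevalley.Length

/-!
Closed sets of positive roots, the Bruhat normal form and the order as a sum over the reflection group.
-/

set_option autoImplicit false

namespace CfsgLib.Chevalley.Tbl

/-- Closed under the terms of the commutator formula. -/
def Closed (T : Tbl) (P : ℕ → Prop) : Prop :=
  ∀ r < T.n, ∀ s < T.n, P r → P s → s ≠ r → s ≠ T.neg r → ∀ c ∈ T.commT r s, P c.1

/-- Positive roots made negative by `w`. -/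
def negSet (T : Tbl) (w : Equiv.Perm (Fin T.n)) (r : ℕ) : Prop :=
  ∃ h : r < T.n, T.half ≤ r ∧ (w ⟨r, h⟩).val < T.half

/-- Positive roots kept positive by `w`. -/
def posSet (T : Tbl) (w : Equiv.Perm (Fin T.n)) (r : ℕ) : Prop :=
  ∃ h : r < T.n, T.half ≤ r ∧ T.half ≤ (w ⟨r, h⟩).val

variable {T : Tbl} {F : Type*} [Field F]

theorem rootGen_inf_le (P : ℕ → Prop) (k : ℕ) :
    T.rootGen F (fun r => P r ∧ k + 1 ≤ r) ≤ T.rootGen F (fun r => P r ∧ k ≤ r) :=
  rootGen_mono fun _ _ h => ⟨h.1, Nat.le_of_succ_le h.2⟩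

variable (hT : T.Valid)
include hT

theorem commT_image {w : Equiv.Perm (Fin T.n)} (hw : w ∈ T.WP hT) {r s : Fin T.n}
    {c : ℕ × ℤ × ℕ × ℕ} (hc : c ∈ T.commT r.val s.val) {j : ℕ} (hj : j < T.rank) :
    T.co (w ⟨c.1, commT_lt hT r.2 s.2 c hc⟩).val j =
      c.2.2.1 * T.co (w r).val j + c.2.2.2 * T.co (w s).val j := by
  rw [WP_linear hT hw _ hj, WP_linear hT hw r hj, WP_linear hT hw s hj, Finset.mul_sum,
    Finset.mul_sum, ← Finset.sum_add_distrib]
  refine Finset.sum_congr rfl fun k _ => ?_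
  rw [(commT_co hT r.2 s.2 c hc).2.2 k k.2]
  ring

theorem closed_negSet {w : Equiv.Perm (Fin T.n)} (hw : w ∈ T.WP hT) : T.Closed (T.negSet w) := by
  intro r hr s hs ⟨_, hrp, hrw⟩ ⟨_, hsp, hsw⟩ _ _ c hc
  have hcn := commT_lt hT hr hs c hc
  refine ⟨hcn, le_of_lt (lt_of_le_of_lt hrp (commT_gt hT hr hs hrp hsp c hc).1), ?_⟩
  refine lt_half_of_co_nonpos hT (Fin.isLt _) fun j hj => ?_
  rw [commT_image hT hw (r := ⟨r, hr⟩) (s := ⟨s, hs⟩) hc hj]
  have h1 := co_nonpos' hT hrw hj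
  have h2 := co_nonpos' hT hsw hj
  exact add_nonpos (mul_nonpos_of_nonneg_of_nonpos (by positivity) h1)
    (mul_nonpos_of_nonneg_of_nonpos (by positivity) h2)

theorem closed_posSet {w : Equiv.Perm (Fin T.n)} (hw : w ∈ T.WP hT) : T.Closed (T.posSet w) := by
  intro r hr s hs ⟨_, hrp, hrw⟩ ⟨_, hsp, hsw⟩ _ _ c hc
  have hcn := commT_lt hT hr hs c hc
  refine ⟨hcn, le_of_lt (lt_of_le_of_lt hrp (commT_gt hT hr hs hrp hsp c hc).1), ?_⟩
  refine half_le_of_co_nonneg hT (Fin.isLt _) fun j hj => ?_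
  rw [commT_image hT hw (r := ⟨r, hr⟩) (s := ⟨s, hs⟩) hc hj]
  have h1 := co_nonneg' hT hrw hj
  have h2 := co_nonneg' hT hsw hj
  positivity

theorem conj_mem_rootGen {g : GL T.I F} {w : Equiv.Perm (Fin T.n)} (hm : T.Mono g w)
    {P Q : ℕ → Prop} (hPQ : ∀ s : Fin T.n, P s.val → Q (w s).val) {x : GL T.I F}
    (hx : x ∈ T.rootGen F P) : g * x * g⁻¹ ∈ T.rootGen F Q := by
  induction hx using Subgroup.closure_induction with
  | mem x hx =>
    obtain ⟨r, hr, hP, t, rfl⟩ := hx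
    obtain ⟨c, hc⟩ := hm.conj ⟨r, hr⟩
    rw [show g * T.xU F r t = _ from (hc t).1, mul_inv_cancel_right]
    exact xU_mem_rootGen (w _).2 (hPQ ⟨r, hr⟩ hP) _
  | one => simp
  | mul x y _ _ hx hy => simpa [mul_assoc] using mul_mem hx hy
  | inv x _ hx => simpa [mul_assoc] using inv_mem hx

theorem closure_negSet_eq {g : GL T.I F} {w : Equiv.Perm (Fin T.n)} (hm : T.Mono g w) :
    Subgroup.closure {x : GL T.datum.Idx F | ∃ (r : ℕ) (t : F), T.datum.IsPosRoot r ∧
      (T.datum.rootSubgroup F r).map (MulAut.conj g).toMonoidHom ≤ T.datum.negUnipotent F ∧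
        (x : Matrix T.datum.Idx T.datum.Idx F) = T.datum.x F r t} = T.rootGen F (T.negSet w) := by
  refine le_antisymm ((Subgroup.closure_le _).mpr ?_) (rootGen_le fun r hr ⟨_, hp, hn⟩ t => ?_)
  · rintro x ⟨r, t, h1, h2, h3⟩
    obtain ⟨hr, hp⟩ := (isPosRoot_iff hT).mp h1
    rw [(eq_x_iff hT hr t x).mp h3]
    refine xU_mem_rootGen (P := T.negSet w) hr ⟨hr, isPos_iff.mp hp, ?_⟩ t
    by_contra hge
    obtain ⟨c, hc⟩ := hm.conj ⟨r, hr⟩
    have hV : T.xU F (w ⟨r, hr⟩).val c ∈ T.datum.negUnipotent F := by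
      refine h2 ⟨T.xU F r 1, (mem_rootSubgroup_iff hT hr).mpr ⟨1, rfl⟩, ?_⟩
      show g * T.xU F r 1 * g⁻¹ = _
      rw [show g * T.xU F r 1 = _ from (hc 1).1, mul_inv_cancel_right, mul_one]
    have h0 : T.xU F (w ⟨r, hr⟩).val c ∈ (⊥ : Subgroup (GL T.I F)) :=
      borel_inf_neg (T := T) (F := F) hT ▸ ⟨pos_le_borel hT (w _).2 (not_lt.mp hge) _, hV⟩
    rw [Subgroup.mem_bot, ← xU_zero hT (w ⟨r, hr⟩).2] at h0
    exact c.ne_zero (xU_inj hT (w ⟨r, hr⟩).2 h0)
  · refine Subgroup.subset_closure ⟨r, t, (isPosRoot_iff hT).mpr ⟨hr, isPos_iff.mpr hp⟩, ?_,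
      (eq_x_iff hT hr t _).mpr rfl⟩
    rintro _ ⟨y, hy, rfl⟩
    obtain ⟨u, rfl⟩ := (mem_rootSubgroup_iff hT hr).mp hy
    obtain ⟨c, hc⟩ := hm.conj ⟨r, hr⟩
    show g * T.xU F r u * g⁻¹ ∈ _
    rw [show g * T.xU F r u = _ from (hc u).1, mul_inv_cancel_right, negUnipotent_rootGen hT]
    exact xU_mem_rootGen (P := fun r => r < T.half) (w _).2 hn _

variable (hC : T.chkComm = true)
include hC

theorem mem_closed_split {P : ℕ → Prop} (hP : T.Closed P) {k : ℕ} (hk : T.half ≤ k) (hkn : k < T.n)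
    (hPk : P k) {g : GL T.I F} (hg : g ∈ T.rootGen F (fun r => P r ∧ k ≤ r)) :
    ∃ t, ∃ g' ∈ T.rootGen F (fun r => P r ∧ k + 1 ≤ r), g = T.xU F k t * g' := by
  have hle : T.rootGen F (fun r => P r ∧ k ≤ r) ≤
      T.rootGen F (fun s => s = k) ⊔ T.rootGen F (fun r => P r ∧ k + 1 ≤ r) := by
    refine rootGen_le fun s hs ⟨h1, h2⟩ t => ?_
    rcases Nat.lt_or_ge k s with h | h
    · exact Subgroup.mem_sup_right (xU_mem_rootGen (P := fun r => P r ∧ k + 1 ≤ r) hs ⟨h1, h⟩ t)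
    · exact Subgroup.mem_sup_left (xU_mem_rootGen (P := fun s => s = k) hs (by omega) t)
  have hn : T.rootGen F (fun s => s = k) ≤
      Subgroup.normalizer (T.rootGen F (fun r => P r ∧ k + 1 ≤ r) : Set (GL T.I F)) := by
    refine rootGen_le fun s hs h t => ?_
    subst h
    refine xU_mem_normalizer hT hC hs (fun v hv ⟨hv1, hv2⟩ hne => ?_) t
    have hneg : v ≠ T.neg s := by unfold neg n at *; omega
    refine ⟨hneg, fun c hc => ⟨hP s hs v hv hPk hv1 hne hneg c hc, ?_⟩⟩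
    have := (commT_gt hT hs hv hk (by omega) c hc).2
    omega
  have := hle hg
  rw [← SetLike.mem_coe, Subgroup.coe_mul_of_left_le_normalizer_right _ _ hn] at this
  obtain ⟨x, hx, y, hy, rfl⟩ := this
  rw [SetLike.mem_coe, rootGen_eq_singleton hT hkn, mem_rootSubgroup_iff hT hkn] at hx
  obtain ⟨t, rfl⟩ := hx
  exact ⟨t, y, hy, rfl⟩

theorem card_closed [Fintype F] {P : ℕ → Prop} [DecidablePred P] (hP : T.Closed P) :
    ∀ m k, k + m = T.n → T.half ≤ k →
      Nat.card (T.rootGen F (fun r => P r ∧ k ≤ r)) =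
        Fintype.card F ^ ((Finset.Ico k T.n).filter P).card := by
  intro m
  induction m with
  | zero =>
    intro k hkm _
    have hbot : T.rootGen F (fun r => P r ∧ k ≤ r) = ⊥ :=
      eq_bot_iff.mpr (rootGen_le fun r hr h => by omega)
    rw [hbot, Subgroup.card_bot, show Finset.Ico k T.n = ∅ from Finset.Ico_eq_empty (by omega)]
    simp
  | succ m ih =>
    intro k hkm hk
    have hkn : k < T.n := by omega
    rw [← Finset.insert_Ico_add_one_left_eq_Ico hkn, Finset.filter_insert]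
    by_cases hPk : P k
    · rw [if_pos hPk, Finset.card_insert_of_notMem (by simp), pow_succ', ← ih (k + 1) (by omega) (by omega)]
      let f : F × T.rootGen F (fun r => P r ∧ k + 1 ≤ r) → T.rootGen F (fun r => P r ∧ k ≤ r) :=
        fun p => ⟨T.xU F k p.1 * p.2,
          mul_mem (xU_mem_rootGen (P := fun r => P r ∧ k ≤ r) hkn ⟨hPk, le_rfl⟩ _)
            (rootGen_inf_le P k p.2.2)⟩
      have hf : Function.Bijective f := by
        refine ⟨fun p q h => ?_, fun g => ?_⟩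
        · have hsub : T.rootGen F (fun r => P r ∧ k + 1 ≤ r) ≤ T.rootGen F (fun r => k + 1 ≤ r) :=
            rootGen_mono fun _ _ h => h.2
          obtain ⟨h1, h2⟩ := xU_mul_inj hT hC hk hkn (hsub p.2.2) (hsub q.2.2) (congrArg Subtype.val h)
          exact Prod.ext h1 (Subtype.ext h2)
        · obtain ⟨t, g', hg', hg⟩ := mem_closed_split hT hC hP hk hkn hPk g.2
          exact ⟨(t, ⟨g', hg'⟩), Subtype.ext hg.symm⟩
      rw [← Nat.card_eq_of_bijective f hf, Nat.card_prod, Nat.card_eq_fintype_card]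
    · rw [if_neg hPk, ← ih (k + 1) (by omega) (by omega)]
      have : T.rootGen F (fun r => P r ∧ k ≤ r) = T.rootGen F (fun r => P r ∧ k + 1 ≤ r) := by
        refine rootGen_congr fun r _ => ⟨fun h => ⟨h.1, ?_⟩, fun h => ⟨h.1, by omega⟩⟩
        rcases Nat.lt_or_ge k r with h' | h'
        · exact h'
        · exact absurd (show P k by rw [show k = r by omega]; exact h.1) hPk
      rw [this]

theorem exists_factor (P Q : ℕ → Prop) (hcov : ∀ r < T.n, T.half ≤ r → P r ∨ Q r) :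
    ∀ m k, k + m = T.n → T.half ≤ k → ∀ g ∈ T.rootGen F (fun r => k ≤ r),
      ∃ a ∈ T.rootGen F P, ∃ b ∈ T.rootGen F Q, g = a * b := by
  intro m
  induction m with
  | zero =>
    intro k hkm _ g hg
    rw [show k = T.n by omega, ge_n_eq_bot hT, Subgroup.mem_bot] at hg
    exact ⟨1, one_mem _, 1, one_mem _, by rw [hg, one_mul]⟩
  | succ m ih =>
    intro k hkm hk g hg
    have hkn : k < T.n := by omega
    obtain ⟨t, g', hg', rfl⟩ := (mem_ge_iff hT hC hk hkn).mp hg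
    rcases hcov k hkn hk with h | h
    · obtain ⟨a, ha, b, hb, rfl⟩ := ih (k + 1) (by omega) (by omega) g' hg'
      exact ⟨_, mul_mem (xU_mem_rootGen hkn h t) ha, b, hb, (mul_assoc _ _ _).symm⟩
    · have hconj : T.xU F k t * g' * (T.xU F k t)⁻¹ ∈ T.rootGen F (fun r => k + 1 ≤ r) :=
        (Subgroup.mem_normalizer_iff.mp (xU_mem_normalizer_ge hT hC hkn hk (by omega) t) g').mp hg'
      obtain ⟨a, ha, b, hb, e⟩ := ih (k + 1) (by omega) (by omega) _ hconj
      refine ⟨a, ha, b * T.xU F k t, mul_mem hb (xU_mem_rootGen hkn h t), ?_⟩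
      rw [← mul_assoc, ← e, inv_mul_cancel_right]

theorem exists_canonical {g : GL T.I F} (hg : g ∈ T.datum.group F) :
    ∃ b ∈ T.datum.borelSubgroup F, ∃ n ∈ T.datum.monomialSubgroup F, ∃ w ∈ T.WP hT, T.Mono n w ∧
      ∃ u ∈ T.rootGen F (T.negSet w), g = b * n * u := by
  classical
  obtain ⟨v, hv⟩ := BNPair.Basic.exists_mem_cell (bnPair hT hC F) ⟨g, hg⟩
  rw [BNPair.Basic.mem_cell] at hv
  obtain ⟨a, ha, b, hb, e⟩ := hv
  have e' : g = (a : GL T.I F) * ((v.out : ↥(T.datum.group F)) : GL T.I F) * (b : GL T.I F) :=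
    congrArg Subtype.val e
  set n : GL T.I F := ((v.out : ↥(T.datum.group F)) : GL T.I F)
  have hn : n ∈ T.datum.monomialSubgroup F := Subgroup.mem_subgroupOf.mp v.out.2
  have ha' : (a : GL T.I F) ∈ T.datum.borelSubgroup F := Subgroup.mem_subgroupOf.mp ha
  obtain ⟨u, hu, h, hh, hb'⟩ := (mem_borel_iff hT).mp (Subgroup.mem_subgroupOf.mp hb)
  obtain ⟨w, hw, hm⟩ := exists_mono hT hn
  -- move `h` to the left
  have hu2 : h⁻¹ * u * h ∈ T.rootGen F (fun r => T.half ≤ r) := by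
    rw [← posUnipotent_rootGen hT]
    have hN : T.datum.diagonalSubgroup F ≤
        Subgroup.normalizer (T.datum.posUnipotent F : Set (GL T.I F)) := by
      rw [posUnipotent_rootGen hT]; exact diag_le_normalizer hT _
    have := (Subgroup.mem_normalizer_iff.mp (hN (inv_mem hh)) u).mp hu
    rwa [inv_inv] at this
  obtain ⟨p, hp, q, hq, hpq⟩ := exists_factor hT hC (T.posSet w) (T.negSet w) (fun r hr hrp => by
    rcases Nat.lt_or_ge (w ⟨r, hr⟩).val T.half with h | h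
    · exact Or.inr ⟨hr, hrp, h⟩
    · exact Or.inl ⟨hr, hrp, h⟩) T.half T.half (Nat.two_mul _).symm le_rfl _ hu2
  refine ⟨(a : GL T.I F) * (n * h * n⁻¹) * (n * p * n⁻¹),
    mul_mem (mul_mem ha' (Subgroup.mem_sup_right (conj_diag hT hn hh))) ?_, n, hn, w, hw, hm, q, hq, ?_⟩
  · refine Subgroup.mem_sup_left ?_
    rw [posUnipotent_rootGen hT]
    exact conj_mem_rootGen hT hm (fun s ⟨_, _, h⟩ => h) hp
  · calc g = (a : GL T.I F) * n * (h * (h⁻¹ * u * h)) := by rw [e', hb']; group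
      _ = _ := by rw [hpq]; group

theorem canonical_unique {b b' n n' u u' : GL T.I F} {w w' : Equiv.Perm (Fin T.n)}
    (hb : b ∈ T.datum.borelSubgroup F) (hb' : b' ∈ T.datum.borelSubgroup F)
    (hn : n ∈ T.datum.monomialSubgroup F) (hn' : n' ∈ T.datum.monomialSubgroup F)
    (hm : T.Mono n w) (hu : u ∈ T.rootGen F (T.negSet w))
    (hu' : u' ∈ T.rootGen F (T.negSet w')) (he : b * n * u = b' * n' * u') :
    n⁻¹ * n' ∈ T.datum.diagonalSubgroup F ∧ (T.Mono n' w' → n = n' → b = b' ∧ u = u') := by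
  have hUB : ∀ {v : Equiv.Perm (Fin T.n)} {x : GL T.I F}, x ∈ T.rootGen F (T.negSet v) →
      x ∈ T.datum.borelSubgroup F := fun {v x} hx =>
    (rootGen_le fun r hr ⟨_, hp, _⟩ t => pos_le_borel hT hr hp t :
      T.rootGen F (T.negSet v) ≤ T.datum.borelSubgroup F) hx
  refine ⟨?_, fun hm' hnn => ?_⟩
  · let P := bnPair hT hC F
    let G := T.datum.group F
    have hnG := monomial_le_group hT hn
    have hn'G := monomial_le_group hT hn'
    let N : ↥P.N := ⟨⟨n, hnG⟩, Subgroup.mem_subgroupOf.mpr hn⟩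
    let N' : ↥P.N := ⟨⟨n', hn'G⟩, Subgroup.mem_subgroupOf.mpr hn'⟩
    let g : ↥G := ⟨b * n * u, mul_mem (mul_mem (borel_le_group hT hb) hnG) (borel_le_group hT (hUB hu))⟩
    have h1 : g ∈ BNPair.Basic.cell P (BNPair.Basic.proj P N) := by
      rw [BNPair.Basic.cell_proj, DoubleCoset.mem_doubleCoset]
      exact ⟨⟨b, borel_le_group hT hb⟩, Subgroup.mem_subgroupOf.mpr hb,
        ⟨u, borel_le_group hT (hUB hu)⟩, Subgroup.mem_subgroupOf.mpr (hUB hu), rfl⟩
    have h2 : g ∈ BNPair.Basic.cell P (BNPair.Basic.proj P N') := by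
      rw [BNPair.Basic.cell_proj, DoubleCoset.mem_doubleCoset]
      exact ⟨⟨b', borel_le_group hT hb'⟩, Subgroup.mem_subgroupOf.mpr hb',
        ⟨u', borel_le_group hT (hUB hu')⟩, Subgroup.mem_subgroupOf.mpr (hUB hu'), Subtype.ext he⟩
    have h3 := (BNPair.Basic.proj_eq_iff P).mp (BNPair.Basic.cell_inj P h1 h2)
    exact (borel_inf_monomial (T := T) (F := F) hT).le <| Subgroup.mem_inf.mpr
      ⟨Subgroup.mem_subgroupOf.mp h3, mul_mem (inv_mem hn) hn'⟩
  · subst hnn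
    obtain rfl := hm.unique hm'
    have hV : n * (u' * u⁻¹) * n⁻¹ ∈ T.datum.negUnipotent F := by
      rw [negUnipotent_rootGen hT]
      exact conj_mem_rootGen hT hm (fun s ⟨_, _, h⟩ => h) (mul_mem hu' (inv_mem hu))
    have hB : n * (u' * u⁻¹) * n⁻¹ ∈ T.datum.borelSubgroup F := by
      have : n * (u' * u⁻¹) * n⁻¹ = b'⁻¹ * b := by
        calc n * (u' * u⁻¹) * n⁻¹ = b'⁻¹ * (b' * n * u') * u⁻¹ * n⁻¹ := by group
          _ = b'⁻¹ * (b * n * u) * u⁻¹ * n⁻¹ := by rw [he]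
          _ = _ := by group
      rw [this]
      exact mul_mem (inv_mem hb') hb
    have h0 : n * (u' * u⁻¹) * n⁻¹ ∈ (⊥ : Subgroup (GL T.I F)) :=
      borel_inf_neg (T := T) (F := F) hT ▸ ⟨hB, hV⟩
    rw [Subgroup.mem_bot, conj_eq_one_iff, mul_inv_eq_one] at h0
    subst h0
    exact ⟨mul_right_cancel (mul_right_cancel he), rfl⟩

theorem card_negSet [Fintype F] {w : Equiv.Perm (Fin T.n)} (hw : w ∈ T.WP hT) :
    Nat.card (T.rootGen F (T.negSet w)) = Fintype.card F ^ T.invN w := by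
  classical
  have h1 : T.rootGen F (T.negSet w) = T.rootGen F (fun r => T.negSet w r ∧ T.half ≤ r) :=
    rootGen_congr fun r _ => ⟨fun h => ⟨h, h.2.1⟩, fun h => h.1⟩
  rw [h1, card_closed hT hC (closed_negSet hT hw) T.half T.half (Nat.two_mul _).symm le_rfl]
  congr 1
  symm
  refine Finset.card_bij (fun s _ => s.val) (fun s hs => ?_) (fun a _ b _ h => Fin.ext h) (fun r hr => ?_)
  · rw [Finset.mem_filter] at hs
    rw [Finset.mem_filter, Finset.mem_Ico]
    exact ⟨⟨hs.2.1, s.2⟩, s.2, hs.2⟩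
  · rw [Finset.mem_filter] at hr
    obtain ⟨h, h2⟩ := hr.2
    exact ⟨⟨r, h⟩, by rw [Finset.mem_filter]; exact ⟨Finset.mem_univ _, h2⟩, rfl⟩

theorem card_borel [Fintype F] :
    Nat.card (T.datum.borelSubgroup F) =
      Fintype.card F ^ T.half * Nat.card (T.datum.diagonalSubgroup F) := by
  let f : T.datum.posUnipotent F × T.datum.diagonalSubgroup F → T.datum.borelSubgroup F := fun p =>
    ⟨p.1 * p.2, mul_mem (Subgroup.mem_sup_left p.1.2) (Subgroup.mem_sup_right p.2.2)⟩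
  have hf : Function.Bijective f := by
    refine ⟨fun p q h => ?_, fun g => ?_⟩
    · have h' : (p.1 : GL T.I F) * p.2 = q.1 * q.2 := congrArg Subtype.val h
      have h1 : (q.1 : GL T.I F)⁻¹ * p.1 ∈ (⊥ : Subgroup (GL T.I F)) := by
        rw [← pos_inf_diag (T := T) (F := F) hT]
        refine Subgroup.mem_inf.mpr ⟨mul_mem (inv_mem q.1.2) p.1.2, ?_⟩
        have e : (q.1 : GL T.I F)⁻¹ * p.1 = q.2 * (p.2 : GL T.I F)⁻¹ := by
          rw [inv_mul_eq_iff_eq_mul, ← mul_assoc, ← h', mul_inv_cancel_right]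
        rw [e]
        exact mul_mem q.2.2 (inv_mem p.2.2)
      rw [Subgroup.mem_bot, inv_mul_eq_one] at h1
      rw [h1, mul_left_cancel_iff] at h'
      exact Prod.ext (Subtype.ext h1.symm) (Subtype.ext h')
    · obtain ⟨u, hu, h, hh, e⟩ := (mem_borel_iff hT).mp g.2
      exact ⟨(⟨u, hu⟩, ⟨h, hh⟩), Subtype.ext e.symm⟩
  rw [← Nat.card_eq_of_bijective f hf, Nat.card_prod, posUnipotent_rootGen hT,
    card_ge hT hC T.half T.half (Nat.two_mul _).symm le_rfl]

theorem card_group [Fintype F] [DecidablePred (· ∈ T.WP hT)] :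
    Nat.card ↥(T.datum.group F) = Fintype.card F ^ T.half * Nat.card (T.datum.diagonalSubgroup F) *
      ∑ w : ↥(T.WP hT), Fintype.card F ^ T.invN (w : Equiv.Perm (Fin T.n)) := by
  classical
  let rep : ↥(T.WP hT) → ↥(T.datum.monomialSubgroup F) := fun w => (wHom_surjective hT w).choose
  have hrep : ∀ w, T.Mono (rep w : GL T.I F) (w : Equiv.Perm (Fin T.n)) := fun w => by
    have := mono_wHom hT (rep w)
    rwa [show wHom F hT (rep w) = w from (wHom_surjective hT w).choose_spec] at this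
  let f : (Σ w : ↥(T.WP hT), T.datum.borelSubgroup F × T.rootGen F (T.negSet (w : Equiv.Perm (Fin T.n)))) →
      ↥(T.datum.group F) := fun x =>
    ⟨(x.2.1 : GL T.I F) * (rep x.1 : GL T.I F) * (x.2.2 : GL T.I F),
      mul_mem (mul_mem (borel_le_group hT x.2.1.2) (monomial_le_group hT (rep x.1).2))
        ((rootGen_le fun r hr _ t => xU_mem_group hT hr t :
          T.rootGen F (T.negSet _) ≤ T.datum.group F) x.2.2.2)⟩
  have hf : Function.Bijective f := by
    refine ⟨?_, fun g => ?_⟩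
    · rintro ⟨w, b, u⟩ ⟨w', b', u'⟩ h
      have h' := congrArg Subtype.val h
      obtain ⟨h1, h2⟩ := canonical_unique hT hC b.2 b'.2 (rep w).2 (rep w').2 (hrep w) u.2 u'.2 h'
      have hww : w = w' := by
        have h3 := ((hrep w).inv.mul (hrep w')).unique (mono_diag hT h1)
        rw [inv_mul_eq_one] at h3
        exact Subtype.ext h3
      subst hww
      obtain ⟨hb, hu⟩ := h2 (hrep w) rfl
      obtain rfl := Subtype.ext hb
      obtain rfl := Subtype.ext hu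
      rfl
    · obtain ⟨b, hb, n, hn, w, hw, hm, u, hu, e⟩ := exists_canonical hT hC g.2
      have hd : n * (rep ⟨w, hw⟩ : GL T.I F)⁻¹ ∈ T.datum.diagonalSubgroup F := by
        refine mem_diag_of_mono_one hT (mul_mem hn (inv_mem (rep _).2)) ?_
        have := hm.mul (hrep ⟨w, hw⟩).inv
        rwa [mul_inv_cancel] at this
      refine ⟨⟨⟨w, hw⟩, ⟨b * (n * (rep ⟨w, hw⟩ : GL T.I F)⁻¹),
        mul_mem hb (Subgroup.mem_sup_right hd)⟩, ⟨u, hu⟩⟩, Subtype.ext ?_⟩
      show b * (n * (rep ⟨w, hw⟩ : GL T.I F)⁻¹) * _ * u = (g : GL T.I F)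
      rw [e]
      group
  rw [← Nat.card_eq_of_bijective f hf, Nat.card_sigma, Finset.mul_sum]
  refine Finset.sum_congr rfl fun w _ => ?_
  rw [Nat.card_prod, card_negSet hT hC w.2, card_borel hT hC]

end CfsgLib.Chevalley.Tbl
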