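import Cfsg.Agent.Lib.Chevalley.NSimple

/-!
Every root is a reflected fundamental root; `h_r(c)` is diagonal; transport of root elements.
-/

set_option autoImplicit false

namespace CfsgLib.Chevalley.Tbl


variable {T : Tbl} {F : Type*} [Field F]

/-- A sign. -/
def sgn (F : Type*) [Field F] (z : ℤ) : F := (z : F)

variable (hT : T.Valid)
include hT

theorem exists_ca_pos {r : ℕ} (hr : r < T.n) (hp : T.isPos r = true) :
    ∃ i < T.rank, 0 < T.ca i r := by
  by_contra h
  push Not at h
  have h2 := pair_self hT hr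
  rw [pair_eq_sum] at h2
  have : ∑ i : Fin T.rank, T.cv r i * T.ca i r ≤ 0 :=
    Finset.sum_nonpos fun i _ => mul_nonpos_of_nonneg_of_nonpos (cv_nonneg hT hr hp i.2) (h i i.2)
  omega

theorem ht_refl {i s : ℕ} (hi : i < T.rank) (hs : s < T.n) :
    T.ht (T.refl i s) = T.ht s - T.ca i s := by
  simp only [ht, list_sum_range]
  rw [Finset.sum_congr rfl fun j _ => co_refl hT hi hs j.2, Finset.sum_sub_distrib]
  congr 1
  rw [Finset.sum_eq_single (⟨i, hi⟩ : Fin T.rank)]
  · simp
  · intro j _ hj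
    have : j.val ≠ i := fun e => hj (Fin.ext e)
    simp [this]
  · simp

/-- Every root is obtained from fundamental roots by fundamental reflections. -/
theorem root_induction (P : ℕ → Prop) (hbase : ∀ i < T.rank, P (T.simple i))
    (hstep : ∀ i < T.rank, ∀ s < T.n, P s → P (T.refl i s)) : ∀ r < T.n, P r := by
  have key : ∀ k r, r < T.n → T.isPos r = true → (T.ht r).toNat ≤ k → P r ∧ P (T.neg r) := by
    intro k
    induction k with
    | zero => intro r hr hp hk; have := ht_pos hT hr hp; omega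
    | succ k ih =>
      intro r hr hp hk
      by_cases hs : ∃ i < T.rank, r = T.simple i
      · obtain ⟨i, hi, rfl⟩ := hs
        refine ⟨hbase i hi, ?_⟩
        have := hstep i hi _ hr (hbase i hi)
        rwa [refl_simple_self hT i] at this
      · push Not at hs
        obtain ⟨i, hi, hca⟩ := exists_ca_pos hT hr hp
        have hr' := refl_lt hT hi hr
        have hp' := isPos_refl hT hi hr hp (hs i hi)
        have hh := ht_refl hT hi hr
        have hpos := ht_pos hT hr' hp'
        obtain ⟨h1, h2⟩ := ih _ hr' hp' (by omega)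
        refine ⟨?_, ?_⟩
        · have := hstep i hi _ hr' h1
          rwa [refl_refl hT hi hr] at this
        · have := hstep i hi _ (neg_lt' hr') h2
          rwa [refl_neg hT hi hr', refl_refl hT hi hr] at this
  intro r hr
  cases hp : T.isPos r with
  | true => exact (key _ r hr hp le_rfl).1
  | false =>
    have := (key _ (T.neg r) (neg_lt' hr) (by rw [isPos_neg hr, hp]; rfl) le_rfl).2
    rwa [neg_neg' hr] at this

theorem ca_refl {i j s : ℕ} (hi : i < T.rank) (hj : j < T.rank) (hs : s < T.n) :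
    T.ca j (T.refl i s) = T.ca j s - T.ca i s * T.ca j (T.simple i) := by
  rw [ca_eq hT (refl_lt hT hi hs) hj, ca_eq hT hs hj, list_sum_range, list_sum_range,
    Finset.sum_congr rfl fun k _ => by rw [co_refl hT hi hs k.2, sub_mul], Finset.sum_sub_distrib]
  congr 1
  rw [Finset.sum_eq_single (⟨i, hi⟩ : Fin T.rank)]
  · simp
  · intro k _ hk
    have : k.val ≠ i := fun e => hk (Fin.ext e)
    simp [this]
  · simp

/-- The pairing is invariant under reflections. -/
theorem pair_refl {i r s : ℕ} (hi : i < T.rank) (hr : r < T.n) (hs : s < T.n) :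
    T.pair (T.refl i r) s = T.pair r (T.refl i s) := by
  have hA : T.pair (T.refl i r) s = T.pair r s - T.pair r (T.simple i) * T.ca i s := by
    rw [pair_eq_sum, pair_eq_sum r s,
      Finset.sum_congr rfl fun j _ => by rw [cv_refl hT hi hr j.2, sub_mul], Finset.sum_sub_distrib]
    congr 1
    rw [Finset.sum_eq_single (⟨i, hi⟩ : Fin T.rank)]
    · simp
    · intro k _ hk
      have : k.val ≠ i := fun e => hk (Fin.ext e)
      simp [this]
    · simp
  have hB : T.pair r (T.refl i s) = T.pair r s - T.pair r (T.simple i) * T.ca i s := by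
    rw [pair_eq_sum, pair_eq_sum r s, pair_eq_sum r (T.simple i), Finset.sum_mul,
      ← Finset.sum_sub_distrib]
    exact Finset.sum_congr rfl fun j _ => by rw [ca_refl hT hi j.2 hs]; ring
  rw [hA, hB]

theorem nU_congr {r : ℕ} (hr : r < T.n) {t : F} (g : GL T.I F) (a b : F → F) (r' : ℕ)
    (h1 : ∀ u, g * T.xU F r u = T.xU F r' (a u) * g)
    (h2 : ∀ u, g * T.xU F (T.neg r) u = T.xU F (T.neg r') (b u) * g)
    (hb : b (-t⁻¹) = -(a t)⁻¹) : g * T.nU F r t = T.nU F r' (a t) * g := by
  have e1 := h1 t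
  have e2 := h2 (-t⁻¹)
  rw [hb] at e2
  rw [nU, nU, ← mul_assoc, ← mul_assoc, e1, mul_assoc (T.xU F r' (a t)) g, e2,
    ← mul_assoc (T.xU F r' (a t)), mul_assoc (T.xU F r' (a t) * T.xU F (T.neg r') (-(a t)⁻¹)) g, e1,
    ← mul_assoc]

theorem nU_neg_one {r : ℕ} (hr : r < T.n) : T.nU F r (-1) = (T.nU F r 1)⁻¹ := by
  have hn := neg_lt' hr
  rw [nU, nU, mul_inv_rev, mul_inv_rev, xU_inv hT hr, xU_inv hT hn, mul_assoc]
  norm_num

section Simple

variable {i : ℕ} (hi : i < T.rank)
include hi

theorem nU_simple_t (t : Fˣ) :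
    T.nU F (T.simple i) (t : F) =
      T.dU (T.chOf fun j => if j = i then t else 1) * T.nU F (T.simple i) 1 *
        (T.dU (T.chOf fun j => if j = i then t else 1))⁻¹ := by
  have hp := simple_lt hT hi
  set χ := T.chOf fun j => if j = i then t else (1 : Fˣ) with hχ
  have hc : T.IsChar χ := isChar_chOf hT _
  have hval : χ (T.simple i) = t := by rw [hχ, chOf_simple hT _ hi, if_pos rfl]
  have hval' : (χ (T.neg (T.simple i)) : F) = (t : F)⁻¹ := by
    rw [hc.neg _ hp, hval, Units.val_inv_eq_inv_val]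
  have key := nU_congr (t := (1 : F)) hT hp (T.dU χ) (fun u => (t : F) * u)
    (fun u => (t : F)⁻¹ * u) (T.simple i)
    (fun u => by rw [dU_conj_X hT hc hp, hval]) (fun u => by rw [dU_conj_X hT hc (neg_lt' hp), hval'])
    (by simp)
  rw [key, mul_one, mul_inv_cancel_right]

theorem hU_simple (c : Fˣ) : T.hU F (T.simple i) (c : F) = T.dU (T.hCh (T.simple i) c) := by
  rw [hU, nU_neg_one hT (simple_lt hT hi), nU_simple_t hT hi, dU_inv, mul_assoc _ (T.nU F _ 1),
    nU_simple_dU hT hi, ← mul_assoc, mul_inv_cancel_right, dU_mul]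
  refine dU_congr fun s hs => ?_
  simp only [Pi.mul_apply, Pi.inv_apply, chOf, hCh, pair_simple hT hi, ← Finset.prod_inv_distrib,
    ← Finset.prod_mul_distrib]
  rw [Finset.prod_eq_single (⟨i, hi⟩ : Fin T.rank)]
  · simp only [if_true]
    rw [← _root_.zpow_neg, ← _root_.zpow_add, co_refl hT hi hs hi, if_pos rfl]
    congr 1; ring
  · intro j _ hj
    have : j.val ≠ i := fun e => hj (Fin.ext e)
    simp [this]
  · simp

theorem nU_simple_conj (t : F) :
    T.nU F (T.simple i) 1 * T.xU F (T.simple i) t =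
      T.xU F (T.neg (T.simple i)) (-t) * T.nU F (T.simple i) 1 := by
  rw [nU_simple_xU hT hi (simple_lt hT hi), refl_simple_self hT, eta_simple hT hi]
  norm_num

theorem nU_simple_conj_neg (t : F) :
    T.nU F (T.simple i) 1 * T.xU F (T.neg (T.simple i)) t =
      T.xU F (T.simple i) (-t) * T.nU F (T.simple i) 1 := by
  have hp := simple_lt hT hi
  have h := eta_neg hT hi hp
  rw [eta_simple hT hi] at h
  have he : T.eta i (T.neg (T.simple i)) = -1 := by omega
  rw [nU_simple_xU hT hi (neg_lt' hp), refl_neg hT hi hp, refl_simple_self hT, neg_neg' hp, he]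
  norm_num

theorem nU_simple_sq :
    T.nU F (T.simple i) 1 * T.nU F (T.simple i) 1 = T.dU (T.hCh (T.simple i) (-1)) := by
  have hp := simple_lt hT hi
  have h := hU_simple (F := F) hT hi (-1)
  rw [Units.val_neg, Units.val_one, hU, nU_neg_one hT hp] at h
  rw [← inv_inj, mul_inv_rev, h, dU_inv]
  refine dU_congr fun s _ => ?_
  simp [hCh, ← inv_zpow]

end Simple

/-- `g` carries the root elements of `±p` to those of `±r`, up to one sign. -/
def Carries (T : Tbl) (F : Type*) [Field F] (g : GL T.I F) (p r : ℕ) (e : F) : Prop :=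
  (e = 1 ∨ e = -1) ∧ (∀ t, g * T.xU F p t = T.xU F r (e * t) * g) ∧
    ∀ t, g * T.xU F (T.neg p) t = T.xU F (T.neg r) (e * t) * g

/-- Each root pair is carried from a fundamental one by a product of `n`'s of fundamental roots. -/
theorem exists_carries : ∀ r < T.n, ∃ i < T.rank, ∃ g e,
    g ∈ Subgroup.closure {x : GL T.I F | ∃ j < T.rank, x = T.nU F (T.simple j) 1} ∧
    Carries T F g (T.simple i) r e ∧
    ∀ c : Fˣ, g * T.dU (T.hCh (T.simple i) c) = T.dU (T.hCh r c) * g := by
  refine root_induction hT (P := fun r => ∃ i < T.rank, ∃ g e,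
    g ∈ Subgroup.closure {x : GL T.I F | ∃ j < T.rank, x = T.nU F (T.simple j) 1} ∧
    Carries T F g (T.simple i) r e ∧
    ∀ c : Fˣ, g * T.dU (T.hCh (T.simple i) c) = T.dU (T.hCh r c) * g) ?_ ?_
  · intro i hi
    exact ⟨i, hi, 1, 1, one_mem _, ⟨.inl rfl, by simp, by simp⟩, by simp⟩
  · rintro j hj s hs ⟨i, hi, g, e, hg, ⟨he, h1, h2⟩, h3⟩
    refine ⟨i, hi, T.nU F (T.simple j) 1 * g, (T.eta j s : F) * e,
      mul_mem (Subgroup.subset_closure ⟨j, hj, rfl⟩) hg, ⟨?_, fun t => ?_, fun t => ?_⟩, fun c => ?_⟩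
    · rcases eta_sq hT hj hs with h | h <;> rcases he with rfl | rfl <;> simp [h]
    · rw [mul_assoc, h1, ← mul_assoc, nU_simple_xU hT hj hs, mul_assoc, mul_assoc (T.eta j s : F)]
    · have hn : T.eta j (T.neg s) = T.eta j s := by
        have := eta_neg hT hj hs
        rcases eta_sq hT hj hs with h | h <;> rw [h] at this ⊢ <;> omega
      rw [mul_assoc, h2, ← mul_assoc, nU_simple_xU hT hj (neg_lt' hs), refl_neg hT hj hs, hn,
        mul_assoc, mul_assoc (T.eta j s : F)]
    · rw [mul_assoc, h3, ← mul_assoc, nU_simple_dU hT hj, mul_assoc]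
      congr 1
      refine dU_congr fun u hu => ?_
      simp only [hCh]
      rw [pair_refl hT hj hs hu]

section Any

variable {r : ℕ} (hr : r < T.n)
include hr

/-- `h_r(c)` is diagonal. -/
theorem hU_eq (c : Fˣ) : T.hU F r (c : F) = T.dU (T.hCh r c) := by
  obtain ⟨i, hi, g, e, -, ⟨he, h1, h2⟩, h3⟩ := exists_carries (F := F) hT r hr
  have hee : e * e = 1 := by rcases he with rfl | rfl <;> norm_num
  have hn : ∀ t : F, t ≠ 0 → g * T.nU F (T.simple i) t = T.nU F r (e * t) * g := fun t ht =>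
    nU_congr hT (simple_lt hT hi) g (fun u => e * u) (fun u => e * u) r h1 h2 (by
      rcases he with rfl | rfl <;> simp)
  have hne : e ≠ 0 := by rcases he with rfl | rfl <;> norm_num
  let eu : Fˣ := Units.mk0 e hne
  have key : g * (T.nU F (T.simple i) ((eu * c : Fˣ) : F) * T.nU F (T.simple i) (-e)) =
      T.hU F r c * g := by
    rw [← mul_assoc, hn _ (Units.ne_zero _), mul_assoc, hn (-e) (neg_ne_zero.mpr hne), hU,
      ← mul_assoc]
    have a1 : e * (((eu * c : Fˣ) : F)) = c := by
      rw [Units.val_mul, ← mul_assoc]; show e * e * _ = _; rw [hee, one_mul]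
    have a2 : e * -e = -1 := by rw [mul_neg, hee]
    rw [a1, a2]
  have hnt : ∀ a : Fˣ, T.nU F (T.simple i) (a : F) =
      T.dU (T.hCh (T.simple i) a) * T.nU F (T.simple i) 1 := by
    intro a
    rw [← hU_simple hT hi a, hU, nU_neg_one hT (simple_lt hT hi), inv_mul_cancel_right]
  have a3 : (-e) = ((-eu : Fˣ) : F) := by simp [eu]
  rw [a3, hnt, hnt] at key
  have hh : T.dU (T.hCh (T.simple i) (eu * c)) * T.nU F (T.simple i) 1 *
      (T.dU (T.hCh (T.simple i) (-eu)) * T.nU F (T.simple i) 1) = T.dU (T.hCh (T.simple i) c) := by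
    have hsw : T.nU F (T.simple i) 1 * T.dU (T.hCh (T.simple i) (-eu)) =
        T.dU (T.hCh (T.simple i) (-eu)⁻¹) * T.nU F (T.simple i) 1 := by
      rw [nU_simple_dU hT hi]
      congr 1
      refine dU_congr fun u hu => ?_
      simp only [hCh]
      rw [← pair_refl hT hi (simple_lt hT hi) hu, refl_simple_self hT, pair_eq_sum, pair_eq_sum,
        inv_zpow', ← Finset.sum_neg_distrib]
      exact congrArg ((-eu) ^ ·) (Finset.sum_congr rfl fun k _ => by
        rw [cv_neg hT (simple_lt hT hi) k.2]; ring)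
    rw [mul_assoc, ← mul_assoc (T.nU F (T.simple i) 1), hsw,
      mul_assoc (T.dU (T.hCh (T.simple i) (-eu)⁻¹)),
      nU_simple_sq hT hi, dU_mul, dU_mul, hCh_mul, hCh_mul]
    congr 2
    have : (-eu)⁻¹ * -1 = eu := by
      apply Units.ext
      rcases he with h | h <;> simp [eu, h]
    rw [this]
    apply Units.ext
    rw [Units.val_mul, Units.val_mul]
    show e * (c : F) * e = c
    rw [mul_comm e (c : F), mul_assoc, hee, mul_one]
  rw [hh, h3] at key
  exact (mul_right_cancel key).symm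

theorem hU_mul (a b : Fˣ) : T.hU F r (a : F) * T.hU F r (b : F) = T.hU F r ((a * b : Fˣ) : F) := by
  rw [hU_eq hT hr, hU_eq hT hr, hU_eq hT hr, dU_mul, hCh_mul]

theorem nU_t (a : Fˣ) : T.nU F r (a : F) = T.dU (T.hCh r a) * T.nU F r 1 := by
  rw [← hU_eq hT hr a, hU, nU_neg_one hT hr, inv_mul_cancel_right]

theorem dU_hCh_xU (c : Fˣ) {s : ℕ} (hs : s < T.n) (t : F) :
    T.dU (T.hCh r c) * T.xU F s t = T.xU F s (((c ^ T.pair r s : Fˣ) : F) * t) * T.dU (T.hCh r c) := by
  rw [dU_conj_X hT (isChar_hCh hT r c) hs]; rfl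

theorem nU_conj (t : F) : T.nU F r 1 * T.xU F r t = T.xU F (T.neg r) (-t) * T.nU F r 1 := by
  obtain ⟨i, hi, g, e, -, ⟨he, h1, h2⟩, h3⟩ := exists_carries (F := F) hT r hr
  have hne : e ≠ 0 := by rcases he with rfl | rfl <;> norm_num
  have hee : e * e = 1 := by rcases he with rfl | rfl <;> norm_num
  have hn : g * T.nU F (T.simple i) e = T.nU F r (e * e) * g :=
    nU_congr hT (simple_lt hT hi) g (fun u => e * u) (fun u => e * u) r h1 h2 (by
      rcases he with rfl | rfl <;> simp)
  rw [hee] at hn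
  let eu : Fˣ := Units.mk0 e hne
  have key : g * (T.nU F (T.simple i) (eu : F) * T.xU F (T.simple i) (e * t)) =
      g * (T.xU F (T.neg (T.simple i)) (-(e * t)) * T.nU F (T.simple i) (eu : F)) := by
    congr 1
    rw [show T.nU F (T.simple i) (eu : F) = T.dU (T.hCh (T.simple i) eu) * T.nU F (T.simple i) 1 by
      rw [← hU_simple hT hi eu, hU, nU_neg_one hT (simple_lt hT hi), inv_mul_cancel_right],
      mul_assoc, nU_simple_conj hT hi, ← mul_assoc,
      dU_conj_X hT (isChar_hCh hT _ eu) (neg_lt' (simple_lt hT hi)), mul_assoc]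
    congr 2
    rw [(isChar_hCh hT _ eu).neg _ (simple_lt hT hi)]
    simp only [hCh, pair_self hT (simple_lt hT hi), Units.val_inv_eq_inv_val, Units.val_zpow_eq_zpow_val]
    show (e ^ (2 : ℤ))⁻¹ * _ = _
    rw [zpow_two, hee, inv_one, one_mul]
  rw [← mul_assoc, ← mul_assoc, h2, mul_assoc (T.xU F (T.neg r) _) g,
    show T.nU F (T.simple i) (eu : F) = T.nU F (T.simple i) e from rfl, hn,
    mul_assoc (T.nU F r 1) g, h1, ← mul_assoc, ← mul_assoc] at key
  have := mul_right_cancel (key.trans (mul_assoc _ _ g).symm)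
  rw [mul_neg, ← mul_assoc e e, hee, one_mul] at this
  exact this

theorem nU_sq : T.nU F r 1 * T.nU F r 1 = T.dU (T.hCh r (-1)) := by
  have h := hU_eq (F := F) hT hr (-1)
  rw [Units.val_neg, Units.val_one, hU, nU_neg_one hT hr] at h
  rw [← inv_inj, mul_inv_rev, h, dU_inv]
  refine dU_congr fun s _ => ?_
  simp [hCh, ← inv_zpow]

end Any

end CfsgLib.Chevalley.Tbl
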