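import Cfsg.Agent.Lib.Chevalley.BN
import Cfsg.Agent.Lib.Chevalley.PerfectCheck

/-!
Perfectness and simplicity of the Chevalley groups.
-/

set_option autoImplicit false

namespace CfsgLib.Chevalley.Tbl

open scoped commutatorElement

theorem list_prod_split {G α : Type*} [Group G] (D : Subgroup G) (f : α → G) (p : α → Bool) (c : α)
    (l : List α) (hf : l.filter p = [c]) (ho : ∀ x ∈ l, p x = false → f x ∈ D)
    (hp : (l.map f).prod ∈ D) : f c ∈ D := by
  induction l with
  | nil => simp at hf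
  | cons a l ih =>
    rw [List.map_cons, List.prod_cons] at hp
    cases ha : p a with
    | false =>
      rw [List.filter_cons, ha] at hf
      exact ih hf (fun x hx => ho x (List.mem_cons_of_mem _ hx))
        ((Subgroup.mul_mem_cancel_left D (ho a List.mem_cons_self ha)).mp hp)
    | true =>
      rw [List.filter_cons, ha, if_pos rfl, List.cons.injEq] at hf
      obtain ⟨rfl, hnil⟩ := hf
      have hrest : (l.map f).prod ∈ D := by
        refine list_prod_mem fun y hy => ?_
        obtain ⟨x, hx, rfl⟩ := List.mem_map.mp hy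
        exact ho x (List.mem_cons_of_mem _ hx)
          (Bool.eq_false_iff.mpr (List.filter_eq_nil_iff.mp hnil x hx))
      exact (Subgroup.mul_mem_cancel_right D hrest).mp hp

variable {T : Tbl} {F : Type*} [Field F]

section

variable (hT : T.Valid)
include hT

theorem xU_commutator_isK {v : ℕ} (hv : v < T.n) (hK : T.isK v = true)
    (hF : ∃ a : F, a ≠ 0 ∧ a ≠ 1) (t : F) :
    T.xU F v t ∈ ⁅T.datum.group F, T.datum.group F⁆ := by
  obtain ⟨a, ha0, ha1⟩ := hF
  simp only [isK, List.any_eq_true, List.mem_range, decide_eq_true_eq] at hK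
  obtain ⟨s, hs, hpair⟩ := hK
  let c : Fˣ := Units.mk0 a ha0
  set d : F := ((c ^ T.pair s v : Fˣ) : F) with hd
  have hd1 : d + -1 ≠ 0 := by
    intro e
    have e' : (c ^ T.pair s v : Fˣ) = 1 := Units.ext (by rw [Units.val_one, ← hd]; linear_combination e)
    have hc1 : c ≠ 1 := fun h => ha1 (congrArg Units.val h)
    rcases Int.natAbs_eq_iff.mp hpair with h | h <;> simp [h] at e' <;> exact hc1 e'
  have hg : T.dU (T.hCh s c) ∈ T.datum.group F :=
    diag_le_group hT (by rw [diagonalSubgroup_eq hT]; exact Subgroup.subset_closure ⟨s, hs, c, rfl⟩)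
  have key := Subgroup.commutator_mem_commutator hg (xU_mem_group (F := F) hT hv ((d + -1)⁻¹ * t))
  rw [commutatorElement_def, dU_hCh_xU hT hs c hv, mul_inv_cancel_right, xU_inv hT hv, xU_add hT hv]
    at key
  have e : d * ((d + -1)⁻¹ * t) + -((d + -1)⁻¹ * t) = t := by
    calc d * ((d + -1)⁻¹ * t) + -((d + -1)⁻¹ * t) = (d + -1) * (d + -1)⁻¹ * t := by ring
      _ = t := by rw [mul_inv_cancel₀ hd1, one_mul]
  rw [← hd, e] at key
  exact key

variable (hC : T.chkComm = true)
include hC

theorem xU_commutator_simple {torus : Bool} (htor : torus = true → ∃ a : F, a ≠ 0 ∧ a ≠ 1) {i : ℕ}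
    (hi : i < T.rank) (h : T.chkGood torus i = true) (t : F) :
    T.xU F (T.simple i) t ∈ ⁅T.datum.group F, T.datum.group F⁆ := by
  have hp := simple_lt hT hi
  simp only [chkGood, Bool.or_eq_true, Bool.and_eq_true, List.any_eq_true, List.mem_range] at h
  rcases h with ⟨htr, hK⟩ | ⟨a, ha, b, hb, hgood⟩
  · exact xU_commutator_isK hT hp hK (htor htr) t
  simp only [goodPair, Bool.and_eq_true, Bool.not_eq_true', Option.isNone_eq_false_iff] at hgood
  obtain ⟨⟨hsum, hmatch⟩, hall⟩ := hgood
  obtain ⟨⟨u, N⟩, hu⟩ := Option.isSome_iff_exists.mp hsum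
  have hba : b ≠ a := fun e => by rw [e, sum?_self hT ha] at hu; simp at hu
  have hbn : b ≠ T.neg a := fun e => by rw [e, sum?_neg hT ha] at hu; simp at hu
  cases hl : (T.commT a b).filter (fun c => Nat.beq c.1 (T.simple i)) with
  | nil => rw [hl] at hmatch; simp at hmatch
  | cons c tl =>
    cases tl with
    | cons c' tl' => rw [hl] at hmatch; simp at hmatch
    | nil =>
      rw [hl] at hmatch
      simp only [Bool.and_eq_true, Bool.or_eq_true, decide_eq_true_eq] at hmatch
      obtain ⟨hC1, hij⟩ := hmatch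
      have hmem : c ∈ (T.commT a b).filter (fun c => Nat.beq c.1 (T.simple i)) := by rw [hl]; simp
      rw [List.mem_filter] at hmem
      have hc1 : c.1 = T.simple i := Nat.eq_of_beq_eq_true hmem.2
      have hzz : (c.2.1 : F) * (c.2.1 : F) = 1 := by
        rcases Int.natAbs_eq_iff.mp hC1 with h' | h' <;> simp [h']
      obtain ⟨t', u', htu⟩ : ∃ t' u' : F, (c.2.1 : F) * (-t') ^ c.2.2.1 * u' ^ c.2.2.2 = t := by
        rcases hij with h' | h'
        · refine ⟨-((c.2.1 : F) * t), 1, ?_⟩
          rw [Nat.eq_of_beq_eq_true h', one_pow, mul_one, pow_one, neg_neg, ← mul_assoc, hzz, one_mul]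
        · refine ⟨-1, (c.2.1 : F) * t, ?_⟩
          rw [Nat.eq_of_beq_eq_true h', neg_neg, one_pow, mul_one, pow_one, ← mul_assoc, hzz, one_mul]
      have key := comm_xU hT hC ha hb hba hbn t' u'
      have hprod : ((T.commT a b).map fun e =>
          T.xU F e.1 ((e.2.1 : F) * (-t') ^ e.2.2.1 * u' ^ e.2.2.2)).prod ∈
          ⁅T.datum.group F, T.datum.group F⁆ := by
        have h1 := Subgroup.commutator_mem_commutator
          (inv_mem (xU_mem_group (F := F) hT hb u')) (inv_mem (xU_mem_group (F := F) hT ha t'))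
        have e2 : ((T.commT a b).map fun e =>
            T.xU F e.1 ((e.2.1 : F) * (-t') ^ e.2.2.1 * u' ^ e.2.2.2)).prod =
            ⁅(T.xU F b u')⁻¹, (T.xU F a t')⁻¹⁆ := by
          rw [commutatorElement_def, inv_inv, inv_inv,
            show (T.xU F b u')⁻¹ * (T.xU F a t')⁻¹ * T.xU F b u' * T.xU F a t' =
              (T.xU F b u')⁻¹ * (T.xU F a t')⁻¹ * (T.xU F b u' * T.xU F a t') by group, key]
          group
        rw [e2]; exact h1
      have hd : T.xU F c.1 ((c.2.1 : F) * (-t') ^ c.2.2.1 * u' ^ c.2.2.2) ∈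
          ⁅T.datum.group F, T.datum.group F⁆ := by
        refine list_prod_split (α := ℕ × ℤ × ℕ × ℕ) _
          (fun e : ℕ × ℤ × ℕ × ℕ => T.xU F e.1 ((e.2.1 : F) * (-t') ^ e.2.2.1 * u' ^ e.2.2.2))
          (fun e : ℕ × ℤ × ℕ × ℕ => Nat.beq e.1 (T.simple i)) c (T.commT a b) hl ?_ hprod
        intro e he hne
        have := List.all_eq_true.mp hall e he
        simp only [hne, Bool.false_or, Bool.and_eq_true] at this
        exact xU_commutator_isK hT (commT_lt hT ha hb e he) this.2 (htor this.1) _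
      rw [hc1, htu] at hd
      exact hd

theorem perfect {torus : Bool} (htor : torus = true → ∃ a : F, a ≠ 0 ∧ a ≠ 1)
    (h : T.chkPerfect torus = true) : commutator ↥(T.datum.group F) = ⊤ := by
  have hall : T.datum.group F ≤ ⁅T.datum.group F, T.datum.group F⁆ := by
    refine le_of_eq_of_le (group_eq hT) ((Subgroup.closure_le _).mpr ?_)
    rintro _ ⟨r, hr, t, rfl⟩
    obtain ⟨i, hi, g, e, hg, ⟨he, h1, -⟩, -⟩ := exists_carries (F := F) hT r hr
    have hgG : g ∈ T.datum.group F := by
      refine (Subgroup.closure_le _).mpr ?_ hg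
      rintro _ ⟨j, hj, rfl⟩
      exact nU_mem_group hT (simple_lt hT hj) _
    have hee : e * e = 1 := by rcases he with rfl | rfl <;> norm_num
    have : T.xU F r t = g * T.xU F (T.simple i) (e * t) * g⁻¹ := by
      rw [h1, ← mul_assoc e, hee, one_mul, mul_inv_cancel_right]
    rw [SetLike.mem_coe, this]
    set x := T.xU F (T.simple i) (e * t) with hx
    have hxD : x ∈ ⁅T.datum.group F, T.datum.group F⁆ :=
      xU_commutator_simple hT hC htor hi (allLt_iff.mp h i hi) _
    rw [show g * x * g⁻¹ = ⁅g, x⁆ * x by rw [commutatorElement_def]; group]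
    exact mul_mem (Subgroup.commutator_mem_commutator hgG
      (xU_mem_group hT (simple_lt hT hi) _)) hxD
  apply Subgroup.map_injective (T.datum.group F).subtype_injective
  rw [commutator_def, Subgroup.map_commutator, ← MonoidHom.range_eq_map, Subgroup.range_subtype]
  exact le_antisymm (Subgroup.commutator_le_self _) hall

omit hC in
theorem exists_edge (hconn : T.chkConn = true) (A : Fin T.rank → Prop) {a : Fin T.rank}
    (ha : A a) {b : Fin T.rank} (hb : ¬ A b) :
    ∃ i j : Fin T.rank, T.ca i.val (T.simple j.val) ≠ 0 ∧ ((A i ∧ ¬ A j) ∨ (A j ∧ ¬ A i)) := by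
  by_contra hno
  push Not at hno
  simp only [chkConn, Bool.and_eq_true] at hconn
  have hr : 0 < T.rank := by have := Nat.le_of_ble_eq_true hconn.2; omega
  have key : ∀ k, ∀ j ∈ T.reach k, ∀ hj : j < T.rank, (A ⟨j, hj⟩ ↔ A ⟨0, hr⟩) := by
    intro k
    induction k with
    | zero => intro j hj hjr; simp [reach] at hj; subst hj; rfl
    | succ k ih =>
      intro j hj hjr
      simp only [reach, List.mem_filter, Bool.or_eq_true, List.any_eq_true, Bool.not_eq_true',
        decide_eq_false_iff_not, List.contains_iff_mem] at hj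
      rcases hj.2 with h | ⟨i, hi, hne⟩
      · exact ih j h hjr
      · have hir : i < T.rank := by
          cases k with
          | zero => simp [reach] at hi; omega
          | succ k => simp [reach] at hi; exact hi.1
        rw [← ih i hi hir]
        obtain ⟨h1, h2⟩ := hno ⟨i, hir⟩ ⟨j, hjr⟩ hne
        exact ⟨h2, h1⟩
  have h0 : ∀ j : Fin T.rank, A j ↔ A ⟨0, hr⟩ := fun j =>
    key _ j.val (by simpa [List.contains_iff_mem] using allLt_iff.mp hconn.1 j.val j.2) j.2
  exact hb ((h0 b).mpr ((h0 a).mp ha))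

omit hC in
theorem refP_not_commute {i j : Fin T.rank} (hij : i ≠ j) (h : T.ca i.val (T.simple j.val) ≠ 0) :
    T.refP hT i * T.refP hT j ≠ T.refP hT j * T.refP hT i := by
  intro e
  have e2 := Equiv.congr_fun e (T.simpF hT j)
  rw [Equiv.Perm.mul_apply, Equiv.Perm.mul_apply, refP_simpF,
    WP_negF hT (Subgroup.subset_closure ⟨i, rfl⟩)] at e2
  have e3 := congrArg (fun x : Fin T.n => T.co x.val i.val) e2
  have hne : i.val ≠ j.val := fun h' => hij (Fin.ext h')
  simp only [refP_apply, negF, simpF] at e3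
  rw [co_refl hT j.2 (refl_lt hT i.2 (simple_lt hT j.2)) i.2, if_neg hne, sub_zero,
    co_neg hT (refl_lt hT i.2 (simple_lt hT j.2)) i.2, co_refl hT i.2 (simple_lt hT j.2) i.2,
    if_pos rfl, co_simple hT j.2 i.2, if_neg hne] at e3
  omega

theorem irreducible (hconn : T.chkConn = true) : (bnPair hT hC F).Irreducible := by
  intro J hJ hJne hJc
  let ns : Fin T.rank → ↥(T.datum.group F) := fun i =>
    ⟨_, nU_mem_group hT (simple_lt hT i.2) (1 : F)⟩
  have hns : ∀ s ∈ (bnPair hT hC F).S, ∃ i, s = ns i := by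
    rintro s ⟨i, hi, hs⟩
    rw [eq_nMat_simple_iff hT hi] at hs
    exact ⟨⟨i, hi⟩, Subtype.ext hs⟩
  obtain ⟨s0, hs0⟩ := hJne
  obtain ⟨t0, ht0, ht0'⟩ := hJc
  obtain ⟨a, rfl⟩ := hns s0 (hJ hs0)
  obtain ⟨b, rfl⟩ := hns t0 ht0
  obtain ⟨i, j, hne, hside⟩ := exists_edge hT hconn (fun i => ns i ∈ J) hs0 ht0'
  have hmemS : ∀ i, ns i ∈ (bnPair hT hC F).S := fun i =>
    ⟨i, i.2, (eq_nMat_simple_iff hT i.2 _).mpr rfl⟩
  have hij : i ≠ j := by
    rintro rfl
    rcases hside with ⟨h1, h2⟩ | ⟨h1, h2⟩ <;> exact h2 h1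
  have hnc := refP_not_commute hT hij hne
  have key : ∀ p q : Fin T.rank, T.refP hT p * T.refP hT q ≠ T.refP hT q * T.refP hT p →
      ns p * ns q * (ns p)⁻¹ * (ns q)⁻¹ ∉ (bnPair hT hC F).B := by
    intro p q hpq hmem
    apply hpq
    have hmem' : T.nU F (T.simple p.val) 1 * T.nU F (T.simple q.val) 1 *
        (T.nU F (T.simple p.val) 1)⁻¹ * (T.nU F (T.simple q.val) 1)⁻¹ ∈ T.datum.borelSubgroup F :=
      Subgroup.mem_subgroupOf.mp hmem
    have hN : T.nU F (T.simple p.val) 1 * T.nU F (T.simple q.val) 1 *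
        (T.nU F (T.simple p.val) 1)⁻¹ * (T.nU F (T.simple q.val) 1)⁻¹ ∈
        T.datum.monomialSubgroup F :=
      mul_mem (mul_mem (mul_mem (nU_simple_mem_N hT p) (nU_simple_mem_N hT q))
        (inv_mem (nU_simple_mem_N hT p))) (inv_mem (nU_simple_mem_N hT q))
    have hH : T.nU F (T.simple p.val) 1 * T.nU F (T.simple q.val) 1 *
        (T.nU F (T.simple p.val) 1)⁻¹ * (T.nU F (T.simple q.val) 1)⁻¹ ∈
        T.datum.diagonalSubgroup F :=
      (borel_inf_monomial (T := T) (F := F) hT).le ⟨hmem', hN⟩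
    have h1 := (((mono_nU_simple (F := F) hT p).mul (mono_nU_simple hT q)).mul
      (mono_nU_simple (F := F) hT p).inv).mul (mono_nU_simple (F := F) hT q).inv
    have h2 := h1.unique (mono_diag hT hH)
    rw [refP_inv, refP_inv] at h2
    calc T.refP hT p * T.refP hT q
        = (T.refP hT p * T.refP hT q * T.refP hT p * T.refP hT q) *
            (T.refP hT q * T.refP hT p) := by
          simp only [mul_assoc]
          rw [← mul_assoc (T.refP hT q) (T.refP hT q), refP_mul_self, one_mul, refP_mul_self, mul_one]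
      _ = _ := by rw [h2, one_mul]
  rcases hside with ⟨h1, h2⟩ | ⟨h1, h2⟩
  · exact ⟨ns i, h1, ns j, ⟨hmemS j, h2⟩, key i j hnc⟩
  · exact ⟨ns j, h1, ns i, ⟨hmemS i, h2⟩, key j i hnc.symm⟩

omit hC in
theorem group_nontrivial (hconn : T.chkConn = true) : Nontrivial ↥(T.datum.group F) := by
  simp only [chkConn, Bool.and_eq_true] at hconn
  have hr : 0 < T.rank := by have := Nat.le_of_ble_eq_true hconn.2; omega
  have hp := simple_lt hT hr
  refine ⟨⟨1, ⟨_, xU_mem_group hT hp (1 : F)⟩, fun e => ?_⟩⟩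
  have e' : (1 : GL T.I F) = T.xU F (T.simple 0) 1 := congrArg Subtype.val e
  rw [← xU_zero hT hp] at e'
  exact zero_ne_one (xU_inj hT hp e')

theorem simple_group {torus : Bool} (htor : torus = true → ∃ a : F, a ≠ 0 ∧ a ≠ 1)
    (hperf : T.chkPerfect torus = true) (hconn : T.chkConn = true) :
    IsSimpleGroup ↥(T.datum.group F) ∧ ¬ IsMulCommutative ↥(T.datum.group F) := by
  haveI := group_nontrivial (F := F) hT hconn
  have hp := perfect hT hC htor hperf
  refine ⟨CfsgLib.BNPair.Simple.isSimpleGroup_of_BN (bnPair hT hC F) (irreducible hT hC hconn) ?_ hp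
    (borel_core hT hC), fun hcomm => ?_⟩
  · haveI := isSolvable_borel (F := F) hT hC
    exact Group.isSolvable_of_surjective (MulEquiv.surjective
      (Subgroup.subgroupOfEquivOfLe (borel_le_group (F := F) hT)).symm) (f :=
        (Subgroup.subgroupOfEquivOfLe (borel_le_group (F := F) hT)).symm.toMonoidHom)
  · have hbot : commutator ↥(T.datum.group F) = ⊥ := by
      rw [commutator_def, Subgroup.commutator_eq_bot_iff_le_centralizer]
      intro x _
      rw [Subgroup.mem_centralizer_iff]
      intro y _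
      exact hcomm.is_comm.comm y x
    rw [hp] at hbot
    exact top_ne_bot hbot

end

end CfsgLib.Chevalley.Tbl
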