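import Cfsg.Agent.Lib.Chevalley.Steinberg
import Cfsg.Agent.Lib.Chevalley.Perfect

/-!
The fundamental `n`'s of the presented group permute the root elements as they do in the
Chevalley group.
-/

set_option autoImplicit false

namespace CfsgLib.Chevalley.Tbl

/-- The hypotheses used for the presented group. -/
structure StOk (T : Tbl) : Prop where
  valid : T.Valid
  comm : T.chkComm = true
  sorted : T.chkSorted = true
  split : T.chkSplit = true

variable {T : Tbl} {F : Type*} [Field F] (hO : T.StOk)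

/-- The map onto the Chevalley group. -/
noncomputable def StOk.hom (hO : T.StOk) (F : Type*) [Field F] :
    T.datum.SteinbergGroup F →* GL T.I F :=
  stHom hO.valid hO.comm

/-- `g` moves root elements as its image does. -/
structure Lifts (hO : T.StOk) (g : T.datum.SteinbergGroup F) (π : Equiv.Perm (Fin T.n)) : Prop where
  mono : T.Mono (hO.hom F g) π
  mem : π ∈ T.WP hO.valid
  conj : ∀ (s : Fin T.n) (t t' : F),
    hO.hom F g * T.xU F s t = T.xU F (π s) t' * hO.hom F g → g * T.sX F s t = T.sX F (π s) t' * g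

include hO

omit hO in
theorem Lifts.one {hO : T.StOk} : Lifts hO (1 : T.datum.SteinbergGroup F) 1 where
  mono := by rw [map_one]; exact Mono.one
  mem := one_mem _
  conj s t t' h := by
    rw [map_one, one_mul, mul_one] at h
    rw [one_mul, mul_one]
    rw [Equiv.Perm.one_apply] at h ⊢
    rw [xU_inj hO.valid s.2 h]

omit hO in
theorem Lifts.mul {hO : T.StOk} {g g' : T.datum.SteinbergGroup F} {π π' : Equiv.Perm (Fin T.n)}
    (h : Lifts hO g π) (h' : Lifts hO g' π') : Lifts hO (g * g') (π * π') where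
  mono := by rw [map_mul]; exact h.mono.mul h'.mono
  mem := mul_mem h.mem h'.mem
  conj s t t' e := by
    obtain ⟨c, hc⟩ := h'.mono.conj s
    have e1 := h'.conj s t _ (hc t).1
    rw [map_mul, mul_assoc, (hc t).1, ← mul_assoc, ← mul_assoc] at e
    have e2 := h.conj (π' s) _ t' (mul_right_cancel e)
    rw [mul_assoc, e1, ← mul_assoc, e2, mul_assoc]
    rfl

omit hO in
theorem Lifts.inv {hO : T.StOk} {g : T.datum.SteinbergGroup F} {π : Equiv.Perm (Fin T.n)}
    (h : Lifts hO g π) : Lifts hO g⁻¹ π⁻¹ where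
  mono := by rw [map_inv]; exact h.mono.inv
  mem := inv_mem h.mem
  conj s t t' e := by
    have hs : π (π⁻¹ s) = s := π.apply_symm_apply s
    have := h.conj (π⁻¹ s) t' t (by
      rw [map_inv, inv_mul_eq_iff_eq_mul, ← mul_assoc, eq_mul_inv_iff_mul_eq] at e
      rw [hs]; exact e.symm)
    rw [hs] at this
    rw [inv_mul_eq_iff_eq_mul, ← mul_assoc, eq_mul_inv_iff_mul_eq]
    exact this.symm

omit hO in
theorem Lifts.conj_gen {hO : T.StOk} {g : T.datum.SteinbergGroup F} {π : Equiv.Perm (Fin T.n)}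
    (h : Lifts hO g π) {P Q : ℕ → Prop} (hPQ : ∀ s : Fin T.n, P s.val → Q (π s).val)
    {x : T.datum.SteinbergGroup F} (hx : x ∈ T.sGen F P) : g * x * g⁻¹ ∈ T.sGen F Q := by
  induction hx using Subgroup.closure_induction with
  | mem x hx =>
    obtain ⟨r, hr, hP, t, rfl⟩ := hx
    obtain ⟨c, hc⟩ := h.mono.conj ⟨r, hr⟩
    rw [h.conj ⟨r, hr⟩ t _ (hc t).1, mul_inv_cancel_right]
    exact sX_mem_sGen (π _).2 (hPQ ⟨r, hr⟩ hP) _
  | one => simp
  | mul x y _ _ hx hy => simpa [mul_assoc] using mul_mem hx hy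
  | inv x _ hx => simpa [mul_assoc] using inv_mem hx

/-- Two elements of the unipotent group of a positive system with the same image are equal. -/
theorem eq_of_sys {n : GL T.I F} {π : Equiv.Perm (Fin T.n)} (hπ : π ∈ T.WP hO.valid)
    (hm : T.Mono n π) {x y : T.datum.SteinbergGroup F} {P : ℕ → Prop}
    (hP : ∀ r : Fin T.n, P r.val → T.half ≤ (π r).val) (hx : x ∈ T.sGen F P) (hy : y ∈ T.sGen F P)
    (h : hO.hom F x = hO.hom F y) : x = y := by
  refine mul_inv_eq_one.mp (stHom_inj_sys hO.valid hO.comm hO.sorted hπ hm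
    (sGen_mono (fun r hr hp => ⟨hr, hP ⟨r, hr⟩ hp⟩) (mul_mem hx (inv_mem hy))) ?_)
  rw [map_mul, map_inv, show stHom hO.valid hO.comm x = hO.hom F y from h]
  exact mul_inv_cancel _

theorem hom_sX {r : ℕ} (hr : r < T.n) (t : F) : hO.hom F (T.sX F r t) = T.xU F r t :=
  stHom_sX hO.valid hO.comm hr t

theorem hom_sN {r : ℕ} (hr : r < T.n) (t : F) : hO.hom F (T.sN F r t) = T.nU F r t :=
  stHom_sN hO.valid hO.comm hr t

theorem hom_sH {r : ℕ} (hr : r < T.n) (t : F) : hO.hom F (T.sH F r t) = T.hU F r t :=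
  stHom_sH hO.valid hO.comm hr t

theorem sN_neg {r : ℕ} (hr : r < T.n) (t : F) : T.sN F r (-t) = (T.sN F r t)⁻¹ := by
  rw [sN, sN, mul_inv_rev, mul_inv_rev, sX_inv hO.valid hr, sX_inv hO.valid (neg_lt' hr), mul_assoc,
    inv_neg, _root_.neg_neg]

theorem sH_eq {r : ℕ} (hr : r < T.n) (t : F) : T.sN F r t = T.sH F r t * T.sN F r 1 := by
  rw [sH, sN_neg hO hr (1 : F), inv_mul_cancel_right]

theorem mono_nU_simple_t (i : Fin T.rank) {t : F} (ht : t ≠ 0) :
    T.Mono (T.nU F (T.simple i) t) (T.refP hO.valid i) := by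
  have hp := simple_lt hO.valid i.2
  have e := nU_t hO.valid hp (Units.mk0 t ht)
  rw [Units.val_mk0] at e
  rw [e]
  simpa using (mono_dU hO.valid (isChar_hCh hO.valid (T.simple i) (Units.mk0 t ht))).mul
    (mono_nU_simple (F := F) hO.valid i)

omit hO in
theorem simple_pos' (hT : T.Valid) {i : ℕ} (hi : i < T.rank) : T.half ≤ T.simple i :=
  isPos_iff.mp (simple_pos hT hi)

/-- `Ū_p` is normalised by `X̄_{±p}`, for either sign. -/
theorem sX_simple_normalizer {i r : ℕ} (hi : i < T.rank)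
    (hr : r = T.simple i ∨ r = T.neg (T.simple i)) (t : F) :
    T.sX F r t ∈ Subgroup.normalizer
      (T.sGen F (fun s => T.half ≤ s ∧ s ≠ T.simple i) : Set (T.datum.SteinbergGroup F)) ∧
    T.sX F r t ∈ Subgroup.normalizer
      (T.sGen F (fun s => s < T.half ∧ s ≠ T.neg (T.simple i)) : Set (T.datum.SteinbergGroup F)) := by
  have hT := hO.valid
  have hp := simple_lt hT hi
  have hpp := simple_pos' hT hi
  have hrn : r < T.n := by rcases hr with rfl | rfl; exacts [hp, neg_lt' hp]
  have hr0 : ∀ k < T.rank, k ≠ i → T.co r k = 0 := by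
    intro k hk hki
    rcases hr with rfl | rfl
    · rw [co_simple hT hi hk, if_neg hki]
    · rw [co_neg hT hp hk, co_simple hT hi hk, if_neg hki, _root_.neg_zero]
  constructor
  · refine sX_mem_normalizer hT hrn (fun s hs ⟨hsp, hsne⟩ hsr => ⟨?_, fun c hc => ?_⟩) t
    · rcases hr with rfl | rfl
      · unfold neg n at *; omega
      · rw [neg_neg' hp]; exact hsne
    obtain ⟨k, hk, hki, hpos⟩ := ne_simple_neg hT hi hs hsp hsne
    obtain ⟨-, hj, hco⟩ := commT_co hT hrn hs c hc
    have hck : 0 < T.co c.1 k := by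
      rw [hco k hk, hr0 k hk hki, mul_zero, zero_add]
      exact mul_pos (by exact_mod_cast hj) hpos
    refine ⟨half_le_of_co hT (commT_lt hT hrn hs c hc) hk hck, fun e => ?_⟩
    rw [e, co_simple hT hi hk, if_neg hki] at hck
    exact lt_irrefl _ hck
  · refine sX_mem_normalizer hT hrn (fun s hs ⟨hsp, hsne⟩ hsr => ⟨?_, fun c hc => ?_⟩) t
    · rcases hr with rfl | rfl
      · exact hsne
      · rw [neg_neg' hp]
        intro e; rw [e] at hsp; omega
    have hns : T.neg s ≠ T.simple i := fun e => hsne (by rw [← e, neg_neg' hs])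
    obtain ⟨k, hk, hki, hpos⟩ := ne_simple_neg hT hi (neg_lt' hs) (le_negF (s := ⟨s, hs⟩) hsp) hns
    obtain ⟨-, hj, hco⟩ := commT_co hT hrn hs c hc
    have hcn := commT_lt hT hrn hs c hc
    have hck : 0 < T.co (T.neg c.1) k := by
      rw [co_neg hT hs hk] at hpos
      rw [co_neg hT hcn hk, hco k hk, hr0 k hk hki, mul_zero, zero_add, ← mul_neg]
      exact mul_pos (by exact_mod_cast hj) hpos
    have h1 : T.half ≤ T.neg c.1 := half_le_of_co hT (neg_lt' hcn) hk hck
    refine ⟨by unfold neg n at *; omega, fun e => ?_⟩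
    rw [e, neg_neg' hp, co_simple hT hi hk, if_neg hki] at hck
    exact lt_irrefl _ hck

/-- In the Chevalley group `x_p` splits off in a suitable positive system. -/
theorem exists_split (i : Fin T.rank) :
    ∃ k : Fin T.rank, k ≠ i ∧ T.half ≤ (T.refP hO.valid k (T.simpF hO.valid i)).val ∧
      ∀ v : F, T.xU F (T.simple i) v ∈ T.rootGen F (fun r => ∃ h : r < T.n,
        T.half ≤ (T.refP hO.valid k ⟨r, h⟩).val ∧ r ≠ T.simple i) := by
  have hT := hO.valid
  have h := allLt_iff.mp hO.split i i.2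
  simp only [List.any_eq_true, List.mem_range] at h
  obtain ⟨k, hk, h⟩ := h
  simp only [splitAt, Bool.and_eq_true, Bool.not_eq_true'] at h
  obtain ⟨⟨-, hki⟩, hm⟩ := h
  set a := T.simple i.val with ha
  set b := T.simple k with hb
  set u := T.refl k a with hu
  have hki' : (⟨k, hk⟩ : Fin T.rank) ≠ i := fun e => by
    have : k = i.val := congrArg Fin.val e
    simp [this] at hki
  have hab : (T.simpF hT ⟨k, hk⟩) ≠ T.simpF hT i := fun e => hki' (simpF_injective hT e)
  have han := simple_lt hT i.2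
  have hbn := simple_lt hT hk
  have hba : b ≠ a := fun e => hab (Fin.ext e)
  have hap := simple_pos' hT i.2
  have hbp := simple_pos' hT hk
  have hban : b ≠ T.neg a := by
    intro e
    have h1 : T.neg a < T.half := negF_lt (s := ⟨a, han⟩) hap
    rw [← e] at h1
    exact absurd hbp (not_le.mpr h1)
  have hupos : T.half ≤ (T.refP hT ⟨k, hk⟩ (T.simpF hT i)).val :=
    refP_pos hT (half_le_simpF hT i) (Ne.symm hab)
  refine ⟨⟨k, hk⟩, hki', hupos, fun v => ?_⟩
  cases hl : (T.commT a b).filter (fun c => Nat.beq c.1 u) with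
  | nil => rw [hl] at hm; simp at hm
  | cons c tl =>
    cases tl with
    | cons c' tl' => rw [hl] at hm; simp at hm
    | nil =>
      rw [hl] at hm
      simp only [Bool.and_eq_true, decide_eq_true_eq] at hm
      obtain ⟨hC1, hi1⟩ := hm
      have hmem : c ∈ (T.commT a b).filter (fun c => Nat.beq c.1 u) := by rw [hl]; simp
      rw [List.mem_filter] at hmem
      have hc1 : c.1 = u := Nat.eq_of_beq_eq_true hmem.2
      obtain ⟨hau, hbu⟩ := commT_gt hT han hbn hap hbp c hmem.1
      rw [hc1] at hau hbu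
      let D := T.rootGen F (fun r => T.half ≤ r ∧ r ≠ u)
      have hun : u < T.n := refl_lt hT hk han
      have key : ∀ w : F, T.xU F u w ∈ D := by
        intro w
        have hzz : (c.2.1 : F) * (c.2.1 : F) = 1 := by
          rcases Int.natAbs_eq_iff.mp hC1 with h' | h' <;> simp [h']
        set t' : F := -((c.2.1 : F) * w) with ht'
        have hA : ∀ z, T.xU F a z ∈ D := fun z =>
          xU_mem_rootGen (P := fun r => T.half ≤ r ∧ r ≠ u) han ⟨hap, hau.ne⟩ z
        have hB : ∀ z, T.xU F b z ∈ D := fun z =>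
          xU_mem_rootGen (P := fun r => T.half ≤ r ∧ r ≠ u) hbn ⟨hbp, hbu.ne⟩ z
        have e := comm_xU hT hO.comm han hbn hba hban t' (1 : F)
        have hprod : ((T.commT a b).map fun d =>
            T.xU F d.1 ((d.2.1 : F) * (-t') ^ d.2.2.1 * (1 : F) ^ d.2.2.2)).prod ∈ D := by
          refine (Subgroup.mul_mem_cancel_left D (mul_mem (hA t') (hB 1))).mp ?_
          rw [← e]
          exact mul_mem (hB 1) (hA t')
        have hd := list_prod_split (α := ℕ × ℤ × ℕ × ℕ) D
          (fun d : ℕ × ℤ × ℕ × ℕ => T.xU F d.1 ((d.2.1 : F) * (-t') ^ d.2.2.1 * (1 : F) ^ d.2.2.2))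
          (fun d : ℕ × ℤ × ℕ × ℕ => Nat.beq d.1 u) c (T.commT a b) hl
          (fun d hd hne => by
            refine xU_mem_rootGen (P := fun r => T.half ≤ r ∧ r ≠ u) (commT_lt hT han hbn d hd) ⟨?_, ?_⟩ _
            · exact le_of_lt (lt_of_le_of_lt hap (commT_gt hT han hbn hap hbp d hd).1)
            · intro e2; rw [e2] at hne; simp at hne) hprod
        rw [hc1, Nat.eq_of_beq_eq_true hi1, one_pow, mul_one, pow_one, ht', _root_.neg_neg,
          ← mul_assoc, hzz, one_mul] at hd
        exact hd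
      have hm := mono_nU_simple (F := F) hT (⟨k, hk⟩ : Fin T.rank)
      obtain ⟨d, hd⟩ := hm.inv.conj ⟨u, hun⟩
      have hinv : (T.refP hT ⟨k, hk⟩)⁻¹ ⟨u, hun⟩ = T.simpF hT i := by
        rw [refP_inv]; exact Fin.ext (refl_refl hT hk han)
      have h1 := conj_mem_rootGen hT hm.inv (Q := fun r => ∃ h : r < T.n,
          T.half ≤ (T.refP hT ⟨k, hk⟩ ⟨r, h⟩).val ∧ r ≠ a) (P := fun r => T.half ≤ r ∧ r ≠ u)
        (fun s ⟨hs, hne⟩ => ?_) (key (((d⁻¹ : Fˣ) : F) * v))
      · have h2 := (hd (((d⁻¹ : Fˣ) : F) * v)).1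
        rw [hinv, ← mul_assoc (d : F), ← Units.val_mul, mul_inv_cancel, Units.val_one, one_mul] at h2
        change (T.nU F (T.simple k) 1)⁻¹ * T.xU F u _ = T.xU F a v * _ at h2
        rw [h2, mul_inv_cancel_right] at h1
        exact h1
      · have e : T.refP hT ⟨k, hk⟩ ((T.refP hT ⟨k, hk⟩)⁻¹ s) = s :=
          (T.refP hT ⟨k, hk⟩).apply_symm_apply s
        refine ⟨((T.refP hT ⟨k, hk⟩)⁻¹ s).2, by rw [e]; exact hs, fun e2 => hne ?_⟩
        have : s = T.refP hT ⟨k, hk⟩ (T.simpF hT i) := by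
          rw [← e]; exact congrArg _ (Fin.ext e2)
        rw [this]; rfl

/-- The fundamental `n`'s lift. -/
theorem lifts_sN (i : Fin T.rank) {t₀ : F} (ht₀ : t₀ ≠ 0) :
    Lifts hO (T.sN F (T.simple i) t₀) (T.refP hO.valid i) := by
  have hT := hO.valid
  have hp := simple_lt hT i.2
  have hmem : T.refP hT i ∈ T.WP hT := Subgroup.subset_closure ⟨i, rfl⟩
  -- other roots
  have hother : ∀ t₀ : F, t₀ ≠ 0 → ∀ s : Fin T.n, s ≠ T.simpF hT i → s ≠ T.negF (T.simpF hT i) →
      ∀ t t' : F, T.nU F (T.simple i) t₀ * T.xU F s t =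
        T.xU F (T.refP hT i s) t' * T.nU F (T.simple i) t₀ →
      T.sN F (T.simple i) t₀ * T.sX F s t = T.sX F (T.refP hT i s) t' * T.sN F (T.simple i) t₀ := by
    intro t₀ ht₀ s hne hne' t t' e
    have hN : ∀ Q : ℕ → Prop, (∀ r z, r = T.simple i ∨ r = T.neg (T.simple i) →
        T.sX F r z ∈ Subgroup.normalizer (T.sGen F Q : Set (T.datum.SteinbergGroup F))) →
        T.sN F (T.simple i) t₀ ∈ Subgroup.normalizer (T.sGen F Q : Set (T.datum.SteinbergGroup F)) :=
      fun Q h => mul_mem (mul_mem (h _ _ (Or.inl rfl)) (h _ _ (Or.inr rfl))) (h _ _ (Or.inl rfl))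
    suffices H : T.sN F (T.simple i) t₀ * T.sX F s t * (T.sN F (T.simple i) t₀)⁻¹ =
        T.sX F (T.refP hT i s) t' by
      rw [← H, inv_mul_cancel_right]
    have himg : hO.hom F (T.sN F (T.simple i) t₀ * T.sX F s t * (T.sN F (T.simple i) t₀)⁻¹) =
        hO.hom F (T.sX F (T.refP hT i s) t') := by
      rw [map_mul, map_mul, map_inv, hom_sN hO hp, hom_sX hO s.2, hom_sX hO (T.refP hT i s).2, e,
        mul_inv_cancel_right]
    have hne2 : T.refP hT i s ≠ T.simpF hT i := fun h => hne' (by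
      apply (T.refP hT i).injective
      rw [h, WP_negF hT hmem, refP_simpF, negF_negF])
    rcases Nat.lt_or_ge s.val T.half with hs | hs
    · obtain ⟨n, hn, w, hm, hw⟩ := exists_longest (F := F) hT
      obtain ⟨w', hw', hm'⟩ := exists_mono hT hn
      obtain rfl := hm.unique hm'
      have hneg : ∀ r : Fin T.n, r.val < T.half → T.half ≤ (w r).val := by
        intro r hr
        have h1 := hw (T.negF r) (le_negF hr)
        rw [hm.negEq] at h1
        by_contra h2
        exact absurd h1 (not_lt.mpr (le_negF (not_le.mp h2)))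
      refine eq_of_sys hO hw' hm (P := fun r => r < T.half ∧ r ≠ T.neg (T.simple i))
        (fun r hr => hneg r hr.1) ?_ ?_ himg
      · refine (Subgroup.mem_normalizer_iff.mp (hN _ fun r z hr =>
          (sX_simple_normalizer hO i.2 hr z).2) _).mp ?_
        exact sX_mem_sGen (P := fun r => r < T.half ∧ r ≠ T.neg (T.simple i)) s.2
          ⟨hs, fun h => hne' (Fin.ext h)⟩ t
      · refine sX_mem_sGen (P := fun r => r < T.half ∧ r ≠ T.neg (T.simple i)) (T.refP hT i s).2
          ⟨?_, fun h => hne ?_⟩ t'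
        · have h1 := refP_pos hT (i := i) (le_negF hs) (fun h => hne' (by rw [← h, negF_negF]))
          rw [WP_negF hT hmem] at h1
          by_contra h2
          exact absurd h1 (not_le.mpr (negF_lt (not_lt.mp h2)))
        · apply (T.refP hT i).injective
          rw [refP_simpF]; exact Fin.ext h
    · refine eq_of_sys hO (one_mem _) Mono.one (P := fun r => T.half ≤ r ∧ r ≠ T.simple i)
        (fun r hr => hr.1) ?_ ?_ himg
      · refine (Subgroup.mem_normalizer_iff.mp (hN _ fun r z hr =>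
          (sX_simple_normalizer hO i.2 hr z).1) _).mp ?_
        exact sX_mem_sGen (P := fun r => T.half ≤ r ∧ r ≠ T.simple i) s.2
          ⟨hs, fun h => hne (Fin.ext h)⟩ t
      · exact sX_mem_sGen (P := fun r => T.half ≤ r ∧ r ≠ T.simple i) (T.refP hT i s).2
          ⟨refP_pos hT hs hne, fun h => hne2 (Fin.ext h)⟩ t'
  -- the root itself
  have hself : ∀ t₀ : F, t₀ ≠ 0 → ∀ v t' : F, T.nU F (T.simple i) t₀ * T.xU F (T.simple i) v =
        T.xU F (T.neg (T.simple i)) t' * T.nU F (T.simple i) t₀ →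
      T.sN F (T.simple i) t₀ * T.sX F (T.simple i) v =
        T.sX F (T.neg (T.simple i)) t' * T.sN F (T.simple i) t₀ := by
    intro t₀ ht₀ v t' e
    obtain ⟨k, hki, hpos, hsplit⟩ := exists_split (F := F) hO i
    let Q : ℕ → Prop := fun r =>
      ∃ h : r < T.n, T.half ≤ (T.refP hT k ⟨r, h⟩).val ∧ r ≠ T.simple i
    let P : ℕ → Prop := fun r => ∃ h : r < T.n, T.half ≤ (T.refP hT k ⟨r, h⟩).val
    let P' : ℕ → Prop := fun r => ∃ h : r < T.n, T.half ≤ ((T.refP hT k * T.refP hT i) ⟨r, h⟩).val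
    have hkmem : T.refP hT k ∈ T.WP hT := Subgroup.subset_closure ⟨k, rfl⟩
    obtain ⟨y, hy, hye⟩ : ∃ y ∈ T.sGen F Q, hO.hom F y = T.xU F (T.simple i) v := by
      have h := hsplit v
      rw [← stHom_sGen hT hO.comm] at h
      exact h
    have hyx : y = T.sX F (T.simple i) v := by
      refine eq_of_sys hO hkmem (mono_nU_simple (F := F) hT k) (P := P) (fun r ⟨_, h⟩ => h)
        (sGen_mono (fun r _ ⟨h, h', _⟩ => ⟨h, h'⟩) hy)
        (sX_mem_sGen (P := P) hp ⟨hp, hpos⟩ v) ?_
      rw [hye, hom_sX hO hp]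
    set N := T.sN F (T.simple i) t₀ with hN
    have hmN := mono_nU_simple_t hO i ht₀
    have hgen : ∀ z ∈ T.sGen F Q, N * z * N⁻¹ ∈ T.sGen F P' := by
      intro z hz
      induction hz using Subgroup.closure_induction with
      | mem x hx =>
        obtain ⟨r, hr, ⟨_, hrk, hra⟩, a, rfl⟩ := hx
        obtain ⟨c, hc⟩ := hmN.conj ⟨r, hr⟩
        have hne' : (⟨r, hr⟩ : Fin T.n) ≠ T.negF (T.simpF hT i) := fun h => by
          rw [h, WP_negF hT hkmem] at hrk
          exact absurd hrk (not_le.mpr (negF_lt hpos))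
        rw [hN, hother t₀ ht₀ ⟨r, hr⟩ (fun h => hra (congrArg Fin.val h)) hne' a _ (hc a).1,
          mul_inv_cancel_right]
        refine sX_mem_sGen (P := P') (T.refP hT i ⟨r, hr⟩).2 ⟨(T.refP hT i ⟨r, hr⟩).2, ?_⟩ _
        rw [Equiv.Perm.mul_apply, show T.refP hT i (T.refP hT i ⟨r, hr⟩) = ⟨r, hr⟩ from
          Fin.ext (refl_refl hT i.2 hr)]
        exact hrk
      | one => simp
      | mul x y _ _ hx hy => simpa [mul_assoc] using mul_mem hx hy
      | inv x _ hx => simpa [mul_assoc] using inv_mem hx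
    have h1 : N * T.sX F (T.simple i) v * N⁻¹ = T.sX F (T.neg (T.simple i)) t' := by
      refine eq_of_sys hO (mul_mem hkmem hmem)
        ((mono_nU_simple (F := F) hT k).mul (mono_nU_simple (F := F) hT i)) (P := P')
        (fun r ⟨_, h⟩ => h) ?_ ?_ ?_
      · have := hgen y hy
        rwa [hyx] at this
      · refine sX_mem_sGen (P := P') (neg_lt' hp) ⟨neg_lt' hp, ?_⟩ t'
        show T.half ≤ ((T.refP hT k * T.refP hT i) (T.negF (T.simpF hT i))).val
        rw [Equiv.Perm.mul_apply, WP_negF hT hmem, refP_simpF, negF_negF]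
        exact hpos
      · rw [map_mul, map_mul, map_inv, hN, hom_sN hO hp, hom_sX hO hp, hom_sX hO (neg_lt' hp), e,
          mul_inv_cancel_right]
    rw [← h1, inv_mul_cancel_right]
  refine ⟨?_, hmem, fun s t t' e => ?_⟩
  · rw [hom_sN hO hp]; exact mono_nU_simple_t hO i ht₀
  rw [hom_sN hO hp] at e
  by_cases h1 : s = T.simpF hT i
  · subst h1
    rw [refP_simpF] at e ⊢
    exact hself t₀ ht₀ t t' e
  by_cases h2 : s = T.negF (T.simpF hT i)
  · subst h2
    rw [WP_negF hT hmem, refP_simpF, negF_negF] at e ⊢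
    have hneg : T.nU F (T.simple i) (-t₀) = (T.nU F (T.simple i) t₀)⁻¹ := by
      rw [← hom_sN hO hp, sN_neg hO hp, map_inv, hom_sN hO hp]
    have h3 := hself (-t₀) (neg_ne_zero.mpr ht₀) t' t (by
      rw [hneg, inv_mul_eq_iff_eq_mul, ← mul_assoc, eq_mul_inv_iff_mul_eq]
      exact e.symm)
    rw [sN_neg hO hp, inv_mul_eq_iff_eq_mul, ← mul_assoc, eq_mul_inv_iff_mul_eq] at h3
    exact h3.symm
  exact hother t₀ ht₀ s h1 h2 t t' e

end CfsgLib.Chevalley.Tbl
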