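import Cfsg.Agent.Lib.Chevalley.Roots

/-!
The notions of `Cfsg.Lie.ChevalleyDatum` for the datum of a table.
-/

set_option autoImplicit false

namespace CfsgLib.Chevalley.Tbl

variable {T : Tbl} {F : Type*} [Field F]

theorem datum_nroots_div : T.datum.nroots / 2 = T.half := by
  show 2 * T.half / 2 = T.half
  omega

variable (hT : T.Valid)
include hT

theorem isPosRoot_iff {r : ℕ} : T.datum.IsPosRoot r ↔ r < T.n ∧ T.isPos r = true := by
  constructor
  · rintro ⟨hr, h⟩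
    refine ⟨hr, ?_⟩
    by_contra hp
    rw [Bool.not_eq_true] at hp
    obtain ⟨i, hi, j, hj, hg⟩ := cv_coprime hT hr
    have hz : ∀ k < T.rank, T.cv r k = 0 := by
      intro k hk
      refine le_antisymm (cv_nonpos hT hr hp hk) (h _ ?_)
      simp only [getD_map_range, if_pos (show r < T.n from hr)]
      exact List.mem_map.mpr ⟨k, List.mem_range.mpr hk, rfl⟩
    rw [hz i hi, hz j hj] at hg
    simp at hg
  · rintro ⟨hr, hp⟩
    refine ⟨hr, fun c hc => ?_⟩
    simp only [getD_map_range, if_pos hr] at hc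
    obtain ⟨k, hk, rfl⟩ := List.mem_map.mp hc
    exact cv_nonneg hT hr hp (List.mem_range.mp hk)

theorem isNegRoot_iff {r : ℕ} : T.datum.IsNegRoot r ↔ r < T.n ∧ T.isPos r = false := by
  constructor
  · rintro ⟨hr, h⟩
    refine ⟨hr, ?_⟩
    by_contra hp
    rw [Bool.not_eq_false] at hp
    obtain ⟨i, hi, j, hj, hg⟩ := cv_coprime hT hr
    have hz : ∀ k < T.rank, T.cv r k = 0 := by
      intro k hk
      refine le_antisymm (h _ ?_) (cv_nonneg hT hr hp hk)
      simp only [getD_map_range, if_pos (show r < T.n from hr)]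
      exact List.mem_map.mpr ⟨k, List.mem_range.mpr hk, rfl⟩
    rw [hz i hi, hz j hj] at hg
    simp at hg
  · rintro ⟨hr, hp⟩
    refine ⟨hr, fun c hc => ?_⟩
    simp only [getD_map_range, if_pos hr] at hc
    obtain ⟨k, hk, rfl⟩ := List.mem_map.mp hc
    exact cv_nonpos hT hr hp (List.mem_range.mp hk)

theorem nMat_eq {r : ℕ} (hr : r < T.n) (t : F) :
    T.datum.nMat F r t = ((T.nU F r t : GL T.I F) : Matrix T.I T.I F) := by
  have h : T.datum.nMat F r t =
      T.datum.x F r t * T.datum.x F (T.datum.neg r) (-t⁻¹) * T.datum.x F r t := by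
    simp [Cfsg.Lie.ChevalleyDatum.nMat, Cfsg.Lie.ChevalleyDatum.wordMat,
      Cfsg.Lie.ChevalleyDatum.nWord, mul_assoc]
  rw [h, datum_neg hr, x_eq_val hT hr, x_eq_val hT (neg_lt' hr)]
  rfl

theorem hMat_eq {r : ℕ} (hr : r < T.n) (t : F) :
    T.datum.hMat F r t = ((T.hU F r t : GL T.I F) : Matrix T.I T.I F) := by
  have h : T.datum.hMat F r t = T.datum.nMat F r t * T.datum.nMat F r (-1) := by
    simp [Cfsg.Lie.ChevalleyDatum.nMat, Cfsg.Lie.ChevalleyDatum.hMat,
      Cfsg.Lie.ChevalleyDatum.wordMat, Cfsg.Lie.ChevalleyDatum.hWord]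
  rw [h, nMat_eq hT hr, nMat_eq hT hr]
  rfl

theorem group_eq :
    T.datum.group F = Subgroup.closure {g : GL T.I F | ∃ r < T.n, ∃ t, g = T.xU F r t} := by
  unfold Cfsg.Lie.ChevalleyDatum.group
  congr 1
  ext g
  constructor
  · rintro ⟨r, t, h⟩
    refine ⟨r.val, r.2, t, Units.ext ?_⟩
    rw [xU_val hT r.2]
    exact h.trans (xMat_eq hT F r t)
  · rintro ⟨r, hr, t, rfl⟩
    exact ⟨⟨r, hr⟩, t, by rw [xU_val hT hr]; exact (xMat_eq hT F ⟨r, hr⟩ t).symm⟩

theorem rootSubgroup_eq {r : ℕ} (hr : r < T.n) :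
    T.datum.rootSubgroup F r = Subgroup.closure (Set.range fun t : F => T.xU F r t) := by
  unfold Cfsg.Lie.ChevalleyDatum.rootSubgroup
  congr 1
  ext g
  constructor
  · rintro ⟨t, h⟩; exact ⟨t, ((eq_x_iff hT hr t g).mp h).symm⟩
  · rintro ⟨t, rfl⟩; exact ⟨t, (eq_x_iff hT hr t _).mpr rfl⟩

theorem mem_rootSubgroup_iff {r : ℕ} (hr : r < T.n) {g : GL T.I F} :
    g ∈ T.datum.rootSubgroup F r ↔ ∃ t, g = T.xU F r t := by
  rw [rootSubgroup_eq hT hr]
  refine ⟨fun hg => ?_, fun ⟨t, ht⟩ => ht ▸ Subgroup.subset_closure ⟨t, rfl⟩⟩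
  induction hg using Subgroup.closure_induction with
  | mem x hx => obtain ⟨t, rfl⟩ := hx; exact ⟨t, rfl⟩
  | one => exact ⟨0, (xU_zero hT hr).symm⟩
  | mul x y _ _ hx hy =>
    obtain ⟨a, rfl⟩ := hx; obtain ⟨b, rfl⟩ := hy
    exact ⟨a + b, xU_add hT hr a b⟩
  | inv x _ hx => obtain ⟨a, rfl⟩ := hx; exact ⟨-a, xU_inv hT hr a⟩

theorem posUnipotent_eq :
    T.datum.posUnipotent F =
      Subgroup.closure {g : GL T.I F | ∃ r < T.n, T.isPos r = true ∧ ∃ t, g = T.xU F r t} := by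
  unfold Cfsg.Lie.ChevalleyDatum.posUnipotent
  congr 1
  ext g
  constructor
  · rintro ⟨r, t, hr, h⟩
    obtain ⟨hr1, hr2⟩ := (isPosRoot_iff hT).mp hr
    exact ⟨r, hr1, hr2, t, (eq_x_iff hT hr1 t g).mp h⟩
  · rintro ⟨r, hr1, hr2, t, rfl⟩
    exact ⟨r, t, (isPosRoot_iff hT).mpr ⟨hr1, hr2⟩, (eq_x_iff hT hr1 t _).mpr rfl⟩

theorem negUnipotent_eq :
    T.datum.negUnipotent F =
      Subgroup.closure {g : GL T.I F | ∃ r < T.n, T.isPos r = false ∧ ∃ t, g = T.xU F r t} := by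
  unfold Cfsg.Lie.ChevalleyDatum.negUnipotent
  congr 1
  ext g
  constructor
  · rintro ⟨r, t, hr, h⟩
    obtain ⟨hr1, hr2⟩ := (isNegRoot_iff hT).mp hr
    exact ⟨r, hr1, hr2, t, (eq_x_iff hT hr1 t g).mp h⟩
  · rintro ⟨r, hr1, hr2, t, rfl⟩
    exact ⟨r, t, (isNegRoot_iff hT).mpr ⟨hr1, hr2⟩, (eq_x_iff hT hr1 t _).mpr rfl⟩

theorem diagonalSubgroup_eq :
    T.datum.diagonalSubgroup F =
      Subgroup.closure {g : GL T.I F | ∃ r < T.n, ∃ c : Fˣ, g = T.dU (T.hCh r c)} := by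
  unfold Cfsg.Lie.ChevalleyDatum.diagonalSubgroup
  congr 1
  ext g
  constructor
  · rintro ⟨r, t, hr, ht, h⟩
    refine ⟨r, hr, Units.mk0 t ht, Units.ext ?_⟩
    rw [← hU_eq hT hr (Units.mk0 t ht)]
    exact h.trans (hMat_eq hT hr t)
  · rintro ⟨r, hr, c, rfl⟩
    exact ⟨r, (c : F), hr, c.ne_zero, by rw [← hU_eq hT hr c]; exact (hMat_eq hT hr _).symm⟩

theorem monomialSubgroup_eq :
    T.datum.monomialSubgroup F = T.datum.diagonalSubgroup F ⊔
      Subgroup.closure {g : GL T.I F | ∃ r < T.n, g = T.nU F r 1} := by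
  unfold Cfsg.Lie.ChevalleyDatum.monomialSubgroup
  congr 2
  ext g
  constructor
  · rintro ⟨r, hr, h⟩; exact ⟨r, hr, Units.ext (h.trans (nMat_eq hT hr 1))⟩
  · rintro ⟨r, hr, rfl⟩; exact ⟨r, hr, (nMat_eq hT hr 1).symm⟩

theorem eq_nMat_simple_iff {i : ℕ} (hi : i < T.rank) (g : GL T.I F) :
    (g : Matrix T.I T.I F) = T.datum.nMat F (T.datum.simple i) 1 ↔ g = T.nU F (T.simple i) 1 := by
  rw [datum_simple hi, nMat_eq hT (simple_lt hT hi)]
  exact Units.val_inj

omit hT in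
theorem chainList_length (r s : ℕ) : (T.chainList r s).length ≤ 3 :=
  (List.length_filterMap_le _ _).trans (by simp)

theorem chainEntry_eq {r s : ℕ} (hr : r < T.n) (hs : s < T.n) :
    T.datum.chainEntry r s = T.chainList r s := by
  unfold Cfsg.Lie.ChevalleyDatum.chainEntry
  rw [datum_chain hr, List.toList_toArray, ← List.head?_filter]
  rw [chainRowL_filter hs]
  split_ifs with h
  · rw [chainList_eq_nil h]; rfl
  · rfl

theorem chain_none_high {r s k : ℕ} (hr : r < T.n) (hs : s < T.n) (hk : 4 ≤ k) :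
    T.chain r s k = none := by
  cases h : T.chain r s k with
  | none => rfl
  | some p => obtain ⟨-, -, h3, -⟩ := chain_step hT hr hs (by omega) h; omega

theorem chainRoot_eq {r s k : ℕ} (hr : r < T.n) (hs : s < T.n) (hk : 1 ≤ k) :
    T.datum.chainRoot r s k = (T.chain r s k).map Prod.fst := by
  unfold Cfsg.Lie.ChevalleyDatum.chainRoot
  rw [chainEntry_eq hT hr hs]
  congr 1
  rcases h1 : T.chain r s 1 with _ | p1
  · have : ∀ j, T.chain r s (j + 1) = none := by
      intro j; induction j with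
      | zero => exact h1
      | succ j ih => exact chain_none_mono ih
    obtain ⟨j, rfl⟩ : ∃ j, k = j + 1 := ⟨k - 1, by omega⟩
    simp [chainList, this 0, this 1, this 2, this j]
  rcases h2 : T.chain r s 2 with _ | p2
  · have h3 := chain_none_mono h2
    rcases (by omega : k = 1 ∨ k = 2 ∨ k = 3 ∨ 4 ≤ k) with rfl | rfl | rfl | hk4
    iterate 3 simp [chainList, h1, h2, h3]
    rw [chain_none_high hT hr hs hk4]; simp [chainList, h1, h2, h3]; omega
  rcases h3 : T.chain r s 3 with _ | p3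
  · rcases (by omega : k = 1 ∨ k = 2 ∨ k = 3 ∨ 4 ≤ k) with rfl | rfl | rfl | hk4
    iterate 3 simp [chainList, h1, h2, h3]
    rw [chain_none_high hT hr hs hk4]; simp [chainList, h1, h2, h3]; omega
  · rcases (by omega : k = 1 ∨ k = 2 ∨ k = 3 ∨ 4 ≤ k) with rfl | rfl | rfl | hk4
    iterate 3 simp [chainList, h1, h2, h3]
    rw [chain_none_high hT hr hs hk4]; simp [chainList, h1, h2, h3]; omega

theorem reflectRoot_eq {i s : ℕ} (hi : i < T.rank) (hs : s < T.n) :
    T.datum.reflectRoot i s = T.refl i s := by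
  have hp := simple_lt hT hi
  unfold Cfsg.Lie.ChevalleyDatum.reflectRoot
  simp only [datum_simple hi, datum_cartan hi hs, datum_neg hp, refl]
  by_cases h1 : s = T.simple i
  · simp [h1]
  have b1 : Nat.beq s (T.simple i) = false := by
    rw [Bool.eq_false_iff]; exact fun e => h1 (Nat.eq_of_beq_eq_true e)
  simp only [b1, cond_false, if_neg h1]
  by_cases h2 : s = T.neg (T.simple i)
  · simp [h2]
  have b2 : Nat.beq s (T.neg (T.simple i)) = false := by
    rw [Bool.eq_false_iff]; exact fun e => h2 (Nat.eq_of_beq_eq_true e)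
  simp only [b2, cond_false, if_neg h2]
  split_ifs with h3 h4
  · rw [chainRoot_eq hT (neg_lt' hp) hs (by omega)]
  · rw [chainRoot_eq hT hp hs (by omega)]
  · rfl

end CfsgLib.Chevalley.Tbl
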