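import Cfsg.Agent.Lib.Chevalley.CoxeterTorus.Main

/-!
The part of the centraliser of a torus element for a prime not dividing the stabiliser in the Weyl group.
-/

set_option autoImplicit false

namespace CfsgLib.Chevalley.ToralCentralizer

open Tbl
open CfsgLib.Chevalley.CoxeterTorus

variable {T : Tbl} (hT : T.Valid) (hC : T.chkComm = true) {K : Type*} [Field K]

/-- The stabiliser of the values of a torus parameter. -/
def fixW (hT : T.Valid) (f : Fin T.rank → Kˣ) : Subgroup (Equiv.Perm (Fin T.n)) where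
  carrier := {w | w ∈ T.WP hT ∧ ∀ s : Fin T.n, tCh T f (w s).val = tCh T f s.val}
  one_mem' := ⟨one_mem _, fun _ => rfl⟩
  mul_mem' := fun {x y} hx hy => ⟨mul_mem hx.1 hy.1, fun t => by
    rw [Equiv.Perm.mul_apply, hx.2, hy.2]⟩
  inv_mem' := fun {x} hx => ⟨inv_mem hx.1, fun t => by
    rw [← hx.2 (x⁻¹ t), ← Equiv.Perm.mul_apply, mul_inv_cancel, Equiv.Perm.one_apply]⟩

/-- The centraliser of a torus element in the group of root elements named by `P`. -/
def rootCent (T : Tbl) (f : Fin T.rank → Kˣ) (P : ℕ → Prop) : Subgroup (GL T.I K) :=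
  T.rootGen K P ⊓ Subgroup.centralizer {torusHom T K f}

include hT

theorem torus_diag (g : Fin T.rank → Kˣ) : torusHom T K g ∈ T.datum.diagonalSubgroup K := by
  rw [← torusHom_range hT]; exact ⟨g, rfl⟩

theorem torus_normal (P : ℕ → Prop) (f g : Fin T.rank → Kˣ) {u : GL T.I K} (hu : u ∈ rootCent T f P) :
    torusHom T K g * u * (torusHom T K g)⁻¹ ∈ rootCent T f P := by
  refine ⟨(Subgroup.mem_normalizer_iff.mp (diag_le_normalizer hT P (torus_diag hT g)) u).mp hu.1, ?_⟩
  have h1 := Subgroup.mem_centralizer_singleton_iff.1 hu.2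
  refine Subgroup.mem_centralizer_singleton_iff.2 ?_
  have e : torusHom T K g * torusHom T K f = torusHom T K f * torusHom T K g := by
    rw [← map_mul, ← map_mul, mul_comm]
  calc torusHom T K g * u * (torusHom T K g)⁻¹ * torusHom T K f
      = torusHom T K g * u * ((torusHom T K g)⁻¹ * torusHom T K f * torusHom T K g) * (torusHom T K g)⁻¹ := by group
    _ = torusHom T K g * (u * torusHom T K f) * (torusHom T K g)⁻¹ := by
        rw [mul_assoc (torusHom T K g)⁻¹, ← e, inv_mul_cancel_left]; group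
    _ = torusHom T K g * torusHom T K f * u * (torusHom T K g)⁻¹ := by rw [h1]; group
    _ = _ := by rw [e]; group

include hC

/-- Unipotent centralisers have order one modulo `ℓ`. -/
theorem card_modEq_one [Fintype K] {ℓ : ℕ} [hℓ : Fact ℓ.Prime] (hℓK : ℓ ∣ Fintype.card K - 1)
    (hinj : Function.Injective (torusHom T K))
    (hco : ∀ s : Fin T.n, ∃ j : Fin T.rank, (T.co s.val j.val : ZMod ℓ) ≠ 0)
    (f : Fin T.rank → Kˣ) {P : ℕ → Prop} (hP : ∀ r, P r → T.half ≤ r) :
    Nat.card (rootCent T f P) ≡ 1 [MOD ℓ] := by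
  classical
  obtain ⟨ζ, hζ⟩ := exists_prime_orderOf_dvd_card' (G := Kˣ) ℓ (by
    rw [Nat.card_units, Nat.card_eq_fintype_card]; exact hℓK)
  let E : Subgroup (Fin T.rank → Kˣ) := (powMonoidHom ℓ).ker
  have hE : IsPGroup ℓ E := fun g => ⟨1, Subtype.ext (by rw [pow_one, SubgroupClass.coe_pow]; exact g.2)⟩
  let act : MulAction E (rootCent T f P) :=
    { smul := fun g u => ⟨torusHom T K g.1 * u.1 * (torusHom T K g.1)⁻¹, torus_normal hT P f g.1 u.2⟩
      one_smul := fun u => Subtype.ext (by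
        show torusHom T K 1 * u.1 * (torusHom T K 1)⁻¹ = u.1
        simp)
      mul_smul := fun a b u => Subtype.ext (by
        show torusHom T K (a.1 * b.1) * u.1 * (torusHom T K (a.1 * b.1))⁻¹ =
          torusHom T K a.1 * (torusHom T K b.1 * u.1 * (torusHom T K b.1)⁻¹) * (torusHom T K a.1)⁻¹
        rw [map_mul, mul_inv_rev]
        group) }
  refine (hE.card_modEq_card_fixedPoints (rootCent T f P)).trans ?_
  suffices h : MulAction.fixedPoints E (rootCent T f P) = {1} by
    rw [h, Nat.card_eq_fintype_card, Fintype.card_unique]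
  refine Set.eq_singleton_iff_unique_mem.2 ⟨fun g => Subtype.ext (by
    show torusHom T K g.1 * 1 * (torusHom T K g.1)⁻¹ = 1
    simp), fun u hu => Subtype.ext ?_⟩
  have h2n : T.half + T.half = T.n := (Nat.two_mul _).symm
  obtain ⟨a, ha⟩ := exists_uProd hT hC T.half T.half h2n le_rfl u.1
    (rootGen_mono (fun r _ h => hP r h) u.2.1)
  have h0 : ∀ g : E, ∀ r, T.half ≤ r → r < T.n → (tCh T g.1 r : K) * a r = a r := by
    intro g r hr hrn
    refine uProd_inj hT hC T.half T.half h2n le_rfl (fun r => (tCh T g.1 r : K) * a r) a ?_ r hr hrn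
    have e1 : MulAut.conj (torusHom T K g.1) (T.uProd a T.half T.half) =
        T.uProd (fun r => (tCh T g.1 r : K) * a r) T.half T.half := by
      simp only [uProd, map_list_prod, List.map_map]
      refine congrArg List.prod (List.map_congr_left fun r hr => ?_)
      simp only [List.mem_range'_1] at hr
      show torusHom T K g.1 * T.xU K r (a r) * (torusHom T K g.1)⁻¹ = _
      rw [torus_xU hT g.1 ⟨r, by omega⟩, mul_inv_cancel_right]
    rw [← e1, MulAut.conj_apply, ← ha]
    exact congrArg Subtype.val (hu g)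
  rw [ha, Subgroup.coe_one]
  unfold Tbl.uProd
  refine List.prod_eq_one fun x hx => ?_
  obtain ⟨r, hr, rfl⟩ := List.mem_map.1 hx
  simp only [List.mem_range'_1] at hr
  have hrn : r < T.n := by omega
  obtain ⟨j, hj⟩ := hco ⟨r, hrn⟩
  obtain ⟨g, hg⟩ := powMat_surjective hT hinj (Pi.mulSingle j ζ)
  have hch : ∀ s : Fin T.n, tCh T g s.val = ζ ^ T.co s.val j.val := fun s => by
    rw [tCh_linear hT, Finset.prod_eq_single j]
    · rw [hg, Pi.mulSingle_eq_same]
    · intro i _ hi
      rw [hg, Pi.mulSingle_eq_of_ne hi, _root_.one_zpow]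
    · simp
  have hgE : g ∈ E := by
    refine hinj (torus_congr hT fun s => ?_)
    rw [powMonoidHom_apply, tCh_pow, hch, ← zpow_natCast (ζ ^ _) ℓ, ← _root_.zpow_mul, mul_comm,
      _root_.zpow_mul, zpow_natCast, ← hζ, pow_orderOf_eq_one, _root_.one_zpow]
    simp [tCh]
  by_cases har : a r = 0
  · rw [har, xU_zero hT hrn]
  · exfalso
    have h1 : tCh T g r = 1 :=
      Units.ext (mul_right_cancel₀ har (by rw [Units.val_one, one_mul]; exact h0 ⟨g, hgE⟩ r hr.1 hrn))
    rw [show tCh T g r = ζ ^ T.co r j.val from hch ⟨r, hrn⟩, ← orderOf_dvd_iff_zpow_eq_one, hζ] at h1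
    exact hj ((ZMod.intCast_zmod_eq_zero_iff_dvd _ _).2 h1)

/-- The order of the centraliser of a torus element, over the stabiliser in the Weyl group. -/
theorem card_centralizer [Fintype K] (f : Fin T.rank → Kˣ) [Fintype ↥(fixW (K := K) hT f)] :
    Nat.card ↥(T.datum.group K ⊓ Subgroup.centralizer {torusHom T K f}) =
      Nat.card (rootCent T f fun r => T.half ≤ r) * Nat.card (T.datum.diagonalSubgroup K) *
        ∑ w : ↥(fixW (K := K) hT f), Nat.card (rootCent T f (T.negSet (w : Equiv.Perm (Fin T.n)))) := by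
  classical
  set t := torusHom T K f with ht
  have htd : t ∈ T.datum.diagonalSubgroup K := torus_diag hT f
  let S := fixW (K := K) hT f
  let rep : S → ↥(T.datum.monomialSubgroup K) := fun w => (wHom_surjective hT ⟨w.1, w.2.1⟩).choose
  have hrep : ∀ w : S, T.Mono (rep w : GL T.I K) (w : Equiv.Perm (Fin T.n)) := fun w => by
    have := mono_wHom hT (rep w)
    rwa [show wHom K hT (rep w) = ⟨w.1, w.2.1⟩ from (wHom_surjective hT ⟨w.1, w.2.1⟩).choose_spec] at this
  have hrepc : ∀ w : S, (rep w : GL T.I K) * t = t * (rep w : GL T.I K) := fun w =>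
    (mono_rel hT (rep w).2 (hrep w) f f).2 w.2.2
  let Up := rootCent T f (fun r => T.half ≤ r)
  let V : S → Subgroup (GL T.I K) := fun w => rootCent T f (T.negSet (w : Equiv.Perm (Fin T.n)))
  have hUB : ∀ {P : ℕ → Prop}, (∀ r, P r → T.half ≤ r) → ∀ {x : GL T.I K}, x ∈ T.rootGen K P →
      x ∈ T.datum.borelSubgroup K := fun {P} hP {x} hx =>
    (rootGen_le fun r hr h t => pos_le_borel hT hr (hP r h) t :
      T.rootGen K P ≤ T.datum.borelSubgroup K) hx
  have hdc : ∀ d ∈ T.datum.diagonalSubgroup K, d * t = t * d := fun d hd => by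
    rw [← torusHom_range hT] at hd
    obtain ⟨g, rfl⟩ := hd
    rw [ht, ← map_mul, ← map_mul, mul_comm]
  let Φ : (Σ w : S, (Up × T.datum.diagonalSubgroup K) × V w) →
      ↥(T.datum.group K ⊓ Subgroup.centralizer {t}) := fun x =>
    ⟨(x.2.1.1 : GL T.I K) * (x.2.1.2 : GL T.I K) * (rep x.1 : GL T.I K) * (x.2.2 : GL T.I K), by
      refine ⟨mul_mem (mul_mem (mul_mem (borel_le_group hT (hUB (fun r h => h) x.2.1.1.2.1))
        (diag_le_group hT x.2.1.2.2)) (monomial_le_group hT (rep x.1).2))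
        (borel_le_group hT (hUB (fun r h => h.2.1) x.2.2.2.1)), ?_⟩
      exact mul_mem (mul_mem (mul_mem x.2.1.1.2.2 (Subgroup.mem_centralizer_singleton_iff.2 (hdc _ x.2.1.2.2)))
        (Subgroup.mem_centralizer_singleton_iff.2 (hrepc x.1))) x.2.2.2.2⟩
  have hbU : ∀ (u : Up) (d : T.datum.diagonalSubgroup K),
      (u : GL T.I K) * (d : GL T.I K) ∈ T.datum.borelSubgroup K := fun u d =>
    mul_mem (hUB (fun r h => h) u.2.1) (Subgroup.mem_sup_right d.2)
  have hΦ : Function.Bijective Φ := by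
    refine ⟨?_, fun g => ?_⟩
    · rintro ⟨w, ⟨u1, d⟩, u⟩ ⟨w', ⟨u1', d'⟩, u'⟩ h
      have h' : (u1 : GL T.I K) * d * (rep w : GL T.I K) * u = (u1' : GL T.I K) * d' * (rep w' : GL T.I K) * u' :=
        congrArg Subtype.val h
      have hw : w = w' := by
        have h1 := (canonical_unique hT hC (hbU u1 d) (hbU u1' d') (rep w).2 (rep w').2 (hrep w)
          u.2.1 u'.2.1 h').1
        have h3 := ((hrep w).inv.mul (hrep w')).unique (mono_diag hT h1)
        rw [inv_mul_eq_one] at h3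
        exact Subtype.ext h3
      subst hw
      obtain ⟨e1, e2⟩ := (canonical_unique hT hC (hbU u1 d) (hbU u1' d') (rep w).2 (rep w).2 (hrep w)
        u.2.1 u'.2.1 h').2 (hrep w) rfl
      have e3 : (u1' : GL T.I K)⁻¹ * u1 ∈ (⊥ : Subgroup (GL T.I K)) := by
        rw [← pos_inf_diag (T := T) (F := K) hT, posUnipotent_rootGen hT]
        refine Subgroup.mem_inf.mpr ⟨mul_mem (inv_mem u1'.2.1) u1.2.1, ?_⟩
        have e : (u1' : GL T.I K)⁻¹ * u1 = d' * (d : GL T.I K)⁻¹ := by
          rw [inv_mul_eq_iff_eq_mul, ← mul_assoc, ← e1, mul_inv_cancel_right]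
        rw [e]
        exact mul_mem d'.2 (inv_mem d.2)
      rw [Subgroup.mem_bot, inv_mul_eq_one] at e3
      rw [← e3, mul_left_cancel_iff] at e1
      cases Subtype.ext (p := fun x => x ∈ Up) e3
      cases Subtype.ext (p := fun x => x ∈ T.datum.diagonalSubgroup K) e1
      cases Subtype.ext (p := fun x => x ∈ V w) e2
      rfl
    · obtain ⟨hgG, hgc⟩ := g.2
      obtain ⟨b, hb, n, hn, w, hw, hm, u, hu, he⟩ := exists_canonical hT hC hgG
      obtain ⟨u1, hu1, h1, hh1, rfl⟩ := (mem_borel_iff hT).mp hb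
      have hu1U : u1 ∈ T.rootGen K (fun r => T.half ≤ r) := by rwa [← posUnipotent_rootGen hT]
      have hgt : t * (g : GL T.I K) * t⁻¹ = g := by
        rw [← Subgroup.mem_centralizer_singleton_iff.1 hgc, mul_inv_cancel_right]
      have hv1 : t * u1 * t⁻¹ ∈ T.rootGen K (fun r => T.half ≤ r) :=
        (Subgroup.mem_normalizer_iff.mp (diag_le_normalizer hT _ htd) u1).mp hu1U
      have hv : t * u * t⁻¹ ∈ T.rootGen K (T.negSet w) :=
        (Subgroup.mem_normalizer_iff.mp (diag_le_normalizer hT _ htd) u).mp hu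
      have hd : h1 * t * (n * t * n⁻¹)⁻¹ ∈ T.datum.diagonalSubgroup K :=
        mul_mem (mul_mem hh1 htd) (inv_mem (conj_diag hT hn htd))
      have he' : u1 * h1 * n * u = t * u1 * t⁻¹ * (h1 * t * (n * t * n⁻¹)⁻¹) * n * (t * u * t⁻¹) := by
        calc u1 * h1 * n * u = t * (u1 * h1 * n * u) * t⁻¹ := by rw [← he, hgt]
          _ = t * u1 * (t⁻¹ * (t * h1)) * n * u * t⁻¹ := by group
          _ = t * u1 * (t⁻¹ * (h1 * t)) * n * u * t⁻¹ := by rw [hdc h1 hh1]
          _ = _ := by group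
      obtain ⟨eb, eu⟩ := (canonical_unique hT hC (mul_mem (hUB (fun r h => h) hu1U) (Subgroup.mem_sup_right hh1))
        (mul_mem (hUB (fun r h => h) hv1) (Subgroup.mem_sup_right hd)) hn hn hm hu hv he').2 hm rfl
      have h3 : (t * u1 * t⁻¹)⁻¹ * u1 ∈ (⊥ : Subgroup (GL T.I K)) := by
        rw [← pos_inf_diag (T := T) (F := K) hT, posUnipotent_rootGen hT]
        refine Subgroup.mem_inf.mpr ⟨mul_mem (inv_mem hv1) hu1U, ?_⟩
        have e : (t * u1 * t⁻¹)⁻¹ * u1 = h1 * t * (n * t * n⁻¹)⁻¹ * h1⁻¹ := by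
          rw [inv_mul_eq_iff_eq_mul, ← mul_assoc, ← eb, mul_inv_cancel_right]
        rw [e]
        exact mul_mem hd (inv_mem hh1)
      rw [Subgroup.mem_bot, inv_mul_eq_one] at h3
      rw [h3, mul_left_cancel_iff, mul_assoc, left_eq_mul, mul_inv_eq_one] at eb
      have hnt : n * t = t * n := by
        calc n * t = n * t * n⁻¹ * n := by group
          _ = t * n := by rw [← eb]
      have hwS : w ∈ S := ⟨hw, (mono_rel hT hn hm f f).1 hnt⟩
      have hdd : n * (rep ⟨w, hwS⟩ : GL T.I K)⁻¹ ∈ T.datum.diagonalSubgroup K := by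
        refine mem_diag_of_mono_one hT (mul_mem hn (inv_mem (rep _).2)) ?_
        have := hm.mul (hrep ⟨w, hwS⟩).inv
        rwa [mul_inv_cancel] at this
      refine ⟨⟨⟨w, hwS⟩, (⟨u1, hu1U, Subgroup.mem_centralizer_singleton_iff.2 ?_⟩,
        ⟨h1 * (n * (rep ⟨w, hwS⟩ : GL T.I K)⁻¹), mul_mem hh1 hdd⟩),
        ⟨u, hu, Subgroup.mem_centralizer_singleton_iff.2 ?_⟩⟩, Subtype.ext ?_⟩
      · conv_lhs => rw [← h3]
        rw [inv_mul_cancel_right]
      · conv_lhs => rw [eu]
        rw [inv_mul_cancel_right]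
      · show u1 * (h1 * (n * (rep ⟨w, hwS⟩ : GL T.I K)⁻¹)) * _ * u = (g : GL T.I K)
        rw [he]
        group
  rw [← Nat.card_eq_of_bijective Φ hΦ, Nat.card_sigma]
  simp only [Nat.card_prod]
  rw [← Finset.mul_sum]

/-- The centraliser of a torus element has the `ℓ`-part of the torus. -/
theorem factorization_centralizer [Fintype K] {ℓ : ℕ} [hℓ : Fact ℓ.Prime] (hℓK : ℓ ∣ Fintype.card K - 1)
    (hinj : Function.Injective (torusHom T K))
    (hco : ∀ s : Fin T.n, ∃ j : Fin T.rank, (T.co s.val j.val : ZMod ℓ) ≠ 0)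
    (f : Fin T.rank → Kˣ) (hS : ¬ ℓ ∣ Nat.card (fixW hT f)) :
    (Nat.card ↥(T.datum.group K ⊓ Subgroup.centralizer {torusHom T K f})).factorization ℓ =
      (Nat.card (T.datum.diagonalSubgroup K)).factorization ℓ := by
  classical
  let S := fixW (K := K) hT f
  let _ : Fintype S := Fintype.ofFinite S
  let Up := rootCent T f (fun r => T.half ≤ r)
  let V : S → Subgroup (GL T.I K) := fun w => rootCent T f (T.negSet (w : Equiv.Perm (Fin T.n)))
  have hcard : _ = Nat.card Up * Nat.card (T.datum.diagonalSubgroup K) * ∑ w : S, Nat.card (V w) :=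
    card_centralizer hT hC f
  have hℓ1 : ∀ {n : ℕ}, n ≡ 1 [MOD ℓ] → ¬ ℓ ∣ n := fun h hd => hℓ.out.one_lt.ne'
    (Nat.dvd_one.1 ((Nat.modEq_zero_iff_dvd.1 ((h.symm).trans (Nat.modEq_zero_iff_dvd.2 hd)))))
  have hU : ¬ ℓ ∣ Nat.card Up := hℓ1 (card_modEq_one hT hC hℓK hinj hco f fun r h => h)
  have hsum : ¬ ℓ ∣ ∑ w : S, Nat.card (V w) := by
    intro h
    refine hS ?_
    have h1 : ∑ w : S, Nat.card (V w) ≡ ∑ _w : S, 1 [MOD ℓ] := by
      rw [← ZMod.natCast_eq_natCast_iff, Nat.cast_sum, Nat.cast_sum]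
      exact Finset.sum_congr rfl fun w _ => (ZMod.natCast_eq_natCast_iff _ _ _).2
        (card_modEq_one hT hC hℓK hinj hco f fun r h => h.2.1)
    rw [Finset.sum_const, smul_eq_mul, mul_one, Finset.card_univ, ← Nat.card_eq_fintype_card] at h1
    exact Nat.modEq_zero_iff_dvd.1 (h1.symm.trans (Nat.modEq_zero_iff_dvd.2 h))
  have hD0 : Nat.card (T.datum.diagonalSubgroup K) ≠ 0 := Nat.card_pos.ne'
  have hU0 : Nat.card Up ≠ 0 := fun h => hU (h ▸ dvd_zero ℓ)
  rw [hcard, Nat.factorization_mul (Nat.mul_ne_zero hU0 hD0) (fun h => hsum (by rw [h]; exact dvd_zero ℓ)),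
    Nat.factorization_mul hU0 hD0, Finsupp.add_apply, Finsupp.add_apply,
    Nat.factorization_eq_zero_of_not_dvd hU, Nat.factorization_eq_zero_of_not_dvd hsum, zero_add, add_zero]

end CfsgLib.Chevalley.ToralCentralizer
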