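import Cfsg.Agent.Lib.Chevalley.RootGen
import Cfsg.Agent.Lib.Chevalley.Basic

/-!
The unipotent subgroups `U`, `V`, the subgroup `B = UH`: triangularity, unique products, intersections.
-/

set_option autoImplicit false

namespace CfsgLib.Chevalley.Tbl

open Matrix

/-- The grading of the basis: negative roots, `h`'s, positive roots. -/
def deg (T : Tbl) : T.I → ℤ :=
  Sum.elim (fun _ => (T.half : ℤ)) fun r => if r.val < T.half then (r.val : ℤ) else r.val + 1

/-- Unitriangular matrices for a grading. -/
def UniTri {T : Tbl} {F : Type*} [Field F] (b : T.I → ℤ) (g : GL T.I F) : Prop :=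
  ∀ row col, b row ≤ b col → (g : Matrix T.I T.I F) row col = (1 : Matrix T.I T.I F) row col

variable {T : Tbl} {F : Type*} [Field F]

theorem UniTri.mul {b : T.I → ℤ} {g g' : GL T.I F} (h : UniTri b g) (h' : UniTri b g') :
    UniTri b (g * g') := by
  intro row col hle
  rw [Units.val_mul, Matrix.mul_apply, Finset.sum_eq_single col]
  · rw [h' col col le_rfl, Matrix.one_apply_eq, mul_one, h row col hle]
  · intro k _ hk
    rcases le_total (b k) (b col) with hkc | hkc
    · rw [h' k col hkc, Matrix.one_apply_ne hk, mul_zero]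
    · rcases eq_or_lt_of_le hkc with he | hlt
      · rw [h' k col he.ge, Matrix.one_apply_ne hk, mul_zero]
      · rw [h row k (by omega), Matrix.one_apply_ne, zero_mul]
        rintro rfl; omega
  · simp

/-- The subgroup of unitriangular matrices with unitriangular inverse. -/
def uniSub (T : Tbl) (F : Type*) [Field F] (b : T.I → ℤ) : Subgroup (GL T.I F) where
  carrier := {g | UniTri b g ∧ UniTri b g⁻¹}
  mul_mem' := fun h h' => ⟨h.1.mul h'.1, by rw [_root_.mul_inv_rev]; exact h'.2.mul h.2⟩
  one_mem' := ⟨fun _ _ _ => by simp, fun _ _ _ => by simp⟩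
  inv_mem' := fun h => ⟨h.2, by rw [inv_inv]; exact h.1⟩

variable (hT : T.Valid)
include hT

theorem deg_A {r : ℕ} (hr : r < T.n) (k : ℕ) (row col : T.I) (hk : k ≠ 0)
    (h : T.A r k row col ≠ 0) :
    if T.half ≤ r then T.deg col < T.deg row else T.deg row < T.deg col := by
  have hn2 : T.n = 2 * T.half := rfl
  rw [A_apply] at h
  obtain ⟨k, rfl⟩ := Nat.exists_eq_succ_of_ne_zero hk
  rcases col with i | s
  · simp only [colA] at h
    by_cases hk0 : k = 0
    · subst hk0
      rcases row with j | v
      · simp [rootVec] at h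
      · have hv : v.val = r := by
          by_contra e; simp [rootVec, e] at h
        simp only [deg, Sum.elim_inl, Sum.elim_inr, hv]
        split_ifs <;> omega
    · simp [hk0] at h
  · simp only [colA] at h
    have hsn := s.2
    by_cases h1 : s.val = r
    · simp [h1] at h
    simp only [if_neg h1] at h
    by_cases h2 : s.val = T.neg r
    · simp only [if_pos h2] at h
      unfold neg at h2
      by_cases hk0 : k = 0
      · subst hk0
        rcases row with j | v
        · simp only [deg, Sum.elim_inl, Sum.elim_inr, h2]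
          split_ifs <;> omega
        · simp [coVec] at h
      · by_cases hk1 : k = 1
        · subst hk1
          rcases row with j | v
          · simp [rootVec] at h
          · have hv : v.val = r := by
              by_contra e; simp [rootVec, e] at h
            simp only [deg, Sum.elim_inr, hv, h2]
            split_ifs <;> omega
        · simp [hk0, hk1] at h
    simp only [if_neg h2] at h
    cases hc : T.chain r s.val (k + 1) with
    | none => simp [hc, optVec] at h
    | some p =>
      obtain ⟨u, m⟩ := p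
      rw [hc] at h
      rcases row with j | v
      · simp [optVec, rootVec] at h
      · have hv : v.val = u := by
          by_contra e; simp [optVec, rootVec, e] at h
        cases hp : T.isPos r with
        | true =>
          have h3 := (chain_gt hT hr s.2 hp k u m hc).1
          have h4 : T.half ≤ r := isPos_iff.mp hp
          simp only [deg, Sum.elim_inr, hv]
          split_ifs <;> omega
        | false =>
          have h3 := chain_lt hT hr s.2 hp k u m hc
          have h4 : r < T.half := by
            rw [Bool.eq_false_iff, Ne, isPos_iff] at hp; omega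
          simp only [deg, Sum.elim_inr, hv]
          split_ifs <;> omega

theorem xU_uniTri {r : ℕ} (hr : r < T.n) (b : T.I → ℤ)
    (hb : ∀ row col, (if T.half ≤ r then T.deg col < T.deg row else T.deg row < T.deg col) →
      b col < b row) (t : F) : UniTri b (T.xU F r t) := by
  intro row col hle
  rw [xU_val hT hr, X, Finset.sum_range_succ', Matrix.add_apply, Matrix.sum_apply,
    Finset.sum_eq_zero, zero_add]
  · simp [A_zero]
  · intro k _
    simp only [Matrix.smul_apply, castM_apply, smul_eq_mul]
    by_cases h : T.A r (k + 1) row col = 0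
    · simp [h]
    · have := hb row col (deg_A hT hr (k + 1) row col (by omega) h)
      omega

theorem pos_le_uniSub :
    T.rootGen F (fun r => T.half ≤ r) ≤ T.uniSub F T.deg := by
  refine rootGen_le fun r hr hp t => ?_
  have hb : ∀ row col, (if T.half ≤ r then T.deg col < T.deg row else T.deg row < T.deg col) →
      T.deg col < T.deg row := fun row col h => by rwa [if_pos hp] at h
  exact ⟨xU_uniTri hT hr _ hb t, by rw [xU_inv hT hr]; exact xU_uniTri hT hr _ hb _⟩

theorem neg_le_uniSub :
    T.rootGen F (fun r => r < T.half) ≤ T.uniSub F (fun i => -T.deg i) := by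
  refine rootGen_le fun r hr hp t => ?_
  have hb : ∀ row col, (if T.half ≤ r then T.deg col < T.deg row else T.deg row < T.deg col) →
      -T.deg col < -T.deg row := fun row col h => by rw [if_neg (not_le.mpr hp)] at h; omega
  exact ⟨xU_uniTri hT hr _ hb t, by rw [xU_inv hT hr]; exact xU_uniTri hT hr _ hb _⟩

/-- A matrix that is upper unitriangular times diagonal and lower unitriangular is the identity. -/
theorem uniTri_dU_eq {χ : ℕ → Fˣ} {u v : GL T.I F} (hu : UniTri T.deg u)
    (hv : UniTri (fun i => -T.deg i) v) (h : u * T.dU χ = v) : u = 1 ∧ v = 1 := by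
  have hm : ∀ row col, (v : Matrix T.I T.I F) row col =
      (u : Matrix T.I T.I F) row col * (T.scale χ col : F) := by
    intro row col
    rw [← h, Units.val_mul, dU_val, Matrix.mul_diagonal]
  have hv1 : ∀ row col, (v : Matrix T.I T.I F) row col = (1 : Matrix T.I T.I F) row col := by
    intro row col
    rcases le_total (T.deg col) (T.deg row) with hle | hle
    · exact hv row col (show -T.deg row ≤ -T.deg col by omega)
    · by_cases hrc : row = col
      · subst hrc; exact hv row row le_rfl
      · rw [hm, hu row col hle, Matrix.one_apply_ne hrc, zero_mul]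
  have hv' : v = 1 := Units.ext (Matrix.ext fun i j => by rw [hv1, Units.val_one])
  subst hv'
  refine ⟨Units.ext (Matrix.ext fun row col => ?_), rfl⟩
  rw [Units.val_one]
  by_cases hrc : row = col
  · subst hrc; exact hu row row le_rfl
  · have := hm row col
    rw [Units.val_one, Matrix.one_apply_ne hrc] at this
    rw [Matrix.one_apply_ne hrc]
    simpa [Units.ne_zero] using this.symm

theorem dU_mem_normalizer {χ : ℕ → Fˣ} (hχ : T.IsChar χ) (P : ℕ → Prop) :
    T.dU χ ∈ Subgroup.normalizer (T.rootGen F P : Set (GL T.I F)) := by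
  have key : ∀ ψ : ℕ → Fˣ, T.IsChar ψ → ∀ g ∈ T.rootGen F P,
      T.dU ψ * g * (T.dU ψ)⁻¹ ∈ T.rootGen F P := by
    intro ψ hψ g hg
    induction hg using Subgroup.closure_induction with
    | mem x hx =>
      obtain ⟨s, hs, hP, u, rfl⟩ := hx
      rw [dU_conj_X hT hψ hs, mul_inv_cancel_right]
      exact xU_mem_rootGen hs hP _
    | one => simp
    | mul x y _ _ hx hy => simpa [mul_assoc] using mul_mem hx hy
    | inv x _ hx => simpa [mul_assoc] using inv_mem hx
  refine Subgroup.mem_normalizer_iff.mpr fun g => ⟨key χ hχ g, fun hg => ?_⟩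
  have hinv : T.IsChar χ⁻¹ :=
    ⟨fun r hr => by simp [hχ.neg r hr], fun r hr s hs u N h => by
      simp [hχ.add r hr s hs u N h, mul_comm]⟩
  have := key _ hinv _ hg
  rw [← dU_inv] at this
  simpa [mul_assoc] using this

theorem isChar_prod (f : Fin T.rank → Fˣ) : T.IsChar (fun s => ∏ i, f i ^ T.ca i s) where
  neg r hr := by
    rw [← Finset.prod_inv_distrib]
    exact Finset.prod_congr rfl fun i _ => by rw [ca_neg hT hr i.2, _root_.zpow_neg]
  add r hr s hs u N h := by
    rw [← Finset.prod_mul_distrib]
    exact Finset.prod_congr rfl fun i _ => by rw [ca_sum hT hr hs h i.2, _root_.zpow_add]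

/-- Every element of `H` is `dU χ` for a character `χ`. -/
theorem diag_exists_char {g : GL T.I F} (hg : g ∈ T.datum.diagonalSubgroup F) :
    ∃ χ : ℕ → Fˣ, T.IsChar χ ∧ g = T.dU χ := by
  obtain ⟨f, rfl⟩ := (mem_diag_iff hT).mp hg
  exact ⟨_, isChar_prod hT f, rfl⟩

theorem diag_le_normalizer (P : ℕ → Prop) :
    T.datum.diagonalSubgroup F ≤ Subgroup.normalizer (T.rootGen F P : Set (GL T.I F)) := by
  intro g hg
  obtain ⟨χ, hχ, rfl⟩ := diag_exists_char hT hg
  exact dU_mem_normalizer hT hχ P

theorem diag_comm {g h : GL T.I F} (hg : g ∈ T.datum.diagonalSubgroup F)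
    (hh : h ∈ T.datum.diagonalSubgroup F) : g * h = h * g := by
  obtain ⟨χ, -, rfl⟩ := diag_exists_char hT hg
  obtain ⟨ψ, -, rfl⟩ := diag_exists_char hT hh
  exact dU_comm χ ψ

theorem mem_borel_iff {g : GL T.I F} :
    g ∈ T.datum.borelSubgroup F ↔
      ∃ u ∈ T.datum.posUnipotent F, ∃ h ∈ T.datum.diagonalSubgroup F, g = u * h := by
  have hn : T.datum.diagonalSubgroup F ≤
      Subgroup.normalizer (T.datum.posUnipotent F : Set (GL T.I F)) := by
    rw [posUnipotent_rootGen hT]; exact diag_le_normalizer hT _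
  show g ∈ T.datum.posUnipotent F ⊔ T.datum.diagonalSubgroup F ↔ _
  rw [← SetLike.mem_coe, Subgroup.coe_mul_of_right_le_normalizer_left _ _ hn]
  simp only [Set.mem_mul, SetLike.mem_coe]
  exact ⟨fun ⟨u, hu, h, hh, e⟩ => ⟨u, hu, h, hh, e.symm⟩, fun ⟨u, hu, h, hh, e⟩ => ⟨u, hu, h, hh, e.symm⟩⟩

theorem borel_inf_neg : T.datum.borelSubgroup F ⊓ T.datum.negUnipotent F = ⊥ := by
  rw [eq_bot_iff]
  rintro g ⟨hb, hv⟩
  obtain ⟨u, hu, h, hh, rfl⟩ := (mem_borel_iff hT).mp hb
  obtain ⟨χ, -, rfl⟩ := diag_exists_char hT hh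
  rw [posUnipotent_rootGen hT] at hu
  rw [SetLike.mem_coe, negUnipotent_rootGen hT] at hv
  have := uniTri_dU_eq hT (pos_le_uniSub hT hu).1 (neg_le_uniSub hT hv).1 rfl
  exact Subgroup.mem_bot.mpr this.2

theorem pos_inf_diag : T.datum.posUnipotent F ⊓ T.datum.diagonalSubgroup F = ⊥ := by
  rw [eq_bot_iff]
  rintro g ⟨hu, hh⟩
  obtain ⟨χ, -, rfl⟩ := diag_exists_char hT hh
  rw [SetLike.mem_coe, posUnipotent_rootGen hT] at hu
  have h2 : UniTri T.deg (T.dU χ : GL T.I F)⁻¹ := (pos_le_uniSub hT hu).2
  have := uniTri_dU_eq hT (u := (T.dU χ : GL T.I F)⁻¹) (v := 1) (χ := χ) h2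
    (fun _ _ _ => by simp) (inv_mul_cancel _)
  exact Subgroup.mem_bot.mpr (inv_eq_one.mp this.1)

theorem borel_inf_negDiag :
    T.datum.borelSubgroup F ⊓ (T.datum.negUnipotent F ⊔ T.datum.diagonalSubgroup F) =
      T.datum.diagonalSubgroup F := by
  refine le_antisymm ?_ (le_inf le_sup_right le_sup_right)
  rintro g ⟨hb, hvh⟩
  have hn : T.datum.diagonalSubgroup F ≤
      Subgroup.normalizer (T.datum.negUnipotent F : Set (GL T.I F)) := by
    rw [negUnipotent_rootGen hT]; exact diag_le_normalizer hT _
  have hvh' : g ∈ ((T.datum.negUnipotent F ⊔ T.datum.diagonalSubgroup F : Subgroup (GL T.I F)) :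
      Set (GL T.I F)) := hvh
  rw [Subgroup.coe_mul_of_right_le_normalizer_left _ _ hn] at hvh'
  obtain ⟨v, hv, h, hh, rfl⟩ := hvh'
  have hvB : v ∈ T.datum.borelSubgroup F := by
    have hbB : v * h ∈ T.datum.borelSubgroup F := hb
    have hhB : h ∈ T.datum.borelSubgroup F := Subgroup.mem_sup_right hh
    have := mul_mem hbB (inv_mem hhB)
    rwa [mul_inv_cancel_right] at this
  have hv1 : v ∈ (⊥ : Subgroup (GL T.I F)) := borel_inf_neg (T := T) (F := F) hT ▸ ⟨hvB, hv⟩
  rw [Subgroup.mem_bot] at hv1
  simpa [hv1] using hh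

theorem pow_sub_one_eq_zero {g : GL T.I F} (hg : UniTri T.deg g) :
    ((g : Matrix T.I T.I F) - 1) ^ (T.n + 1) = 0 := by
  have key : ∀ k : ℕ, ∀ row col, T.deg row < T.deg col + k →
      (((g : Matrix T.I T.I F) - 1) ^ k) row col = 0 := by
    intro k
    induction k with
    | zero =>
      intro row col h
      simp only [Nat.cast_zero, add_zero] at h
      rw [pow_zero, Matrix.one_apply_ne]
      rintro rfl; omega
    | succ k ih =>
      intro row col h
      rw [pow_succ', Matrix.mul_apply]
      refine Finset.sum_eq_zero fun j _ => ?_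
      by_cases hj : T.deg j < T.deg col + k
      · rw [ih j col hj, mul_zero]
      · rw [Matrix.sub_apply, hg row j (by push_cast at h; omega), sub_self, zero_mul]
  ext row col
  refine key _ row col ?_
  have h0 : ∀ x : T.I, 0 ≤ T.deg x ∧ T.deg x ≤ T.n := by
    intro x
    have hn2 : T.n = 2 * T.half := rfl
    rcases x with i | s
    · simp only [deg, Sum.elim_inl]; omega
    · have := s.2
      simp only [deg, Sum.elim_inr]; split_ifs <;> omega
  have h1 := h0 row
  have h2 := h0 col
  have hn3 : (T.n : ℤ) = 2 * T.half := by exact_mod_cast (rfl : T.n = 2 * T.half)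
  push_cast
  omega

/-- Root vectors from `-k` on stay clear of the fundamental coroots. -/
def Inv0 (T : Tbl) {F : Type*} [Field F] (k : ℕ) (g : GL T.I F) : Prop :=
  ∀ (row : T.I) (v : Fin T.n), T.neg k ≤ v.val →
    (∀ w : Fin T.n, row = Sum.inr w → w.val < T.neg k) →
    (g : Matrix T.I T.I F) row (Sum.inr v) = 0

omit hT in
theorem Inv0.mul {k : ℕ} {g g' : GL T.I F} (h : T.Inv0 k g) (h' : T.Inv0 k g') :
    T.Inv0 k (g * g') := by
  intro row v hv hrow
  rw [Units.val_mul, Matrix.mul_apply]
  refine Finset.sum_eq_zero fun j _ => ?_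
  by_cases hj : ∀ w : Fin T.n, j = Sum.inr w → w.val < T.neg k
  · rw [h' j v hv hj, mul_zero]
  · push Not at hj
    obtain ⟨w, rfl, hw⟩ := hj
    rw [h row w hw hrow, zero_mul]

theorem inv0_xU {k s : ℕ} (hs : s < T.n) (hk : T.half ≤ k) (hks : k < s) (t : F) :
    T.Inv0 k (T.xU F s t) := by
  intro row v hv hrow
  rw [xU_val hT hs, X, Matrix.sum_apply]
  refine Finset.sum_eq_zero fun j _ => ?_
  simp only [Matrix.smul_apply, castM_apply, smul_eq_mul]
  suffices h : T.A s j row (Sum.inr v) = 0 by simp [h]
  by_contra h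
  rw [A_apply] at h
  cases j with
  | zero =>
    simp only [colA, Pi.single_apply, ne_eq, ite_eq_right_iff, one_ne_zero, imp_false,
      not_not] at h
    have := hrow v h
    omega
  | succ j =>
    simp only [colA] at h
    by_cases h1 : v.val = s
    · simp [h1] at h
    simp only [if_neg h1] at h
    by_cases h2 : v.val = T.neg s
    · unfold neg n at *; omega
    simp only [if_neg h2] at h
    cases hc : T.chain s v.val (j + 1) with
    | none => simp [hc, optVec] at h
    | some p =>
      obtain ⟨u, m⟩ := p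
      rw [hc] at h
      rcases row with i | w
      · simp [optVec, rootVec] at h
      · have hw : w.val = u := by
          by_contra e; simp [optVec, rootVec, e] at h
        have h3 := (chain_gt hT hs v.2 (isPos_iff.mpr (by omega)) j u m hc).1
        have := hrow w rfl
        omega

theorem ge_inv0 {k : ℕ} (hk : T.half ≤ k) {g : GL T.I F}
    (hg : g ∈ T.rootGen F (fun s => k + 1 ≤ s)) : T.Inv0 k g := by
  have key : T.Inv0 k g ∧ T.Inv0 k g⁻¹ := by
    induction hg using Subgroup.closure_induction with
    | mem x hx =>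
      obtain ⟨s, hs, hks, t, rfl⟩ := hx
      exact ⟨inv0_xU hT hs hk (by omega) t, by rw [xU_inv hT hs]; exact inv0_xU hT hs hk (by omega) _⟩
    | one =>
      have h1 : T.Inv0 k (1 : GL T.I F) := fun row v hv hrow => by
        rw [Units.val_one, Matrix.one_apply_ne]
        intro e
        have := hrow v e
        omega
      exact ⟨h1, by rw [inv_one]; exact h1⟩
    | mul x y _ _ hx hy => exact ⟨hx.1.mul hy.1, by rw [_root_.mul_inv_rev]; exact hy.2.mul hx.2⟩
    | inv x _ hx => exact ⟨hx.2, by rw [inv_inv]; exact hx.1⟩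
  exact key.1

theorem xU_mem_ge_succ {k : ℕ} (hk : T.half ≤ k) (hkn : k < T.n) {t : F}
    (h : T.xU F k t ∈ T.rootGen F (fun s => k + 1 ≤ s)) : t = 0 := by
  refine (X_eq_one_iff hT hkn t).mp ?_
  obtain ⟨i, hi, j, hj, hij⟩ := cv_coprime hT hkn
  have key : ∀ a < T.rank, (T.cv k a : F) * t = 0 := by
    intro a ha
    have hx := ge_inv0 hT hk h (Sum.inl ⟨a, ha⟩) ⟨T.neg k, neg_lt' hkn⟩ le_rfl (by simp)
    rw [← x_eq_val hT hkn, Cfsg.Lie.ChevalleyDatum.x, dif_pos hkn] at hx
    have e1 : ¬ (T.neg k = k) := neg_ne hkn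
    have e2 := datum_negIdx_getD (T := T) hkn
    simp only [Cfsg.Lie.ChevalleyDatum.xMat, Matrix.of_apply, Fin.ext_iff, e1, if_false, e2, if_true,
      datum_coroot hkn ha] at hx
    exact hx
  have hbez := Int.gcd_eq_gcd_ab (T.cv k i) (T.cv k j)
  rw [hij] at hbez
  have : t = 0 := by
    have e := congrArg (fun z : ℤ => (z : F) * t) hbez
    simp only [Int.cast_natCast, Int.cast_add, Int.cast_mul] at e
    rw [add_mul, mul_right_comm, key i hi, mul_right_comm, key j hj] at e
    simpa using e
  rw [this, X_zero]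

variable (hC : T.chkComm = true)
include hC

theorem xU_mul_inj {k : ℕ} (hk : T.half ≤ k) (hkn : k < T.n) {t t' : F} {g g' : GL T.I F}
    (hg : g ∈ T.rootGen F (fun s => k + 1 ≤ s)) (hg' : g' ∈ T.rootGen F (fun s => k + 1 ≤ s))
    (h : T.xU F k t * g = T.xU F k t' * g') : t = t' ∧ g = g' := by
  have hmem : T.xU F k (t + -t') ∈ T.rootGen F (fun s => k + 1 ≤ s) := by
    have e : T.xU F k (t + -t') = g' * g⁻¹ := by
      rw [add_comm, ← xU_add hT hkn, ← xU_inv hT hkn, inv_mul_eq_iff_eq_mul, ← mul_assoc,
        eq_mul_inv_iff_mul_eq]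
      exact h
    rw [e]; exact mul_mem hg' (inv_mem hg)
  have ht : t = t' := by linear_combination xU_mem_ge_succ hT hk hkn hmem
  subst ht
  exact ⟨rfl, mul_left_cancel h⟩

end CfsgLib.Chevalley.Tbl
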