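import Cfsg.Agent.Lib.Chevalley.Monomial
import Cfsg.Agent.Lib.Chevalley.Unipotent

/-!
Words in the fundamental `n`'s, the deletion condition, and `N / H` as a group of permutations of the roots.
-/

set_option autoImplicit false

namespace CfsgLib.Chevalley.Tbl

/-- The fundamental root as an element of `Fin n`. -/
def simpF (T : Tbl) (hT : T.Valid) (i : Fin T.rank) : Fin T.n := ⟨T.simple i, simple_lt hT i.2⟩

/-- The product of fundamental `n`'s of a word. -/
noncomputable def nw (T : Tbl) (F : Type*) [Field F] (l : List (Fin T.rank)) : GL T.I F :=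
  (l.map fun i => T.nU F (T.simple i.val) 1).prod

/-- The permutation of a word. -/
def pw (T : Tbl) (hT : T.Valid) (l : List (Fin T.rank)) : Equiv.Perm (Fin T.n) :=
  (l.map fun i => T.refP hT i).prod

/-- The group of permutations of the roots generated by the fundamental reflections. -/
def WP (T : Tbl) (hT : T.Valid) : Subgroup (Equiv.Perm (Fin T.n)) :=
  Subgroup.closure (Set.range (T.refP hT))

variable {T : Tbl} {F : Type*} [Field F] (hT : T.Valid)

theorem refP_apply (i : Fin T.rank) (s : Fin T.n) : ((T.refP hT i s : Fin T.n) : ℕ) = T.refl i s := rfl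

theorem refP_mul_self (i : Fin T.rank) : T.refP hT i * T.refP hT i = 1 :=
  Equiv.ext fun s => Fin.ext (refl_refl hT i.2 s.2)

theorem refP_inv (i : Fin T.rank) : (T.refP hT i)⁻¹ = T.refP hT i :=
  inv_eq_of_mul_eq_one_right (refP_mul_self hT i)

theorem pw_nil : T.pw hT [] = 1 := rfl

theorem pw_cons (i : Fin T.rank) (l : List (Fin T.rank)) :
    T.pw hT (i :: l) = T.refP hT i * T.pw hT l := rfl

theorem pw_append (l l' : List (Fin T.rank)) : T.pw hT (l ++ l') = T.pw hT l * T.pw hT l' := by
  simp [pw]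

theorem pw_reverse (l : List (Fin T.rank)) : T.pw hT l.reverse = (T.pw hT l)⁻¹ := by
  induction l with
  | nil => simp [pw]
  | cons a l ih =>
    rw [List.reverse_cons, pw_append, pw_cons hT a l, _root_.mul_inv_rev, ih, refP_inv]; rfl

theorem pw_mem (l : List (Fin T.rank)) : T.pw hT l ∈ T.WP hT := by
  refine list_prod_mem fun x hx => ?_
  obtain ⟨i, -, rfl⟩ := List.mem_map.mp hx
  exact Subgroup.subset_closure ⟨i, rfl⟩

theorem exists_pw {w : Equiv.Perm (Fin T.n)} (hw : w ∈ T.WP hT) : ∃ l, T.pw hT l = w := by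
  induction hw using Subgroup.closure_induction with
  | mem x hx => obtain ⟨i, rfl⟩ := hx; exact ⟨[i], by simp [pw]⟩
  | one => exact ⟨[], rfl⟩
  | mul x y _ _ hx hy =>
    obtain ⟨l, rfl⟩ := hx; obtain ⟨l', rfl⟩ := hy
    exact ⟨l ++ l', pw_append hT l l'⟩
  | inv x _ hx => obtain ⟨l, rfl⟩ := hx; exact ⟨l.reverse, pw_reverse hT l⟩

theorem refP_simpF (i : Fin T.rank) : T.refP hT i (T.simpF hT i) = T.negF (T.simpF hT i) :=
  Fin.ext (refl_simple_self hT i.val)

theorem half_le_simpF (i : Fin T.rank) : T.half ≤ (T.simpF hT i).val :=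
  isPos_iff.mp (simple_pos hT i.2)

theorem negF_lt {s : Fin T.n} (h : T.half ≤ s.val) : (T.negF s).val < T.half := by
  show T.neg s.val < T.half
  unfold neg n at *; omega

theorem le_negF {s : Fin T.n} (h : s.val < T.half) : T.half ≤ (T.negF s).val := by
  show T.half ≤ T.neg s.val
  unfold neg n at *; omega

theorem refP_pos {i : Fin T.rank} {s : Fin T.n} (h : T.half ≤ s.val) (hne : s ≠ T.simpF hT i) :
    T.half ≤ (T.refP hT i s).val :=
  isPos_iff.mp (isPos_refl hT i.2 s.2 (isPos_iff.mpr h) fun e => hne (Fin.ext e))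

theorem simpF_injective : Function.Injective (T.simpF hT) := by
  intro i j h
  have h' : T.simple i.val = T.simple j.val := congrArg Fin.val h
  have h1 := co_simple hT i.2 i.2
  rw [h', co_simple hT j.2 i.2, if_pos rfl] at h1
  by_contra hne
  rw [if_neg fun e => hne (Fin.ext e)] at h1
  exact zero_ne_one h1

theorem refP_injective : Function.Injective (T.refP hT) := by
  intro i j h
  by_contra hne
  have h1 := refP_simpF hT i
  rw [h] at h1
  have h2 := refP_pos hT (i := j) (half_le_simpF hT i) fun e => hne (simpF_injective hT e)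
  rw [h1] at h2
  exact absurd h2 (not_le.mpr (negF_lt (half_le_simpF hT i)))

theorem WP_negF {w : Equiv.Perm (Fin T.n)} (hw : w ∈ T.WP hT) (s : Fin T.n) :
    w (T.negF s) = T.negF (w s) := by
  induction hw using Subgroup.closure_induction generalizing s with
  | mem x hx => obtain ⟨i, rfl⟩ := hx; exact Fin.ext (refl_neg hT i.2 s.2)
  | one => rfl
  | mul x y _ _ hx hy => show x (y (T.negF s)) = T.negF (x (y s)); rw [hy, hx]
  | inv x _ hx => apply x.injective; rw [hx]; simp

/-- Elements of `WP` are linear on the roots. -/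
theorem WP_linear {w : Equiv.Perm (Fin T.n)} (hw : w ∈ T.WP hT) (s : Fin T.n) {j : ℕ}
    (hj : j < T.rank) :
    T.co (w s).val j = ∑ k : Fin T.rank, T.co s.val k * T.co (w (T.simpF hT k)).val j := by
  obtain ⟨l, rfl⟩ := exists_pw hT hw
  clear hw
  induction l generalizing j with
  | nil =>
    simp only [pw_nil, Equiv.Perm.one_apply, simpF]
    rw [Finset.sum_eq_single (⟨j, hj⟩ : Fin T.rank)]
    · simp [co_simple hT hj hj]
    · intro k _ hk
      rw [co_simple hT k.2 hj, if_neg fun e => hk (Fin.ext e.symm), mul_zero]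
    · simp
  | cons i l ih =>
    simp only [pw_cons, Equiv.Perm.mul_apply, refP_apply]
    have hca : ∀ u : Fin T.n, T.ca i u = ∑ m : Fin T.rank, T.co u.val m * T.ca i (T.simple m) :=
      fun u => by rw [ca_eq hT u.2 i.2]; exact list_sum_range _ _
    rw [co_refl hT i.2 (T.pw hT l s).2 hj,
      Finset.sum_congr rfl fun k _ => by rw [co_refl hT i.2 (T.pw hT l (T.simpF hT k)).2 hj]]
    by_cases hji : j = i.val
    · subst hji
      simp only [if_true, mul_sub, Finset.sum_sub_distrib]
      rw [← ih i.2]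
      congr 1
      calc T.ca i (T.pw hT l s).val
          = ∑ m : Fin T.rank, (∑ k : Fin T.rank, T.co s.val k * T.co (T.pw hT l (T.simpF hT k)).val m) *
              T.ca i (T.simple m) := by
            rw [hca]
            exact Finset.sum_congr rfl fun m _ => by rw [ih m.2]
        _ = ∑ k : Fin T.rank, T.co s.val k * T.ca i (T.pw hT l (T.simpF hT k)).val := by
            simp only [Finset.sum_mul, hca (T.pw hT l (T.simpF hT _)), Finset.mul_sum]
            rw [Finset.sum_comm]
            exact Finset.sum_congr rfl fun k _ => Finset.sum_congr rfl fun m _ => mul_assoc _ _ _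
    · simp only [if_neg hji, sub_zero]
      exact ih hj

include hT

theorem mono_nw (l : List (Fin T.rank)) : T.Mono (T.nw F l) (T.pw hT l) := by
  induction l with
  | nil => exact Mono.one
  | cons i l ih =>
    show T.Mono (T.nU F (T.simple i.val) 1 * T.nw F l) (T.refP hT i * T.pw hT l)
    exact (mono_nU_simple hT i).mul ih

theorem nU_simple_mem_N (i : Fin T.rank) :
    T.nU F (T.simple i) 1 ∈ T.datum.monomialSubgroup F := by
  rw [monomialSubgroup_eq hT]
  exact Subgroup.mem_sup_right (Subgroup.subset_closure ⟨_, simple_lt hT i.2, rfl⟩)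

theorem nw_mem (l : List (Fin T.rank)) : T.nw F l ∈ T.datum.monomialSubgroup F := by
  refine list_prod_mem fun x hx => ?_
  obtain ⟨i, -, rfl⟩ := List.mem_map.mp hx
  exact nU_simple_mem_N hT i

theorem diag_le_N : T.datum.diagonalSubgroup F ≤ T.datum.monomialSubgroup F := by
  rw [monomialSubgroup_eq hT]; exact le_sup_left

theorem conj_diag {g h : GL T.I F} (hg : g ∈ T.datum.monomialSubgroup F)
    (hh : h ∈ T.datum.diagonalSubgroup F) : g * h * g⁻¹ ∈ T.datum.diagonalSubgroup F :=
  (Subgroup.mem_normalizer_iff.mp (monomial_le_normalizer hT hg) h).mp hh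

theorem nU_sq_mem {r : ℕ} (hr : r < T.n) :
    T.nU F r 1 * T.nU F r 1 ∈ T.datum.diagonalSubgroup F := by
  rw [nU_sq hT hr, diagonalSubgroup_eq hT]
  exact Subgroup.subset_closure ⟨r, hr, -1, rfl⟩

theorem nw_inv (l : List (Fin T.rank)) :
    ∃ h ∈ T.datum.diagonalSubgroup F, (T.nw F l)⁻¹ = h * T.nw F l.reverse := by
  induction l with
  | nil => exact ⟨1, one_mem _, by simp [nw]⟩
  | cons i l ih =>
    obtain ⟨h, hh, e⟩ := ih
    have hq := inv_mem (nU_sq_mem (F := F) hT (simple_lt hT i.2))
    set n := T.nU F (T.simple i) 1 with hn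
    refine ⟨h * (T.nw F l.reverse * (n * n)⁻¹ * (T.nw F l.reverse)⁻¹),
      mul_mem hh (conj_diag hT (nw_mem hT _) hq), ?_⟩
    have e2 : T.nw F (i :: l).reverse = T.nw F l.reverse * n := by simp [nw, hn]
    have e3 : T.nw F (i :: l) = n * T.nw F l := rfl
    rw [e3, e2, _root_.mul_inv_rev, e]
    group

theorem exists_nw {g : GL T.I F} (hg : g ∈ T.datum.monomialSubgroup F) :
    ∃ h ∈ T.datum.diagonalSubgroup F, ∃ l, g = h * T.nw F l := by
  have key : T.datum.monomialSubgroup F ≤ T.datum.diagonalSubgroup F ⊔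
      Subgroup.closure {x : GL T.I F | ∃ j < T.rank, x = T.nU F (T.simple j) 1} := by
    rw [monomialSubgroup_eq hT]
    refine sup_le le_sup_left ((Subgroup.closure_le _).mpr ?_)
    rintro _ ⟨r, hr, rfl⟩
    exact Subgroup.mem_sup_right (nU_mem_simple hT hr)
  have hg' := key hg
  rw [Subgroup.sup_eq_closure] at hg'
  clear hg
  induction hg' using Subgroup.closure_induction with
  | mem x hx =>
    rcases hx with hx | hx
    · exact ⟨x, hx, [], by simp [nw]⟩
    · induction hx using Subgroup.closure_induction with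
      | mem y hy =>
        obtain ⟨j, hj, rfl⟩ := hy
        exact ⟨1, one_mem _, [⟨j, hj⟩], by simp [nw]⟩
      | one => exact ⟨1, one_mem _, [], by simp [nw]⟩
      | mul a b _ _ ha hb =>
        obtain ⟨h, hh, l, rfl⟩ := ha
        obtain ⟨h', hh', l', rfl⟩ := hb
        refine ⟨h * (T.nw F l * h' * (T.nw F l)⁻¹), mul_mem hh (conj_diag hT (nw_mem hT _) hh'),
          l ++ l', ?_⟩
        rw [show T.nw F (l ++ l') = T.nw F l * T.nw F l' by simp [nw]]
        group
      | inv a _ ha =>
        obtain ⟨h, hh, l, rfl⟩ := ha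
        obtain ⟨k, hk, e⟩ := nw_inv (F := F) hT l
        refine ⟨k * (T.nw F l.reverse * h⁻¹ * (T.nw F l.reverse)⁻¹),
          mul_mem hk (conj_diag hT (nw_mem hT _) (inv_mem hh)), l.reverse, ?_⟩
        rw [_root_.mul_inv_rev, e]
        group
  | one => exact ⟨1, one_mem _, [], by simp [nw]⟩
  | mul a b _ _ ha hb =>
    obtain ⟨h, hh, l, rfl⟩ := ha
    obtain ⟨h', hh', l', rfl⟩ := hb
    refine ⟨h * (T.nw F l * h' * (T.nw F l)⁻¹), mul_mem hh (conj_diag hT (nw_mem hT _) hh'),
      l ++ l', ?_⟩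
    rw [show T.nw F (l ++ l') = T.nw F l * T.nw F l' by simp [nw]]
    group
  | inv a _ ha =>
    obtain ⟨h, hh, l, rfl⟩ := ha
    obtain ⟨k, hk, e⟩ := nw_inv (F := F) hT l
    refine ⟨k * (T.nw F l.reverse * h⁻¹ * (T.nw F l.reverse)⁻¹),
      mul_mem hk (conj_diag hT (nw_mem hT _) (inv_mem hh)), l.reverse, ?_⟩
    rw [_root_.mul_inv_rev, e]
    group

theorem mono_diag {h : GL T.I F} (hh : h ∈ T.datum.diagonalSubgroup F) : T.Mono h 1 := by
  obtain ⟨χ, hχ, rfl⟩ := diag_exists_char hT hh
  exact mono_dU hT hχ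

theorem exists_mono {g : GL T.I F} (hg : g ∈ T.datum.monomialSubgroup F) :
    ∃ w ∈ T.WP hT, T.Mono g w := by
  obtain ⟨h, hh, l, rfl⟩ := exists_nw hT hg
  refine ⟨T.pw hT l, pw_mem hT l, ?_⟩
  have := (mono_diag hT hh).mul (mono_nw hT (F := F) l)
  rwa [one_mul] at this

/-- The deletion condition, in `N` and in `WP`. -/
theorem deletion (i : Fin T.rank) : ∀ l : List (Fin T.rank),
    (T.pw hT l (T.simpF hT i)).val < T.half →
    ∃ l1 j l2, l = l1 ++ j :: l2 ∧ T.pw hT l2 (T.simpF hT i) = T.simpF hT j ∧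
      ∃ h ∈ T.datum.diagonalSubgroup F, T.nw F l * T.nU F (T.simple i) 1 = h * T.nw F (l1 ++ l2) := by
  intro l
  induction l with
  | nil =>
    intro h
    have := half_le_simpF hT i
    simp [pw_nil] at h
    omega
  | cons j l ih =>
    intro h
    by_cases hneg : (T.pw hT l (T.simpF hT i)).val < T.half
    · obtain ⟨l1, k, l2, rfl, hk, x, hx, e⟩ := ih hneg
      refine ⟨j :: l1, k, l2, rfl, hk, T.nU F (T.simple j) 1 * x * (T.nU F (T.simple j) 1)⁻¹,
        conj_diag hT (nU_simple_mem_N hT j) hx, ?_⟩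
      show T.nU F (T.simple j) 1 * T.nw F (l1 ++ k :: l2) * _ =
        _ * (T.nU F (T.simple j) 1 * T.nw F (l1 ++ l2))
      rw [mul_assoc, e]
      group
    · push Not at hneg
      have hj : T.pw hT l (T.simpF hT i) = T.simpF hT j := by
        by_contra hne
        have := refP_pos hT (i := j) hneg hne
        rw [pw_cons, Equiv.Perm.mul_apply] at h
        omega
      refine ⟨[], j, l, rfl, hj, ?_⟩
      have hm := mono_nw (F := F) hT l
      obtain ⟨c, hc⟩ := hm.conj (T.simpF hT i)
      rw [hj] at hc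
      have hn : T.nw F l * T.nU F (T.simple i) 1 = T.nU F (T.simple j) (c : F) * T.nw F l := by
        have := nU_congr hT (simple_lt hT i.2) (t := (1 : F)) (T.nw F l) (fun u => (c : F) * u)
          (fun u => ((c⁻¹ : Fˣ) : F) * u) (T.simple j) (fun u => (hc u).1) (fun u => (hc u).2)
          (by simp)
        simpa using this
      refine ⟨T.nU F (T.simple j) 1 * T.dU (T.hCh (T.simple j) c) * (T.nU F (T.simple j) 1)⁻¹ *
        (T.nU F (T.simple j) 1 * T.nU F (T.simple j) 1),
        mul_mem (conj_diag hT (nU_simple_mem_N hT j) ?_) (nU_sq_mem hT (simple_lt hT j.2)), ?_⟩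
      · rw [diagonalSubgroup_eq hT]
        exact Subgroup.subset_closure ⟨_, simple_lt hT j.2, c, rfl⟩
      · show T.nU F (T.simple j) 1 * T.nw F l * _ = _ * T.nw F l
        rw [mul_assoc, hn, nU_t hT (simple_lt hT j.2) c]
        group

theorem pw_of_nw {l l' : List (Fin T.rank)} {h : GL T.I F} (hh : h ∈ T.datum.diagonalSubgroup F)
    (i : Fin T.rank) (e : T.nw F l * T.nU F (T.simple i) 1 = h * T.nw F l') :
    T.pw hT l * T.refP hT i = T.pw hT l' := by
  have h1 := (mono_nw (F := F) hT l).mul (mono_nU_simple hT i)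
  rw [e] at h1
  have h2 := (mono_diag hT hh).mul (mono_nw (F := F) hT l')
  rw [one_mul] at h2
  exact h1.unique h2

theorem nw_mem_diag : ∀ k, ∀ l : List (Fin T.rank), l.length = k → T.pw hT l = 1 →
    T.nw F l ∈ T.datum.diagonalSubgroup F := by
  intro k
  induction k using Nat.strong_induction_on with
  | _ k IH =>
  intro l hl hw
  rcases List.eq_nil_or_concat l with rfl | ⟨l0, i, rfl⟩
  · simp [nw]
  rw [List.concat_eq_append] at hl hw ⊢
  have hneg : (T.pw hT l0 (T.simpF hT i)).val < T.half := by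
    rw [pw_append, mul_eq_one_iff_eq_inv] at hw
    rw [hw, show T.pw hT [i] = T.refP hT i by simp [pw], refP_inv, refP_simpF]
    exact negF_lt (half_le_simpF hT i)
  obtain ⟨l1, j, l2, rfl, -, h, hh, e⟩ := deletion (F := F) hT i l0 hneg
  have e2 : T.pw hT (l1 ++ l2) = 1 := by
    rw [← pw_of_nw hT hh i e, show T.refP hT i = T.pw hT [i] by simp [pw], ← pw_append]
    exact hw
  have := IH (l1 ++ l2).length (by simp at hl ⊢; omega) _ rfl e2
  rw [show T.nw F (l1 ++ j :: l2 ++ [i]) = T.nw F (l1 ++ j :: l2) * T.nU F (T.simple i) 1 by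
    simp [nw, mul_assoc], e]
  exact mul_mem hh this

theorem mem_diag_of_mono_one {g : GL T.I F} (hg : g ∈ T.datum.monomialSubgroup F)
    (hm : T.Mono g 1) : g ∈ T.datum.diagonalSubgroup F := by
  obtain ⟨h, hh, l, rfl⟩ := exists_nw hT hg
  have h1 := (mono_diag hT hh).mul (mono_nw (F := F) hT l)
  rw [one_mul] at h1
  exact mul_mem hh (nw_mem_diag hT _ l rfl (h1.unique hm))

variable (F) in
/-- `N → W`. -/
noncomputable def wHom : ↥(T.datum.monomialSubgroup F) →* ↥(T.WP hT) where
  toFun g := ⟨(exists_mono hT g.2).choose, (exists_mono hT g.2).choose_spec.1⟩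
  map_one' := Subtype.ext ((exists_mono hT (one_mem (T.datum.monomialSubgroup F))).choose_spec.2.unique Mono.one)
  map_mul' g g' := Subtype.ext ((exists_mono hT (g * g').2).choose_spec.2.unique
    ((exists_mono hT g.2).choose_spec.2.mul (exists_mono hT g'.2).choose_spec.2))

theorem mono_wHom (g : ↥(T.datum.monomialSubgroup F)) :
    T.Mono (g : GL T.I F) (wHom F hT g : Equiv.Perm (Fin T.n)) :=
  (exists_mono hT g.2).choose_spec.2

theorem wHom_nU (i : Fin T.rank) :
    (wHom F hT ⟨_, nU_simple_mem_N hT i⟩ : Equiv.Perm (Fin T.n)) = T.refP hT i :=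
  (mono_wHom hT _).unique (mono_nU_simple hT i)

theorem wHom_surjective : Function.Surjective (wHom F hT) := by
  rintro ⟨w, hw⟩
  obtain ⟨l, rfl⟩ := exists_pw hT hw
  exact ⟨⟨T.nw F l, nw_mem hT l⟩, Subtype.ext ((mono_wHom hT _).unique (mono_nw hT l))⟩

theorem wHom_ker : (wHom F hT).ker =
    (T.datum.diagonalSubgroup F).subgroupOf (T.datum.monomialSubgroup F) := by
  ext g
  rw [MonoidHom.mem_ker, Subgroup.mem_subgroupOf]
  constructor
  · intro h
    have := mono_wHom hT g
    rw [h] at this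
    exact mem_diag_of_mono_one hT g.2 this
  · intro h
    exact Subtype.ext ((mono_wHom hT g).unique (mono_diag hT h))

theorem pos_inf_monomial :
    T.datum.posUnipotent F ⊓ T.datum.monomialSubgroup F = ⊥ := by
  rw [eq_bot_iff]
  rintro g ⟨hu, hn⟩
  obtain ⟨w, -, hm⟩ := exists_mono hT hn
  have hu' : g ∈ T.rootGen F (fun r => T.half ≤ r) := posUnipotent_rootGen hT (F := F) ▸ hu
  have hu1 := (pos_le_uniSub hT hu').1
  have hw : w = 1 := by
    refine Equiv.ext fun s => ?_
    by_contra hne
    have h1 := hu1 (Sum.inr s) (Sum.inr s) le_rfl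
    rw [Matrix.one_apply_eq, hm.col s (Sum.inr s) (fun e => hne (Sum.inr_injective e).symm)] at h1
    exact zero_ne_one h1
  subst hw
  rw [← pos_inf_diag (T := T) (F := F) hT]
  exact ⟨hu, mem_diag_of_mono_one hT hn hm⟩

theorem borel_inf_monomial :
    T.datum.borelSubgroup F ⊓ T.datum.monomialSubgroup F = T.datum.diagonalSubgroup F := by
  refine le_antisymm ?_ (le_inf le_sup_right (diag_le_N hT))
  rintro g ⟨hb, hn⟩
  obtain ⟨u, hu, h, hh, rfl⟩ := (mem_borel_iff hT).mp hb
  have hun : u ∈ T.datum.monomialSubgroup F := by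
    have hn' : u * h ∈ T.datum.monomialSubgroup F := hn
    have := mul_mem hn' (inv_mem (diag_le_N hT hh))
    rwa [mul_inv_cancel_right] at this
  have h1 : u ∈ (⊥ : Subgroup (GL T.I F)) := pos_inf_monomial (T := T) (F := F) hT ▸ ⟨hu, hun⟩
  rw [Subgroup.mem_bot] at h1
  simpa [h1] using hh

end CfsgLib.Chevalley.Tbl
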