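import Cfsg.Agent.Lib.Chevalley.Table

/-!
Roots and coroots have the same support.
-/

set_option autoImplicit false

namespace CfsgLib.Chevalley.Tbl

/-- A root coordinate vanishes exactly when the coroot coordinate does. -/
def chkSupp (T : Tbl) : Bool :=
  allLt (fun r => allLt (fun i => decide (T.co r i = 0) == decide (T.cv r i = 0)) T.rank) T.n

end CfsgLib.Chevalley.Tbl
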