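import Cfsg.Agent.Lib.Chevalley.Bruhat
import Cfsg.Agent.Lib.Chevalley.SuppCheck

/-!
Standard parabolic subgroups, their Levi decompositions and normalizers; conjugacy inside `H`.
-/

set_option autoImplicit false

namespace CfsgLib.Chevalley.Tbl

open Matrix

/-- The grading by the coefficients outside `J`. -/
noncomputable def outDeg (T : Tbl) (J : Set ℕ) : T.I → ℤ :=
  Sum.elim (fun _ => 0) fun r => ∑ j : Fin T.rank, Set.indicator Jᶜ (fun j => T.co r.val j) j.val

/-- Matrices that respect a grading. -/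
def BlockDiag {T : Tbl} {F : Type*} [Field F] (b : T.I → ℤ) (g : GL T.I F) : Prop :=
  ∀ row col, b row ≠ b col → (g : Matrix T.I T.I F) row col = 0

variable {T : Tbl} {F : Type*} [Field F]

theorem BlockDiag.mul {b : T.I → ℤ} {g g' : GL T.I F} (h : BlockDiag b g) (h' : BlockDiag b g') :
    BlockDiag b (g * g') := by
  intro row col hne
  rw [Units.val_mul, Matrix.mul_apply]
  refine Finset.sum_eq_zero fun k _ => ?_
  by_cases hk : b row = b k
  · rw [h' k col (by rw [← hk]; exact hne), mul_zero]
  · rw [h row k hk, zero_mul]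

variable (hT : T.Valid)
include hT

theorem supp_inSub (hS : T.chkSupp = true) {J : Set ℕ} {r : ℕ} (hr : r < T.n) :
    T.datum.InRootSub J r ↔ ∀ i < T.rank, i ∉ J → T.co r i = 0 := by
  have h : ∀ i < T.rank, (T.co r i = 0 ↔ T.cv r i = 0) := by
    intro i hi
    have := allLt_iff.mp (allLt_iff.mp hS r hr) i hi
    simpa using this
  unfold Cfsg.Lie.ChevalleyDatum.InRootSub
  constructor
  · rintro ⟨-, h2⟩ i hi hij
    rw [h i hi, ← datum_coroot hr hi]
    exact h2 i hi hij
  · intro h2
    refine ⟨hr, fun i hi hij => ?_⟩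
    rw [datum_coroot hr hi]
    exact (h i hi).mp (h2 i hi hij)

/-- The support of `A r k`: degrees add. -/
theorem A_degree {f : ℕ → ℤ}
    (hadd : ∀ r < T.n, ∀ s < T.n, ∀ u, (∀ j < T.rank, T.co u j = T.co r j + T.co s j) → f u = f r + f s)
    (hneg : ∀ r < T.n, f (T.neg r) = -f r) {r : ℕ} (hr : r < T.n) (k : ℕ) (row col : T.I)
    (h : T.A r k row col ≠ 0) :
    (Sum.elim (fun _ => (0 : ℤ)) (fun v => f v.val) row) =
      k * f r + Sum.elim (fun _ => (0 : ℤ)) (fun v => f v.val) col := by
  have hchain : ∀ (k : ℕ) (s : ℕ) (_ : s < T.n) (u : ℕ) (m : ℤ), T.chain r s k = some (u, m) →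
      f u = k * f r + f s := by
    intro k
    induction k with
    | zero => intro s _ u m h; simp [Tbl.chain] at h; simp [h.1]
    | succ k ih =>
      intro s hs u m h
      cases hc : T.chain r s k with
      | none => simp [chain_none_mono hc] at h
      | some p =>
        obtain ⟨v, n'⟩ := p
        have hv := chain_bound hT hr hs k v n' hc
        have ih' := ih s hs v n' hc
        rw [chain_succ, hc] at h
        cases hq : T.sum? r v with
        | none => simp [step, hq] at h
        | some q =>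
          simp [step, hq] at h
          rw [← h.1, hadd r hr v hv q.1 fun j hj => co_sum hT hr hv hq hj, ih']
          push_cast
          ring
  rw [A_apply] at h
  cases k with
  | zero =>
    simp only [colA, Pi.single_apply, ne_eq, ite_eq_right_iff, one_ne_zero, imp_false,
      not_not] at h
    simp [h]
  | succ k =>
    rcases col with i | s
    · simp only [colA] at h
      by_cases hk : k = 0
      · subst hk
        rcases row with j | v
        · simp [rootVec] at h
        · have : v.val = r := by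
            by_contra e; simp [rootVec, e] at h
          simp [this]
      · simp [hk] at h
    · simp only [colA] at h
      by_cases h1 : s.val = r
      · simp [h1] at h
      simp only [if_neg h1] at h
      by_cases h2 : s.val = T.neg r
      · simp only [if_pos h2] at h
        by_cases hk : k = 0
        · subst hk
          rcases row with j | v
          · simp [h2, hneg r hr]
          · simp [coVec] at h
        · by_cases hk1 : k = 1
          · subst hk1
            rcases row with j | v
            · simp [rootVec] at h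
            · have : v.val = r := by
                by_contra e; simp [rootVec, e] at h
              simp only [Sum.elim_inr, this, h2, hneg r hr]
              push_cast
              ring
          · simp [hk, hk1] at h
      simp only [if_neg h2] at h
      cases hc : T.chain r s.val (k + 1) with
      | none => simp [hc, optVec] at h
      | some p =>
        obtain ⟨u, m⟩ := p
        rw [hc] at h
        rcases row with j | v
        · simp [optVec, rootVec] at h
        · have : v.val = u := by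
            by_contra e; simp [optVec, rootVec, e] at h
          simp only [Sum.elim_inr, this, hchain (k + 1) s.val s.2 u m hc]

/-- The sum of the coefficients outside `J`, on indices. -/
theorem outDeg_A {J : Set ℕ} {r : ℕ} (hr : r < T.n) (k : ℕ) (row col : T.I)
    (h : T.A r k row col ≠ 0) :
    T.outDeg J row = k * T.outDeg J (Sum.inr ⟨r, hr⟩) + T.outDeg J col := by
  classical
  exact A_degree hT (f := fun r => ∑ j : Fin T.rank, Set.indicator Jᶜ (fun j => T.co r j) j.val)
    (fun a _ b _ u hu => by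
      rw [← Finset.sum_add_distrib]
      refine Finset.sum_congr rfl fun j _ => ?_
      simp only [Set.indicator_apply]
      split_ifs
      · exact hu j j.2
      · simp)
    (fun a ha => by
      rw [← Finset.sum_neg_distrib]
      refine Finset.sum_congr rfl fun j _ => ?_
      simp only [Set.indicator_apply]
      split_ifs
      · exact co_neg hT ha j.2
      · simp)
    hr k row col h

theorem blockDiag_xU {J : Set ℕ} {r : ℕ} (hr : r < T.n) (h0 : T.outDeg J (Sum.inr ⟨r, hr⟩) = 0)
    (t : F) : BlockDiag (T.outDeg J) (T.xU F r t) := by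
  intro row col hne
  rw [xU_val hT hr, X, Matrix.sum_apply]
  refine Finset.sum_eq_zero fun k _ => ?_
  simp only [Matrix.smul_apply, castM_apply, smul_eq_mul]
  by_cases h : T.A r k row col = 0
  · simp [h]
  · have := outDeg_A hT hr k row col h (J := J)
    rw [h0, mul_zero, zero_add] at this
    exact absurd this hne

theorem uniTri_outDeg {J : Set ℕ} {r : ℕ} (hr : r < T.n) (h0 : 0 < T.outDeg J (Sum.inr ⟨r, hr⟩))
    (t : F) : UniTri (T.outDeg J) (T.xU F r t) := by
  intro row col hle
  rw [xU_val hT hr, X, Finset.sum_range_succ', Matrix.add_apply, Matrix.sum_apply,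
    Finset.sum_eq_zero, zero_add]
  · simp [A_zero]
  · intro k _
    simp only [Matrix.smul_apply, castM_apply, smul_eq_mul]
    by_cases h : T.A r (k + 1) row col = 0
    · simp [h]
    · have := outDeg_A hT hr (k + 1) row col h (J := J)
      have h1 : 0 < ((k + 1 : ℕ) : ℤ) * T.outDeg J (Sum.inr ⟨r, hr⟩) := mul_pos (by positivity) h0
      omega

theorem outDeg_eq_zero (hS : T.chkSupp = true) {J : Set ℕ} {r : ℕ} (hr : r < T.n)
    (h : T.datum.InRootSub J r) : T.outDeg J (Sum.inr ⟨r, hr⟩) = 0 := by
  classical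
  have h' := (supp_inSub hT hS hr).mp h
  simp only [outDeg, Sum.elim_inr]
  refine Finset.sum_eq_zero fun j _ => ?_
  simp only [Set.indicator_apply]
  split_ifs with hj
  · exact h' j.val j.2 hj
  · rfl

theorem outDeg_pos (hS : T.chkSupp = true) {J : Set ℕ} {r : ℕ} (hr : r < T.n) (hp : T.half ≤ r)
    (h : ¬ T.datum.InRootSub J r) : 0 < T.outDeg J (Sum.inr ⟨r, hr⟩) := by
  classical
  rw [supp_inSub hT hS hr] at h
  push Not at h
  obtain ⟨i, hi, hij, hne⟩ := h
  simp only [outDeg, Sum.elim_inr]
  refine Finset.sum_pos' (fun j _ => ?_) ⟨⟨i, hi⟩, Finset.mem_univ _, ?_⟩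
  · simp only [Set.indicator_apply]
    split_ifs
    · exact co_nonneg hT hr (isPos_iff.mpr hp) j.2
    · exact le_rfl
  · rw [Set.indicator_of_mem (show i ∈ Jᶜ from hij)]
    have := co_nonneg hT hr (isPos_iff.mpr hp) hi
    omega

theorem posRoot_iff {r : ℕ} : T.datum.IsPosRoot r ↔ r < T.n ∧ T.half ≤ r := by
  rw [isPosRoot_iff hT, isPos_iff]

theorem closure_roots_eq (P : ℕ → Prop) (hP : ∀ r, P r → r < T.n) :
    Subgroup.closure {g : GL T.datum.Idx F | ∃ (r : ℕ) (t : F), P r ∧
      (g : Matrix T.datum.Idx T.datum.Idx F) = T.datum.x F r t} = T.rootGen F P := by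
  refine le_antisymm ((Subgroup.closure_le _).mpr ?_) (rootGen_le fun r hr h t =>
    Subgroup.subset_closure ⟨r, t, h, (eq_x_iff hT hr t _).mpr rfl⟩)
  rintro g ⟨r, t, h, e⟩
  rw [(eq_x_iff hT (hP r h) t g).mp e]
  exact xU_mem_rootGen (hP r h) h t

theorem unipotentRadical_eq (J : Set ℕ) :
    T.datum.unipotentRadical F J =
      T.rootGen F (fun r => T.datum.IsPosRoot r ∧ ¬ T.datum.InRootSub J r) := by
  rw [← closure_roots_eq hT _ fun r h => ((posRoot_iff hT).mp h.1).1]
  unfold Cfsg.Lie.ChevalleyDatum.unipotentRadical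
  congr 1
  ext g
  exact exists_congr fun r => exists_congr fun t => (and_assoc).symm

theorem leviSubgroup_eq (J : Set ℕ) :
    T.datum.leviSubgroup F J =
      T.datum.diagonalSubgroup F ⊔ T.rootGen F (T.datum.InRootSub J) := by
  rw [← closure_roots_eq hT _ fun r h => h.1]
  rfl

theorem mem_nJ {J : Set ℕ} {j : ℕ} (hj : j < T.rank) (hJ : j ∈ J) :
    T.nU F (T.simple j) 1 ∈ T.datum.parabolicSubgroup F J :=
  Subgroup.mem_sup_right (Subgroup.subset_closure ⟨j, hJ, hj, (eq_nMat_simple_iff hT hj _).mpr rfl⟩)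

theorem inSub_refl (hS : T.chkSupp = true) {J : Set ℕ} {i r : ℕ} (hi : i < T.rank) (hiJ : i ∈ J)
    (hr : r < T.n) (h : T.datum.InRootSub J r) : T.datum.InRootSub J (T.refl i r) := by
  rw [supp_inSub hT hS hr] at h
  rw [supp_inSub hT hS (refl_lt hT hi hr)]
  intro k hk hkJ
  rw [co_refl hT hi hr hk, if_neg (fun e : k = i => hkJ (by rw [e]; exact hiJ)), sub_zero]
  exact h k hk hkJ

theorem xU_mem_parabolic (hS : T.chkSupp = true) {J : Set ℕ} :
    ∀ (m : ℕ) (r : ℕ), r < T.n → T.isPos r = true → (T.ht r).toNat ≤ m → T.datum.InRootSub J r →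
      (∀ t, T.xU F r t ∈ T.datum.parabolicSubgroup F J) ∧
        ∀ t, T.xU F (T.neg r) t ∈ T.datum.parabolicSubgroup F J := by
  intro m
  induction m with
  | zero => intro r hr hp hm; have := ht_pos hT hr hp; omega
  | succ m ih =>
    intro r hr hp hm hsub
    have hpos : ∀ t, T.xU F r t ∈ T.datum.parabolicSubgroup F J :=
      fun t => Subgroup.mem_sup_left (pos_le_borel hT hr (isPos_iff.mp hp) t)
    refine ⟨hpos, fun t => ?_⟩
    obtain ⟨i, hi, hne1, hne2⟩ : ∃ i < T.rank, 0 < T.ca i r ∧ T.cv r i ≠ 0 := by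
      by_contra hno
      push Not at hno
      have h2 := pair_self hT hr
      rw [pair_eq_sum] at h2
      have : ∑ i : Fin T.rank, T.cv r i * T.ca i r ≤ 0 := by
        refine Finset.sum_nonpos fun i _ => ?_
        by_cases hc : T.cv r i = 0
        · rw [hc, zero_mul]
        · exact mul_nonpos_of_nonneg_of_nonpos (cv_nonneg hT hr hp i.2)
            (le_of_not_gt fun hgt => hc (hno i i.2 hgt))
      omega
    have hiJ : i ∈ J := by
      by_contra hiJ
      exact hne2 (by rw [← datum_coroot hr hi]; exact hsub.2 i hi hiJ)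
    have hn := mem_nJ (F := F) hT hi hiJ
    by_cases hsimp : r = T.simple i
    · subst hsimp
      have e : T.xU F (T.neg (T.simple i)) t =
          T.nU F (T.simple i) 1 * T.xU F (T.simple i) (-t) * (T.nU F (T.simple i) 1)⁻¹ := by
        rw [nU_conj hT hr, neg_neg, mul_inv_cancel_right]
      rw [e]
      exact mul_mem (mul_mem hn (hpos _)) (inv_mem hn)
    · have hr' := refl_lt hT hi hr
      have hp' := isPos_refl hT hi hr hp hsimp
      have hh := ht_refl hT hi hr
      have h1 := ht_pos hT hr' hp'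
      have hrec := (ih _ hr' hp' (by omega) (inSub_refl hT hS hi hiJ hr hsub)).2
      have e := nU_simple_xU (F := F) hT hi (neg_lt' hr') ((T.eta i (T.neg (T.refl i r)) : F) * t)
      rw [refl_neg hT hi hr', refl_refl hT hi hr, ← mul_assoc] at e
      have hee : (T.eta i (T.neg (T.refl i r)) : F) * (T.eta i (T.neg (T.refl i r)) : F) = 1 := by
        rcases eta_sq hT hi (neg_lt' hr') with h' | h' <;> simp [h']
      rw [hee, one_mul] at e
      rw [eq_mul_inv_of_mul_eq e.symm]
      exact mul_mem (mul_mem hn (hrec _)) (inv_mem hn)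

theorem parabolic_eq_gen (hS : T.chkSupp = true) (J : Set ℕ) :
    T.datum.parabolicSubgroup F J = T.datum.diagonalSubgroup F ⊔
      T.rootGen F (fun r => T.datum.IsPosRoot r ∨ T.datum.InRootSub J r) := by
  refine le_antisymm (sup_le (sup_le ?_ le_sup_left) ((Subgroup.closure_le _).mpr ?_))
    (sup_le (le_sup_of_le_left le_sup_right) (rootGen_le fun r hr h t => ?_))
  · refine le_sup_of_le_right ?_
    rw [posUnipotent_rootGen hT]
    exact rootGen_mono fun r hr h => Or.inl ((posRoot_iff hT).mpr ⟨hr, h⟩)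
  · rintro g ⟨j, hjJ, hj, hg⟩
    rw [(eq_nMat_simple_iff hT hj g).mp hg]
    have hp := simple_lt hT hj
    have hin : T.datum.InRootSub J (T.simple j) := by
      rw [supp_inSub hT hS hp]
      intro k hk hkJ
      rw [co_simple hT hj hk, if_neg (fun e : k = j => hkJ (by rw [e]; exact hjJ))]
    have hin' : T.datum.InRootSub J (T.neg (T.simple j)) := by
      rw [supp_inSub hT hS (neg_lt' hp)]
      intro k hk hkJ
      rw [co_neg hT hp hk, (supp_inSub hT hS hp).mp hin k hk hkJ, _root_.neg_zero]
    refine Subgroup.mem_sup_right (mul_mem (mul_mem ?_ ?_) ?_)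
    · exact xU_mem_rootGen (P := fun r => T.datum.IsPosRoot r ∨ T.datum.InRootSub J r) hp (Or.inr hin) _
    · exact xU_mem_rootGen (P := fun r => T.datum.IsPosRoot r ∨ T.datum.InRootSub J r) (neg_lt' hp)
        (Or.inr hin') _
    · exact xU_mem_rootGen (P := fun r => T.datum.IsPosRoot r ∨ T.datum.InRootSub J r) hp (Or.inr hin) _
  · by_cases hp : T.half ≤ r
    · exact Subgroup.mem_sup_left (pos_le_borel hT hr hp t)
    · rcases h with h | h
      · exact absurd ((posRoot_iff hT).mp h).2 hp
      · have hr' := neg_lt' hr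
        have hp' : T.isPos (T.neg r) = true := by rw [isPos_iff]; unfold neg n at *; omega
        have hin : T.datum.InRootSub J (T.neg r) := by
          rw [supp_inSub hT hS hr']
          intro k hk hkJ
          rw [co_neg hT hr hk, (supp_inSub hT hS hr).mp h k hk hkJ, _root_.neg_zero]
        have := (xU_mem_parabolic (F := F) hT hS _ (T.neg r) hr' hp' le_rfl hin).2 t
        rwa [neg_neg' hr] at this

variable (hC : T.chkComm = true)
include hC

theorem parabolic_le_normalizer (hS : T.chkSupp = true) (J : Set ℕ) :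
    T.datum.parabolicSubgroup F J ≤
      Subgroup.normalizer (T.datum.unipotentRadical F J : Set (GL T.datum.Idx F)) := by
  rw [unipotentRadical_eq hT, parabolic_eq_gen hT hS]
  refine sup_le (diag_le_normalizer hT _) (rootGen_le fun r hr hrP t => ?_)
  refine xU_mem_normalizer hT hC hr (fun s hs ⟨hsp, hsJ⟩ hne => ⟨?_, fun c hc => ?_⟩) t
  · intro e
    subst e
    have hsp' := ((posRoot_iff hT).mp hsp).2
    rcases hrP with h | h
    · have := ((posRoot_iff hT).mp h).2
      unfold neg n at *; omega
    · refine hsJ ((supp_inSub hT hS (neg_lt' hr)).mpr fun k hk hkJ => ?_)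
      rw [co_neg hT hr hk, (supp_inSub hT hS hr).mp h k hk hkJ, _root_.neg_zero]
  · have hsp' := ((posRoot_iff hT).mp hsp).2
    rw [supp_inSub hT hS hs] at hsJ
    push Not at hsJ
    obtain ⟨k, hk, hkJ, hk0⟩ := hsJ
    obtain ⟨-, hj, hco⟩ := commT_co hT hr hs c hc
    have hrk : 0 ≤ T.co r k := by
      rcases hrP with h | h
      · exact co_nonneg hT hr (isPos_iff.mpr ((posRoot_iff hT).mp h).2) hk
      · rw [(supp_inSub hT hS hr).mp h k hk hkJ]
    have hsk : 0 < T.co s k :=
      lt_of_le_of_ne (co_nonneg hT hs (isPos_iff.mpr hsp') hk) (Ne.symm hk0)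
    have hck : 0 < T.co c.1 k := by
      rw [hco k hk]
      have h1 : 0 ≤ (c.2.2.1 : ℤ) * T.co r k := mul_nonneg (by positivity) hrk
      have h2 : 0 < (c.2.2.2 : ℤ) * T.co s k := mul_pos (by exact_mod_cast hj) hsk
      omega
    have hcn := commT_lt hT hr hs c hc
    refine ⟨(posRoot_iff hT).mpr ⟨hcn, half_le_of_co hT hcn hk hck⟩, fun h => ?_⟩
    rw [(supp_inSub hT hS hcn).mp h k hk hkJ] at hck
    exact lt_irrefl _ hck

omit hC in
theorem levi_decomposition (hS : T.chkSupp = true) (J : Set ℕ) :
    T.datum.unipotentRadical F J ⊔ T.datum.leviSubgroup F J = T.datum.parabolicSubgroup F J ∧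
      T.datum.unipotentRadical F J ⊓ T.datum.leviSubgroup F J = ⊥ := by
  rw [unipotentRadical_eq hT, leviSubgroup_eq hT, parabolic_eq_gen hT hS]
  constructor
  · refine le_antisymm (sup_le (le_sup_of_le_right (rootGen_mono fun r _ h => Or.inl h.1))
      (sup_le le_sup_left (le_sup_of_le_right (rootGen_mono fun r _ h => Or.inr h))))
      (sup_le (le_sup_of_le_right le_sup_left) (rootGen_le fun r hr h t => ?_))
    by_cases hJ : T.datum.InRootSub J r
    · exact Subgroup.mem_sup_right (Subgroup.mem_sup_right (xU_mem_rootGen hr hJ t))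
    · exact Subgroup.mem_sup_left (xU_mem_rootGen
        (P := fun r => T.datum.IsPosRoot r ∧ ¬ T.datum.InRootSub J r) hr
        ⟨h.resolve_right hJ, hJ⟩ t)
  · rw [eq_bot_iff]
    intro g hg
    obtain ⟨hu, hl⟩ := Subgroup.mem_inf.mp hg
    rw [Subgroup.mem_bot]
    have hu' : T.rootGen F (fun r => T.datum.IsPosRoot r ∧ ¬ T.datum.InRootSub J r) ≤
        T.uniSub F (T.outDeg J) := by
      refine rootGen_le fun r hr h t => ?_
      have hp := outDeg_pos hT hS hr ((posRoot_iff hT).mp h.1).2 h.2
      exact ⟨uniTri_outDeg hT hr hp t, by rw [xU_inv hT hr]; exact uniTri_outDeg hT hr hp _⟩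
    let K : Subgroup (GL T.I F) :=
      { carrier := {g | BlockDiag (T.outDeg J) g ∧ BlockDiag (T.outDeg J) g⁻¹}
        mul_mem' := fun h h' => ⟨h.1.mul h'.1, by rw [_root_.mul_inv_rev]; exact h'.2.mul h.2⟩
        one_mem' := by
          have h1 : BlockDiag (T.outDeg J) (1 : GL T.I F) := fun row col hne => by
            rw [Units.val_one, Matrix.one_apply_ne]
            rintro rfl; exact hne rfl
          exact ⟨h1, by rw [inv_one]; exact h1⟩
        inv_mem' := fun h => ⟨h.2, by rw [inv_inv]; exact h.1⟩ }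
    have hl' : T.datum.diagonalSubgroup F ⊔ T.rootGen F (T.datum.InRootSub J) ≤ K := by
      refine sup_le (fun h hh => ?_) (rootGen_le fun r hr h t => ?_)
      · have hd : ∀ x ∈ T.datum.diagonalSubgroup F, BlockDiag (T.outDeg J) x := by
          intro x hx row col hne
          obtain ⟨χ, -, rfl⟩ := diag_exists_char hT hx
          rw [dU_val, Matrix.diagonal_apply_ne]
          rintro rfl; exact hne rfl
        exact ⟨hd h hh, hd _ (inv_mem hh)⟩
      · have h0 := outDeg_eq_zero hT hS hr h
        exact ⟨blockDiag_xU hT hr h0 t, by rw [xU_inv hT hr]; exact blockDiag_xU hT hr h0 _⟩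
    apply Units.ext
    ext row col
    rcases le_or_gt (T.outDeg J row) (T.outDeg J col) with hle | hlt
    · rw [(hu' hu).1 row col hle, Units.val_one]
    · rw [(hl' hl).1 row col (ne_of_gt hlt), Units.val_one, Matrix.one_apply_ne]
      rintro rfl; exact lt_irrefl _ hlt

theorem normalizer_radical (hS : T.chkSupp = true) (J : Set ℕ) :
    Subgroup.normalizer (T.datum.unipotentRadical F J : Set (GL T.datum.Idx F)) ⊓ T.datum.group F =
      T.datum.parabolicSubgroup F J := by
  have hPG : T.datum.parabolicSubgroup F J ≤ T.datum.group F := by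
    refine sup_le (borel_le_group hT) ((Subgroup.closure_le _).mpr ?_)
    rintro g ⟨j, -, hj, hg⟩
    rw [(eq_nMat_simple_iff hT hj g).mp hg]
    exact nU_mem_group hT (simple_lt hT hj) _
  refine le_antisymm ?_ (le_inf (parabolic_le_normalizer hT hC hS J) hPG)
  intro g hg
  obtain ⟨hgN, hgG⟩ := Subgroup.mem_inf.mp hg
  let M : Subgroup ↥(T.datum.group F) := (Subgroup.normalizer
    (T.datum.unipotentRadical F J : Set (GL T.datum.Idx F))).subgroupOf (T.datum.group F)
  let P := bnPair hT hC F
  have hBM : P.B ≤ M := fun b hb => Subgroup.mem_subgroupOf.mpr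
    (parabolic_le_normalizer hT hC hS J (Subgroup.mem_sup_left (Subgroup.mem_subgroupOf.mp hb)))
  have hle : P.parabolic (P.S ∩ M) ≤
      (T.datum.parabolicSubgroup F J).subgroupOf (T.datum.group F) := by
    refine sup_le (fun b hb => Subgroup.mem_subgroupOf.mpr
      (Subgroup.mem_sup_left (Subgroup.mem_subgroupOf.mp hb))) ((Subgroup.closure_le _).mpr ?_)
    rintro s ⟨⟨i, hi, hs⟩, hsM⟩
    have hs' := (eq_nMat_simple_iff hT hi _).mp hs
    rw [SetLike.mem_coe, Subgroup.mem_subgroupOf, hs']
    by_cases hiJ : i ∈ J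
    · exact mem_nJ hT hi hiJ
    exfalso
    have hp := simple_lt hT hi
    have hpp : T.half ≤ T.simple i := isPos_iff.mp (simple_pos hT hi)
    have hout : ¬ T.datum.InRootSub J (T.simple i) := fun h => by
      have := (supp_inSub hT hS hp).mp h i hi hiJ
      rw [co_simple hT hi hi, if_pos rfl] at this
      exact one_ne_zero this
    have hnM := Subgroup.mem_subgroupOf.mp hsM
    rw [hs', unipotentRadical_eq hT] at hnM
    have hx := (Subgroup.mem_normalizer_iff.mp hnM (T.xU F (T.simple i) (-1))).mp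
      (xU_mem_rootGen (P := fun r => T.datum.IsPosRoot r ∧ ¬ T.datum.InRootSub J r) hp
        ⟨(posRoot_iff hT).mpr ⟨hp, hpp⟩, hout⟩ _)
    rw [nU_conj hT hp, neg_neg, mul_inv_cancel_right] at hx
    have hB : T.xU F (T.neg (T.simple i)) 1 ∈ T.datum.borelSubgroup F := by
      refine (rootGen_le fun r hr h t => pos_le_borel hT hr ((posRoot_iff hT).mp h.1).2 t :
        T.rootGen F (fun r => T.datum.IsPosRoot r ∧ ¬ T.datum.InRootSub J r) ≤
          T.datum.borelSubgroup F) hx
    have hV : T.xU F (T.neg (T.simple i)) 1 ∈ T.datum.negUnipotent F := by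
      rw [negUnipotent_rootGen hT]
      exact xU_mem_rootGen (P := fun r => r < T.half) (neg_lt' hp)
        (negF_lt (T := T) (s := ⟨_, hp⟩) hpp) _
    have h0 : T.xU F (T.neg (T.simple i)) 1 ∈ (⊥ : Subgroup (GL T.I F)) :=
      borel_inf_neg (T := T) (F := F) hT ▸ Subgroup.mem_inf.mpr ⟨hB, hV⟩
    rw [Subgroup.mem_bot, ← xU_zero hT (neg_lt' hp)] at h0
    exact one_ne_zero (xU_inj hT (neg_lt' hp) h0)
  have hgM : (⟨g, hgG⟩ : ↥(T.datum.group F)) ∈ M := Subgroup.mem_subgroupOf.mpr hgN
  rw [BNPair.Parabolic.eq_parabolic P hBM] at hgM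
  exact Subgroup.mem_subgroupOf.mp (hle hgM)

theorem conj_diag_in_N {h₁ h₂ g : GL T.I F} (h1 : h₁ ∈ T.datum.diagonalSubgroup F)
    (h2 : h₂ ∈ T.datum.diagonalSubgroup F) (hg : g ∈ T.datum.group F) (hc : g * h₁ * g⁻¹ = h₂) :
    ∃ n ∈ T.datum.monomialSubgroup F, n * h₁ * n⁻¹ = h₂ := by
  obtain ⟨b, hb, n, hn, w, -, hm, u, hu, e⟩ := exists_canonical hT hC hg
  obtain ⟨u1, hu1, h, hh, rfl⟩ := (mem_borel_iff hT).mp hb
  have hn' : h * n ∈ T.datum.monomialSubgroup F := mul_mem (diag_le_N hT hh) hn
  have hm' : T.Mono (h * n) w := by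
    have := (mono_diag hT hh).mul hm
    rwa [one_mul] at this
  refine ⟨h * n, hn', ?_⟩
  set n' := h * n with hn'def
  have e' : g = u1 * n' * u := by rw [e, hn'def]; group
  have hu1B : u1 ∈ T.datum.borelSubgroup F := Subgroup.mem_sup_left hu1
  have hnh : n' * h₁ * n'⁻¹ ∈ T.datum.diagonalSubgroup F := conj_diag hT hn' h1
  have hu' : h₁⁻¹ * u * h₁ ∈ T.rootGen F (T.negSet w) := by
    have := (Subgroup.mem_normalizer_iff.mp (diag_le_normalizer hT (T.negSet w) (inv_mem h1)) u).mp hu
    rwa [inv_inv] at this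
  have heq : (h₂ * u1) * n' * u = (u1 * (n' * h₁ * n'⁻¹)) * n' * (h₁⁻¹ * u * h₁) := by
    have : h₂ * g = g * h₁ := by rw [← hc, inv_mul_cancel_right]
    rw [e'] at this
    calc h₂ * u1 * n' * u = h₂ * (u1 * n' * u) := by group
      _ = u1 * n' * u * h₁ := this
      _ = _ := by group
  obtain ⟨-, h2'⟩ := canonical_unique hT hC (mul_mem (Subgroup.mem_sup_right h2) hu1B)
    (mul_mem hu1B (Subgroup.mem_sup_right hnh)) hn' hn' hm' hu hu' heq
  have hB := (h2' hm' rfl).1
  have hN : h₂ * u1 * h₂⁻¹ ∈ T.datum.posUnipotent F := by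
    have hle : T.datum.diagonalSubgroup F ≤
        Subgroup.normalizer (T.datum.posUnipotent F : Set (GL T.I F)) := by
      rw [posUnipotent_rootGen hT]; exact diag_le_normalizer hT _
    exact (Subgroup.mem_normalizer_iff.mp (hle h2) u1).mp hu1
  have hkey : u1⁻¹ * (h₂ * u1 * h₂⁻¹) = n' * h₁ * n'⁻¹ * h₂⁻¹ := by
    calc u1⁻¹ * (h₂ * u1 * h₂⁻¹) = u1⁻¹ * (h₂ * u1) * h₂⁻¹ := by group
      _ = u1⁻¹ * (u1 * (n' * h₁ * n'⁻¹)) * h₂⁻¹ := by rw [hB]
      _ = _ := by group
  have hmem : n' * h₁ * n'⁻¹ * h₂⁻¹ ∈ (⊥ : Subgroup (GL T.I F)) := by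
    rw [← pos_inf_diag (T := T) (F := F) hT]
    refine Subgroup.mem_inf.mpr ⟨?_, mul_mem hnh (inv_mem h2)⟩
    rw [← hkey]
    exact mul_mem (inv_mem hu1) hN
  rw [Subgroup.mem_bot, mul_inv_eq_one] at hmem
  exact hmem

end CfsgLib.Chevalley.Tbl
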