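import Cfsg.Agent.Lib.Chevalley.Words

/-!
Subgroups generated by root subgroups and the combinatorics of the commutator terms.
-/

set_option autoImplicit false

namespace CfsgLib.Chevalley.Tbl

/-- The subgroup generated by the root subgroups of the roots with a property. -/
def rootGen (T : Tbl) (F : Type*) [Field F] (P : ℕ → Prop) : Subgroup (GL T.I F) :=
  Subgroup.closure {g | ∃ r < T.n, P r ∧ ∃ t, g = T.xU F r t}

variable {T : Tbl} {F : Type*} [Field F]

theorem xU_mem_rootGen {P : ℕ → Prop} {r : ℕ} (hr : r < T.n) (hP : P r) (t : F) :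
    T.xU F r t ∈ T.rootGen F P :=
  Subgroup.subset_closure ⟨r, hr, hP, t, rfl⟩

theorem rootGen_le {P : ℕ → Prop} {K : Subgroup (GL T.I F)}
    (h : ∀ r < T.n, P r → ∀ t, T.xU F r t ∈ K) : T.rootGen F P ≤ K :=
  (Subgroup.closure_le _).mpr (by rintro _ ⟨r, hr, hP, t, rfl⟩; exact h r hr hP t)

theorem rootGen_mono {P Q : ℕ → Prop} (h : ∀ r < T.n, P r → Q r) :
    T.rootGen F P ≤ T.rootGen F Q :=
  rootGen_le fun r hr hP t => xU_mem_rootGen hr (h r hr hP) t

theorem rootGen_congr {P Q : ℕ → Prop} (h : ∀ r < T.n, P r ↔ Q r) :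
    T.rootGen F P = T.rootGen F Q :=
  le_antisymm (rootGen_mono fun r hr => (h r hr).mp) (rootGen_mono fun r hr => (h r hr).mpr)

variable (hT : T.Valid)
include hT

theorem rootGen_eq_singleton {r : ℕ} (hr : r < T.n) :
    T.rootGen F (fun s => s = r) = T.datum.rootSubgroup F r := by
  rw [rootSubgroup_eq hT hr]
  refine le_antisymm ?_ ((Subgroup.closure_le _).mpr ?_)
  · exact rootGen_le fun s _ h t => by subst h; exact Subgroup.subset_closure ⟨t, rfl⟩
  · rintro _ ⟨t, rfl⟩; exact xU_mem_rootGen (P := fun s => s = r) hr rfl t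

theorem posUnipotent_rootGen :
    T.datum.posUnipotent F = T.rootGen F (fun r => T.half ≤ r) := by
  rw [posUnipotent_eq hT, rootGen]
  simp only [isPos_iff]

theorem negUnipotent_rootGen :
    T.datum.negUnipotent F = T.rootGen F (fun r => r < T.half) := by
  rw [negUnipotent_eq hT, rootGen]
  congr 1
  ext g
  refine exists_congr fun r => and_congr_right fun _ => and_congr_left fun _ => ?_
  rw [Bool.eq_false_iff, Ne, isPos_iff, not_le]

theorem chain_co {r s : ℕ} (hr : r < T.n) (hs : s < T.n) :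
    ∀ k u m, T.chain r s k = some (u, m) → ∀ j < T.rank, T.co u j = k * T.co r j + T.co s j
  | 0, u, m, h, j, _ => by simp [Tbl.chain] at h; simp [h.1]
  | k + 1, u, m, h, j, hj => by
    cases hc : T.chain r s k with
    | none => simp [chain_none_mono hc] at h
    | some p =>
      obtain ⟨v, n'⟩ := p
      have hv := chain_bound hT hr hs k v n' hc
      have ih := chain_co hr hs k v n' hc j hj
      rw [chain_succ, hc] at h
      cases hq : T.sum? r v with
      | none => simp [step, hq] at h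
      | some q =>
        simp [step, hq] at h
        rw [← h.1, co_sum hT hr hv hq hj, ih]
        push_cast
        ring

theorem chain_gt {r s : ℕ} (hr : r < T.n) (hs : s < T.n) (hp : T.isPos r = true) :
    ∀ k u m, T.chain r s (k + 1) = some (u, m) → s < u ∧ (T.isPos s = true → r < u) := by
  intro k
  induction k with
  | zero =>
    intro u m h
    rw [chain_one] at h
    exact ⟨sum?_pos_left hT hr hs h hp,
      fun hq => sum?_pos_left hT hs hr (sum?_symm hT hr hs h) hq⟩
  | succ k ih =>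
    intro u m h
    cases hc : T.chain r s (k + 1) with
    | none => simp [chain_none_mono hc] at h
    | some p =>
      obtain ⟨v, n'⟩ := p
      have hv := chain_bound hT hr hs (k + 1) v n' hc
      obtain ⟨h1, h2⟩ := ih v n' hc
      rw [chain_succ, hc] at h
      cases hq : T.sum? r v with
      | none => simp [step, hq] at h
      | some q =>
        simp [step, hq] at h
        have h3 : v < q.1 := sum?_pos_left hT hr hv hq hp
        rw [← h.1]
        exact ⟨by omega, fun e => by have := h2 e; omega⟩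

theorem chain_lt {r s : ℕ} (hr : r < T.n) (hs : s < T.n) (hp : T.isPos r = false) :
    ∀ k u m, T.chain r s (k + 1) = some (u, m) → u < s := by
  intro k
  induction k with
  | zero =>
    intro u m h
    rw [chain_one] at h
    exact sum?_neg_left hT hr hs h hp
  | succ k ih =>
    intro u m h
    cases hc : T.chain r s (k + 1) with
    | none => simp [chain_none_mono hc] at h
    | some p =>
      obtain ⟨v, n'⟩ := p
      have hv := chain_bound hT hr hs (k + 1) v n' hc
      have h1 := ih v n' hc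
      rw [chain_succ, hc] at h
      cases hq : T.sum? r v with
      | none => simp [step, hq] at h
      | some q =>
        simp [step, hq] at h
        have h3 : q.1 < v := sum?_neg_left hT hr hv hq hp
        rw [← h.1]; omega

/-- Each term `(v, C, i, j)` has root `i r + j s` with `i, j > 0`. -/
theorem commT_co {r s : ℕ} (hr : r < T.n) (hs : s < T.n) :
    ∀ c ∈ T.commT r s, 0 < c.2.2.1 ∧ 0 < c.2.2.2 ∧
      ∀ k < T.rank, T.co c.1 k = c.2.2.1 * T.co r k + c.2.2.2 * T.co s k := by
  intro c hc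
  have key : ∀ {a b k v : ℕ}, a < T.n → b < T.n → (T.chain a b k).map Prod.fst = some v →
      v < T.n ∧ ∀ j < T.rank, T.co v j = k * T.co a j + T.co b j := by
    intro a b k v ha hb h
    obtain ⟨p, hp, rfl⟩ := Option.map_eq_some_iff.mp h
    exact ⟨chain_bound hT ha hb k p.1 p.2 hp, chain_co hT ha hb k p.1 p.2 hp⟩
  simp only [commT, List.mem_filterMap, List.mem_cons, List.not_mem_nil, or_false] at hc
  obtain ⟨p, hp, h⟩ := hc
  obtain ⟨v, hv, rfl⟩ := Option.map_eq_some_iff.mp h
  rcases hp with rfl | rfl | rfl | rfl | rfl | rfl | rfl <;> refine ⟨by norm_num, by norm_num, fun k hk => ?_⟩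
  iterate 2 (rw [(key hr hs hv).2 k hk]; push_cast; ring)
  · rw [(key hs hr hv).2 k hk]; push_cast; ring
  · rw [(key hr hs hv).2 k hk]; push_cast; ring
  · rw [(key hs hr hv).2 k hk]; push_cast; ring
  · obtain ⟨w, hw, hw'⟩ := Option.bind_eq_some_iff.mp hv
    rw [(key (key hr hs hw).1 hs hw').2 k hk, (key hr hs hw).2 k hk]; push_cast; ring
  · obtain ⟨w, hw, hw'⟩ := Option.bind_eq_some_iff.mp hv
    rw [(key (key hs hr hw).1 hr hw').2 k hk, (key hs hr hw).2 k hk]; push_cast; ring

/-- For positive roots every term comes after both of them. -/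
theorem commT_gt {r s : ℕ} (hr : r < T.n) (hs : s < T.n) (hp : T.half ≤ r) (hq : T.half ≤ s) :
    ∀ c ∈ T.commT r s, r < c.1 ∧ s < c.1 := by
  intro c hc
  have key : ∀ {a b k v : ℕ}, a < T.n → b < T.n → T.half ≤ a → T.half ≤ b →
      (T.chain a b (k + 1)).map Prod.fst = some v → a < v ∧ b < v ∧ v < T.n ∧ T.half ≤ v := by
    intro a b k v ha hb pa pb h
    obtain ⟨p, hp, rfl⟩ := Option.map_eq_some_iff.mp h
    obtain ⟨h1, h2⟩ := chain_gt hT ha hb (isPos_iff.mpr pa) k p.1 p.2 hp
    exact ⟨h2 (isPos_iff.mpr pb), h1, chain_bound hT ha hb _ p.1 p.2 hp, by omega⟩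
  simp only [commT, List.mem_filterMap, List.mem_cons, List.not_mem_nil, or_false] at hc
  obtain ⟨p, hmem, h⟩ := hc
  obtain ⟨v, hv, rfl⟩ := Option.map_eq_some_iff.mp h
  rcases hmem with rfl | rfl | rfl | rfl | rfl | rfl | rfl
  iterate 2 exact ⟨(key hr hs hp hq hv).1, (key hr hs hp hq hv).2.1⟩
  · exact ⟨(key hs hr hq hp hv).2.1, (key hs hr hq hp hv).1⟩
  · exact ⟨(key hr hs hp hq hv).1, (key hr hs hp hq hv).2.1⟩
  · exact ⟨(key hs hr hq hp hv).2.1, (key hs hr hq hp hv).1⟩
  · obtain ⟨w, hw, hw'⟩ := Option.bind_eq_some_iff.mp hv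
    obtain ⟨a1, a2, a3, a4⟩ := key hr hs hp hq hw
    obtain ⟨b1, b2, -⟩ := key a3 hs a4 hq hw'
    exact ⟨lt_trans a1 b1, b2⟩
  · obtain ⟨w, hw, hw'⟩ := Option.bind_eq_some_iff.mp hv
    obtain ⟨a1, a2, a3, a4⟩ := key hs hr hq hp hw
    obtain ⟨b1, b2, -⟩ := key a3 hr a4 hp hw'
    exact ⟨b2, lt_trans a1 b1⟩

variable (hC : T.chkComm = true)
include hC

/-- The commutator formula in the general linear group. -/
theorem comm_xU {r s : ℕ} (hr : r < T.n) (hs : s < T.n) (hrs : s ≠ r) (hneg : s ≠ T.neg r) (t u : F) :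
    T.xU F s u * T.xU F r t = T.xU F r t * T.xU F s u *
      ((T.commT r s).map fun c =>
        T.xU F c.1 ((c.2.1 : F) * (-t) ^ c.2.2.1 * u ^ c.2.2.2)).prod := by
  apply Units.ext
  have h := comm_x hT hC hr hs hrs hneg t u
  rw [x_eq_val hT hr, x_eq_val hT hs] at h
  rw [wordMat_eq hT _ (by
    intro p hp
    simp only [Cfsg.Lie.ChevalleyDatum.commWord, datum_commTerms hT hr hs, List.mem_map] at hp
    obtain ⟨c, hc, rfl⟩ := hp
    exact commT_lt hT hr hs c hc)] at h
  simp only [Cfsg.Lie.ChevalleyDatum.commWord, datum_commTerms hT hr hs, List.map_map] at h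
  simpa [Units.val_mul, Function.comp_def] using h

theorem xU_mem_normalizer {P : ℕ → Prop} {r : ℕ} (hr : r < T.n)
    (h : ∀ s < T.n, P s → s ≠ r → s ≠ T.neg r ∧ ∀ c ∈ T.commT r s, P c.1) (t : F) :
    T.xU F r t ∈ Subgroup.normalizer (T.rootGen F P : Set (GL T.I F)) := by
  have key : ∀ a : F, ∀ g ∈ T.rootGen F P, (T.xU F r a)⁻¹ * g * T.xU F r a ∈ T.rootGen F P := by
    intro a g hg
    induction hg using Subgroup.closure_induction with
    | mem x hx =>
      obtain ⟨s, hs, hP, u, rfl⟩ := hx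
      by_cases hsr : s = r
      · subst hsr
        rw [xU_inv hT hr, xU_add hT hr, xU_add hT hr]
        exact xU_mem_rootGen hr hP _
      obtain ⟨hn, hc⟩ := h s hs hP hsr
      rw [mul_assoc, comm_xU hT hC hr hs hsr hn, ← mul_assoc, ← mul_assoc, inv_mul_cancel, one_mul]
      refine mul_mem (xU_mem_rootGen hs hP u) (list_prod_mem fun y hy => ?_)
      obtain ⟨c, hc', rfl⟩ := List.mem_map.mp hy
      exact xU_mem_rootGen (commT_lt hT hr hs c hc') (hc c hc') _
    | one => simp
    | mul x y _ _ hx hy => simpa [mul_assoc] using mul_mem hx hy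
    | inv x _ hx => simpa [mul_assoc] using inv_mem hx
  refine Subgroup.mem_normalizer_iff.mpr fun g => ⟨fun hg => ?_, fun hg => ?_⟩
  · have := key (-t) g hg
    rwa [← xU_inv hT hr, inv_inv] at this
  · have := key t _ hg
    simpa [mul_assoc] using this

/-- Positive roots from `k` on are normalised by all positive root elements. -/
theorem xU_mem_normalizer_ge {r k : ℕ} (hr : r < T.n) (hp : T.half ≤ r) (hk : T.half ≤ k) (t : F) :
    T.xU F r t ∈ Subgroup.normalizer (T.rootGen F (fun s => k ≤ s) : Set (GL T.I F)) := by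
  refine xU_mem_normalizer hT hC hr (fun s hs hks hne => ⟨?_, fun c hc => ?_⟩) t
  · unfold neg n at *; omega
  · have := (commT_gt hT hr hs hp (by omega) c hc).2; omega

theorem mem_ge_iff {k : ℕ} (hk : T.half ≤ k) (hkn : k < T.n) {g : GL T.I F} :
    g ∈ T.rootGen F (fun s => k ≤ s) ↔
      ∃ t, ∃ g' ∈ T.rootGen F (fun s => k + 1 ≤ s), g = T.xU F k t * g' := by
  constructor
  · intro hg
    have hle : T.rootGen F (fun s => k ≤ s) ≤
        T.rootGen F (fun s => s = k) ⊔ T.rootGen F (fun s => k + 1 ≤ s) := by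
      refine rootGen_le fun s hs hks t => ?_
      rcases Nat.lt_or_ge k s with h | h
      · exact Subgroup.mem_sup_right (xU_mem_rootGen (P := fun s => k + 1 ≤ s) hs h t)
      · exact Subgroup.mem_sup_left (xU_mem_rootGen (P := fun s => s = k) hs (by omega) t)
    have hn : T.rootGen F (fun s => s = k) ≤
        Subgroup.normalizer (T.rootGen F (fun s => k + 1 ≤ s) : Set (GL T.I F)) :=
      rootGen_le fun s hs h t => xU_mem_normalizer_ge hT hC hs (by omega) (by omega) t
    have := hle hg
    rw [← SetLike.mem_coe, Subgroup.coe_mul_of_left_le_normalizer_right _ _ hn] at this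
    obtain ⟨x, hx, y, hy, rfl⟩ := this
    rw [SetLike.mem_coe, rootGen_eq_singleton hT hkn, mem_rootSubgroup_iff hT hkn] at hx
    obtain ⟨t, rfl⟩ := hx
    exact ⟨t, y, hy, rfl⟩
  · rintro ⟨t, g', hg', rfl⟩
    exact mul_mem (xU_mem_rootGen (P := fun s => k ≤ s) hkn le_rfl t)
      (rootGen_mono (fun s _ h => Nat.le_of_succ_le h) hg')

end CfsgLib.Chevalley.Tbl
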