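import Cfsg.Agent.Lib.Chevalley.Table

/-!
What the checks on a table say.
-/

set_option autoImplicit false

namespace CfsgLib.Chevalley.Tbl

variable {T : Tbl}

theorem neg_lt (r : ℕ) (h : 0 < T.n) : T.neg r < T.n := by unfold neg; omega

theorem neg_lt' {r : ℕ} (h : r < T.n) : T.neg r < T.n := neg_lt r (by omega)

theorem neg_neg' {r : ℕ} (h : r < T.n) : T.neg (T.neg r) = r := by unfold neg; omega

theorem neg_ne {r : ℕ} (h : r < T.n) : T.neg r ≠ r := by unfold neg n at *; omega

theorem isPos_iff {r : ℕ} : T.isPos r = true ↔ T.half ≤ r := by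
  simp [isPos]

theorem isPos_neg {r : ℕ} (h : r < T.n) : T.isPos (T.neg r) = !(T.isPos r) := by
  rw [Bool.eq_iff_iff]
  simp only [isPos_iff, Bool.not_eq_true', ← Bool.not_eq_true]
  unfold neg n at *; omega

theorem sum?_eq (r s : ℕ) : T.sum? r s =
    if T.code r s = 0 then none else some (T.code r s / 16 - 1, Int.subNatNat (T.code r s % 16) 8) := by
  unfold sum?
  rcases h : Nat.beq (T.code r s) 0 with _ | _
  · rw [if_neg (fun e => by rw [e] at h; simp at h)]; rfl
  · rw [if_pos (Nat.eq_of_beq_eq_true h)]; rfl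

variable (hT : T.Valid)
include hT

section Root

variable {r : ℕ} (hr : r < T.n)
include hr

theorem root_facts :
    T.sum? r r = none ∧ T.sum? r (T.neg r) = none ∧ T.pair r r = 2 ∧
    (∀ i < T.rank, T.co (T.neg r) i = -T.co r i ∧ T.cv (T.neg r) i = -T.cv r i ∧
      T.ca i (T.neg r) = -T.ca i r ∧
      T.ca i r = ((List.range T.rank).map fun j => T.co r j * T.ca i (T.simple j)).sum ∧
      (T.isPos r = true → 0 ≤ T.co r i ∧ 0 ≤ T.cv r i) ∧
      (T.isPos r = false → T.co r i ≤ 0 ∧ T.cv r i ≤ 0)) ∧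
    (T.isPos r = true → 0 < T.ht r) ∧ (T.isPos r = false → T.ht r < 0) ∧
    (∃ i < T.rank, ∃ j < T.rank, Int.gcd (T.cv r i) (T.cv r j) = 1) := by
  have h : T.chkRoot r = true := by
    have := allLt_iff.mp hT.roots r hr
    simp only [Bool.and_eq_true] at this
    exact this.1
  simp only [chkRoot, Bool.and_eq_true, Option.isNone_iff_eq_none, decide_eq_true_eq,
    allLt_iff] at h
  obtain ⟨⟨⟨⟨⟨h1, h2⟩, h3⟩, h4⟩, h5⟩, h6⟩ := h
  refine ⟨h1, h2, h3, fun i hi => ?_, ?_, ?_, ?_⟩
  · obtain ⟨⟨⟨⟨a, b⟩, c⟩, d⟩, e⟩ := h4 i hi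
    refine ⟨a, b, c, d, fun hp => ?_, fun hp => ?_⟩
    · simpa [hp] using e
    · simpa [hp] using e
  · intro hp; simpa [hp] using h5
  · intro hp; simpa [hp] using h5
  · simp only [List.any_eq_true, List.mem_range] at h6
    obtain ⟨i, hi, j, hj, hij⟩ := h6
    exact ⟨i, hi, j, hj, Nat.eq_of_beq_eq_true hij⟩

theorem sum?_self : T.sum? r r = none := (root_facts hT hr).1
theorem sum?_neg : T.sum? r (T.neg r) = none := (root_facts hT hr).2.1
theorem pair_self : T.pair r r = 2 := (root_facts hT hr).2.2.1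
theorem co_neg {i : ℕ} (hi : i < T.rank) : T.co (T.neg r) i = -T.co r i :=
  ((root_facts hT hr).2.2.2.1 i hi).1
theorem cv_neg {i : ℕ} (hi : i < T.rank) : T.cv (T.neg r) i = -T.cv r i :=
  ((root_facts hT hr).2.2.2.1 i hi).2.1
theorem ca_neg {i : ℕ} (hi : i < T.rank) : T.ca i (T.neg r) = -T.ca i r :=
  ((root_facts hT hr).2.2.2.1 i hi).2.2.1
theorem ca_eq {i : ℕ} (hi : i < T.rank) :
    T.ca i r = ((List.range T.rank).map fun j => T.co r j * T.ca i (T.simple j)).sum :=
  ((root_facts hT hr).2.2.2.1 i hi).2.2.2.1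
theorem co_nonneg (hp : T.isPos r = true) {i : ℕ} (hi : i < T.rank) : 0 ≤ T.co r i :=
  (((root_facts hT hr).2.2.2.1 i hi).2.2.2.2.1 hp).1
theorem cv_nonneg (hp : T.isPos r = true) {i : ℕ} (hi : i < T.rank) : 0 ≤ T.cv r i :=
  (((root_facts hT hr).2.2.2.1 i hi).2.2.2.2.1 hp).2
theorem cv_nonpos (hp : T.isPos r = false) {i : ℕ} (hi : i < T.rank) : T.cv r i ≤ 0 :=
  (((root_facts hT hr).2.2.2.1 i hi).2.2.2.2.2 hp).2
theorem ht_pos (hp : T.isPos r = true) : 0 < T.ht r := (root_facts hT hr).2.2.2.2.1 hp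
theorem cv_coprime : ∃ i < T.rank, ∃ j < T.rank, Int.gcd (T.cv r i) (T.cv r j) = 1 :=
  (root_facts hT hr).2.2.2.2.2.2

end Root

section Pair

variable {r s : ℕ} (hr : r < T.n) (hs : s < T.n)
include hr hs

theorem sum?_none (h : T.sum? r s = none) :
    T.sum? s r = none ∧ T.sum? (T.neg r) (T.neg s) = none := by
  have hc := allLt_iff.mp (allLt_iff.mp hT.pairs r hr) s hs
  simp only [chkPair, h, Bool.and_eq_true, Option.isNone_iff_eq_none] at hc
  exact hc

variable {u : ℕ} {N : ℤ} (h : T.sum? r s = some (u, N))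
include h

theorem sum?_facts :
    u < T.n ∧ N ≠ 0 ∧ T.sum? s r = some (u, -N) ∧
    T.sum? (T.neg r) (T.neg s) = some (T.neg u, -N) ∧ u ≠ r ∧ u ≠ T.neg r ∧
    (∀ i < T.rank, T.co u i = T.co r i + T.co s i) ∧
    (T.isPos r = true → s < u ∧ (T.isPos s = true → T.isPos u = true) ∧
      (T.isPos s = false → (T.neg s < r → T.isPos u = true) ∧ (¬ T.neg s < r → T.isPos u = false))) ∧
    (T.isPos r = false → u < s) ∧
    (∀ u2 M2, T.chain r s 2 = some (u2, M2) →
      2 * M2 = N * ((T.sum? r u).getD (0, 0)).2 ∧ u2 ≠ r ∧ u2 ≠ T.neg r ∧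
      ∀ u3 M3, T.chain r s 3 = some (u3, M3) →
        3 * M3 = M2 * ((T.sum? r u2).getD (0, 0)).2 ∧ u3 ≠ r ∧ u3 ≠ T.neg r ∧
        T.sum? r u3 = none) := by
  have hc := allLt_iff.mp (allLt_iff.mp hT.pairs r hr) s hs
  simp only [chkPair, h, Bool.and_eq_true, decide_eq_true_eq, Bool.not_eq_true',
    allLt_iff] at hc
  obtain ⟨⟨⟨⟨⟨⟨⟨⟨h1, h2⟩, h3⟩, h4⟩, h5⟩, h6⟩, h7⟩, h8⟩, h9⟩ := hc
  refine ⟨Nat.le_of_ble_eq_true h1, h2, ?_, ?_, ?_, ?_, h7, ?_, ?_, ?_⟩
  · cases he : T.sum? s r with
    | none => simp [he] at h3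
    | some p =>
      simp only [he, Bool.and_eq_true, decide_eq_true_eq] at h3
      rw [← Nat.eq_of_beq_eq_true h3.1, ← h3.2]
  · cases he : T.sum? (T.neg r) (T.neg s) with
    | none => simp [he] at h4
    | some p =>
      simp only [he, Bool.and_eq_true, decide_eq_true_eq] at h4
      rw [← Nat.eq_of_beq_eq_true h4.1, ← h4.2]
  · intro e; subst e; simp at h5
  · intro e; subst e; simp at h6
  · intro hp
    simp only [hp, cond_true, Bool.and_eq_true] at h8
    refine ⟨Nat.le_of_ble_eq_true h8.1, fun hq => by simpa [hq] using h8.2, fun hq => ?_⟩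
    have h82 := h8.2
    simp only [hq, cond_false] at h82
    constructor
    · intro hl
      rw [show Nat.blt (T.neg s) r = true from Nat.ble_eq_true_of_le hl] at h82
      simpa using h82
    · intro hl
      rw [show Nat.blt (T.neg s) r = false by
        rw [Bool.eq_false_iff]; exact fun e => hl (Nat.le_of_ble_eq_true e)] at h82
      simpa using h82
  · intro hp
    simp only [hp, cond_false] at h8
    exact Nat.le_of_ble_eq_true h8
  · intro u2 M2 hc2
    simp only [hc2, Bool.and_eq_true, decide_eq_true_eq, Bool.not_eq_true'] at h9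
    refine ⟨h9.1.1.1, fun e => ?_, fun e => ?_, fun u3 M3 hc3 => ?_⟩
    · subst e; simp at h9
    · subst e; simp at h9
    · have h93 := h9.2
      simp only [hc3, Bool.and_eq_true, decide_eq_true_eq, Bool.not_eq_true',
        Option.isNone_iff_eq_none] at h93
      refine ⟨h93.1.1.1, fun e => ?_, fun e => ?_, h93.2⟩
      · subst e; simp at h93
      · subst e; simp at h93

theorem sum?_lt : u < T.n := (sum?_facts hT hr hs h).1
theorem sum?_ne_zero : N ≠ 0 := (sum?_facts hT hr hs h).2.1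
theorem sum?_symm : T.sum? s r = some (u, -N) := (sum?_facts hT hr hs h).2.2.1
theorem sum?_negneg : T.sum? (T.neg r) (T.neg s) = some (T.neg u, -N) :=
  (sum?_facts hT hr hs h).2.2.2.1
theorem sum?_ne : u ≠ r := (sum?_facts hT hr hs h).2.2.2.2.1
theorem sum?_ne_neg : u ≠ T.neg r := (sum?_facts hT hr hs h).2.2.2.2.2.1
theorem co_sum {i : ℕ} (hi : i < T.rank) : T.co u i = T.co r i + T.co s i :=
  (sum?_facts hT hr hs h).2.2.2.2.2.2.1 i hi
theorem sum?_pos_left (hp : T.isPos r = true) : s < u :=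
  ((sum?_facts hT hr hs h).2.2.2.2.2.2.2.1 hp).1
theorem sum?_neg_left (hp : T.isPos r = false) : u < s :=
  (sum?_facts hT hr hs h).2.2.2.2.2.2.2.2.1 hp

theorem ca_sum {i : ℕ} (hi : i < T.rank) : T.ca i u = T.ca i r + T.ca i s := by
  rw [ca_eq hT (sum?_lt hT hr hs h) hi, ca_eq hT hr hi, ca_eq hT hs hi, ← List.sum_map_add]
  refine congrArg List.sum (List.map_congr_left fun j hj => ?_)
  rw [co_sum hT hr hs h (List.mem_range.mp hj), add_mul]

end Pair

section Simple

variable {i : ℕ} (hi : i < T.rank)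
include hi

theorem simple_facts :
    T.simple i < T.n ∧ T.isPos (T.simple i) = true ∧
    ∀ j < T.rank, T.cv (T.simple i) j = (if j = i then 1 else 0) ∧
      T.co (T.simple i) j = (if j = i then 1 else 0) ∧ (j ≠ i → T.ca i (T.simple j) ≤ 0) := by
  have h : T.chkSimple i = true := by
    have := allLt_iff.mp hT.ns i hi
    simp only [Bool.and_eq_true] at this
    exact this.2
  simp only [chkSimple, Bool.and_eq_true, allLt_iff, decide_eq_true_eq] at h
  refine ⟨Nat.le_of_ble_eq_true h.1.1, h.1.2, fun j hj => ?_⟩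
  obtain ⟨⟨a, b⟩, c⟩ := h.2 j hj
  by_cases e : j = i
  · subst e
    rw [Nat.beq_refl] at a b
    refine ⟨by simpa using a, by simpa using b, fun e => absurd rfl e⟩
  · have e' : Nat.beq j i = false := by
      rw [Bool.eq_false_iff]; exact fun h => e (Nat.eq_of_beq_eq_true h)
    rw [e'] at a b c
    exact ⟨by simpa [e] using a, by simpa [e] using b, fun _ => by simpa using c⟩

theorem simple_lt : T.simple i < T.n := (simple_facts hT hi).1
theorem simple_pos : T.isPos (T.simple i) = true := (simple_facts hT hi).2.1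
theorem cv_simple {j : ℕ} (hj : j < T.rank) : T.cv (T.simple i) j = if j = i then 1 else 0 :=
  ((simple_facts hT hi).2.2 j hj).1
theorem co_simple {j : ℕ} (hj : j < T.rank) : T.co (T.simple i) j = if j = i then 1 else 0 :=
  ((simple_facts hT hi).2.2 j hj).2.1

theorem pair_simple (s : ℕ) : T.pair (T.simple i) s = T.ca i s := by
  have hf : ((List.range T.rank).map fun j => T.cv (T.simple i) j * T.ca j s) =
      (List.range T.rank).map fun j => if j = i then T.ca j s else 0 := by
    refine List.map_congr_left fun j hj => ?_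
    rw [cv_simple hT hi (List.mem_range.mp hj)]; split <;> simp
  rw [pair, hf, ← List.sum_toFinset _ (List.nodup_range (n := T.rank))]
  simp [hi]

end Simple

theorem exists_gen {r : ℕ} (hr : r < T.n) (hp : T.isPos r = true) :
    ∃ i < T.rank, r = T.simple i ∨ ∃ r' N N', T.sum? (T.neg (T.simple i)) r = some (r', N) ∧
      T.isPos r' = true ∧ T.ht r' < T.ht r ∧ T.sum? (T.simple i) r' = some (r, N') := by
  have h : T.chkGen r = true := by
    have := allLt_iff.mp hT.roots r hr
    simp only [Bool.and_eq_true] at this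
    exact this.2
  simp only [chkGen, hp, Bool.not_true, Bool.false_or, List.any_eq_true, List.mem_range,
    Bool.or_eq_true] at h
  obtain ⟨i, hi, h | h⟩ := h
  · exact ⟨i, hi, .inl (Nat.eq_of_beq_eq_true h)⟩
  · cases hs : T.sum? (T.neg (T.simple i)) r with
    | none => simp [hs] at h
    | some p =>
      obtain ⟨r', N⟩ := p
      simp only [hs, Bool.and_eq_true, decide_eq_true_eq] at h
      cases hs' : T.sum? (T.simple i) r' with
      | none => simp [hs'] at h
      | some p' =>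
        obtain ⟨v, N'⟩ := p'
        simp only [hs'] at h
        exact ⟨i, hi, .inr ⟨r', N, N', hs, h.1.1, h.1.2, by rw [hs', Nat.eq_of_beq_eq_true h.2]⟩⟩

omit hT in
theorem chain_one (r s : ℕ) : T.chain r s 1 = T.sum? r s := by
  show T.step r 1 (some (s, 1)) = _
  cases h : T.sum? r s with
  | none => simp [step, h]
  | some p => simp [step, h]

end CfsgLib.Chevalley.Tbl
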