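import Cfsg.Agent.Lib.Chevalley.Bridge

/-!
Root elements as invertible matrices, characters of the root lattice and diagonal matrices.
-/

set_option autoImplicit false

namespace CfsgLib.Chevalley.Tbl

open Matrix

variable {T : Tbl} {F : Type*} [Field F]

open Classical in
/-- The root element `x_r(t)` in the general linear group (junk if not invertible). -/
noncomputable def xU (T : Tbl) (F : Type*) [Field F] (r : ℕ) (t : F) : GL T.I F :=
  if h : IsUnit (X F r t : Matrix T.I T.I F) then h.unit else 1

/-- `n_r(t)`. -/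
noncomputable def nU (T : Tbl) (F : Type*) [Field F] (r : ℕ) (t : F) : GL T.I F :=
  T.xU F r t * T.xU F (T.neg r) (-t⁻¹) * T.xU F r t

/-- `h_r(t)`. -/
noncomputable def hU (T : Tbl) (F : Type*) [Field F] (r : ℕ) (t : F) : GL T.I F :=
  T.nU F r t * T.nU F r (-1)

/-- A character of the root lattice, on root indices. -/
structure IsChar (T : Tbl) (χ : ℕ → Fˣ) : Prop where
  neg : ∀ r < T.n, χ (T.neg r) = (χ r)⁻¹
  add : ∀ r < T.n, ∀ s < T.n, ∀ u N, T.sum? r s = some (u, N) → χ u = χ r * χ s

/-- The scaling of a coordinate. -/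
def scale (T : Tbl) (χ : ℕ → Fˣ) : T.I → Fˣ := Sum.elim (fun _ => 1) fun s => χ s.val

/-- The diagonal matrix of a function on roots, in the general linear group. -/
def dU (T : Tbl) (χ : ℕ → Fˣ) : GL T.I F where
  val := Matrix.diagonal fun i => (T.scale χ i : F)
  inv := Matrix.diagonal fun i => ((T.scale χ i)⁻¹ : Fˣ)
  val_inv := by rw [Matrix.diagonal_mul_diagonal]; simp
  inv_val := by rw [Matrix.diagonal_mul_diagonal]; simp

theorem dU_val (χ : ℕ → Fˣ) :
    ((T.dU χ : GL T.I F) : Matrix T.I T.I F) = Matrix.diagonal fun i => (T.scale χ i : F) := rfl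

theorem dU_mul (χ ψ : ℕ → Fˣ) : (T.dU χ * T.dU ψ : GL T.I F) = T.dU (χ * ψ) := by
  apply Units.ext
  rw [Units.val_mul, dU_val, dU_val, dU_val, Matrix.diagonal_mul_diagonal]
  congr 1
  funext i
  rcases i with i | s <;> simp [scale]

theorem dU_one : (T.dU (1 : ℕ → Fˣ) : GL T.I F) = 1 := by
  apply Units.ext
  rw [dU_val, Units.val_one, ← Matrix.diagonal_one]
  congr 1
  funext i
  rcases i with i | s <;> simp [scale]

theorem dU_inv (χ : ℕ → Fˣ) : (T.dU χ : GL T.I F)⁻¹ = T.dU χ⁻¹ :=
  inv_eq_of_mul_eq_one_right (by rw [dU_mul, mul_inv_cancel, dU_one])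

theorem dU_congr {χ ψ : ℕ → Fˣ} (h : ∀ s < T.n, χ s = ψ s) : (T.dU χ : GL T.I F) = T.dU ψ := by
  apply Units.ext
  rw [dU_val, dU_val]
  congr 1
  funext i
  rcases i with i | s
  · rfl
  · simp [scale, h s.val s.2]

theorem dU_comm (χ ψ : ℕ → Fˣ) : Commute (T.dU χ : GL T.I F) (T.dU ψ) := by
  show _ * _ = _ * _
  rw [dU_mul, dU_mul, mul_comm χ ψ]

theorem dU_apply_inj {χ ψ : ℕ → Fˣ} (h : (T.dU χ : GL T.I F) = T.dU ψ) {s : ℕ} (hs : s < T.n) :
    χ s = ψ s := by
  have := congrArg (fun g : GL T.I F => (g : Matrix T.I T.I F) (Sum.inr ⟨s, hs⟩) (Sum.inr ⟨s, hs⟩)) h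
  simpa [dU_val, scale, Units.val_inj] using this

/-- The character given by its values on the fundamental roots. -/
def chOf (T : Tbl) (f : ℕ → Fˣ) : ℕ → Fˣ := fun r => ∏ i : Fin T.rank, f i.val ^ T.co r i.val

/-- The character `s ↦ c ^ ⟨r, s⟩` of a root `r`. -/
def hCh (T : Tbl) (r : ℕ) (c : Fˣ) : ℕ → Fˣ := fun s => c ^ T.pair r s

theorem hCh_mul (r : ℕ) (c d : Fˣ) : T.hCh r c * T.hCh r d = T.hCh r (c * d) := by
  funext s; simp [hCh, mul_zpow]

theorem hCh_one (r : ℕ) : T.hCh r (1 : Fˣ) = 1 := by
  funext s; simp [hCh]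

variable (hT : T.Valid)
include hT

theorem isUnit_X {r : ℕ} (hr : r < T.n) (t : F) : IsUnit (X F r t : Matrix T.I T.I F) :=
  IsUnit.of_mul_eq_one _ (X_mul_X_neg hT F hr t)

theorem xU_val {r : ℕ} (hr : r < T.n) (t : F) :
    ((T.xU F r t : GL T.I F) : Matrix T.I T.I F) = X F r t := by
  rw [xU, dif_pos (isUnit_X hT hr t)]; rfl

theorem xU_add {r : ℕ} (hr : r < T.n) (s t : F) :
    T.xU F r s * T.xU F r t = T.xU F r (s + t) := by
  apply Units.ext
  rw [Units.val_mul, xU_val hT hr, xU_val hT hr, xU_val hT hr, X_mul hT F hr]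

theorem xU_zero {r : ℕ} (hr : r < T.n) : T.xU F r 0 = 1 := by
  apply Units.ext
  rw [xU_val hT hr, X_zero, Units.val_one]

theorem xU_inv {r : ℕ} (hr : r < T.n) (t : F) : (T.xU F r t)⁻¹ = T.xU F r (-t) :=
  inv_eq_of_mul_eq_one_right (by rw [xU_add hT hr, add_neg_cancel, xU_zero hT hr])

theorem x_eq_val {r : ℕ} (hr : r < T.n) (t : F) :
    T.datum.x F r t = ((T.xU F r t : GL T.I F) : Matrix T.I T.I F) := by
  rw [xU_val hT hr, x_eq hT F hr]

theorem eq_x_iff {r : ℕ} (hr : r < T.n) (t : F) (g : GL T.I F) :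
    (g : Matrix T.I T.I F) = T.datum.x F r t ↔ g = T.xU F r t := by
  rw [x_eq_val hT hr]; exact Units.val_inj

theorem IsChar.chain {χ : ℕ → Fˣ} (hχ : T.IsChar χ) {r s : ℕ} (hr : r < T.n) (hs : s < T.n) :
    ∀ k u m, T.chain r s k = some (u, m) → χ u = χ r ^ k * χ s
  | 0, u, m, h => by simp [Tbl.chain] at h; simp [h.1]
  | k + 1, u, m, h => by
    cases hc : T.chain r s k with
    | none => simp [chain_none_mono hc] at h
    | some p =>
      obtain ⟨v, n'⟩ := p
      have hv := chain_bound hT hr hs k v n' hc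
      have ih := IsChar.chain hχ hr hs k v n' hc
      rw [chain_succ, hc] at h
      cases hq : T.sum? r v with
      | none => simp [step, hq] at h
      | some q =>
        simp [step, hq] at h
        rw [← h.1, hχ.add r hr v hv q.1 q.2 hq, ih, pow_succ]
        group

/-- The integral matrix `A r k` is homogeneous of degree `k r`. -/
theorem colA_homogeneous {χ : ℕ → Fˣ} (hχ : T.IsChar χ) {r : ℕ} (hr : r < T.n) (k : ℕ)
    (row col : T.I) (h : T.A r k row col ≠ 0) :
    T.scale χ row = χ r ^ k * T.scale χ col := by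
  rw [A_apply] at h
  cases k with
  | zero =>
    simp only [colA, Pi.single_apply, ne_eq, ite_eq_right_iff, one_ne_zero, imp_false,
      not_not] at h
    simp [h]
  | succ k =>
    rcases col with i | s
    · simp only [colA] at h
      by_cases hk : k = 0
      · subst hk
        rcases row with j | v
        · simp [rootVec] at h
        · have : v.val = r := by
            by_contra e; simp [rootVec, e] at h
          simp [scale, this]
      · simp [hk] at h
    · simp only [colA] at h
      by_cases h1 : s.val = r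
      · simp [h1] at h
      simp only [if_neg h1] at h
      by_cases h2 : s.val = T.neg r
      · simp only [if_pos h2] at h
        by_cases hk : k = 0
        · subst hk
          rcases row with j | v
          · simp [scale, h2, hχ.neg r hr]
          · simp [coVec] at h
        · by_cases hk1 : k = 1
          · subst hk1
            rcases row with j | v
            · simp [rootVec] at h
            · have : v.val = r := by
                by_contra e; simp [rootVec, e] at h
              simp only [scale, Sum.elim_inr, this, h2, hχ.neg r hr]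
              group
          · simp [hk, hk1] at h
      simp only [if_neg h2] at h
      cases hc : T.chain r s.val (k + 1) with
      | none => simp [hc, optVec] at h
      | some p =>
        obtain ⟨u, m⟩ := p
        rw [hc] at h
        rcases row with j | v
        · simp [optVec, rootVec] at h
        · have : v.val = u := by
            by_contra e; simp [optVec, rootVec, e] at h
          simp only [scale, Sum.elim_inr, this, IsChar.chain hT hχ hr s.2 (k + 1) u m hc]

theorem dU_conj_X {χ : ℕ → Fˣ} (hχ : T.IsChar χ) {r : ℕ} (hr : r < T.n) (t : F) :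
    T.dU χ * T.xU F r t = T.xU F r ((χ r : F) * t) * T.dU χ := by
  apply Units.ext
  rw [Units.val_mul, Units.val_mul, xU_val hT hr, xU_val hT hr, dU_val]
  ext row col
  rw [Matrix.diagonal_mul, Matrix.mul_diagonal, X, X, Matrix.sum_apply, Matrix.sum_apply,
    Finset.mul_sum, Finset.sum_mul]
  refine Finset.sum_congr rfl fun k _ => ?_
  simp only [Matrix.smul_apply, castM_apply, smul_eq_mul]
  by_cases h : T.A r k row col = 0
  · simp [h]
  · rw [colA_homogeneous hT hχ hr k row col h, Units.val_mul, Units.val_pow_eq_pow_val, mul_pow]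
    ring

theorem isChar_chOf (f : ℕ → Fˣ) : T.IsChar (T.chOf f) where
  neg r hr := by
    simp only [chOf, ← Finset.prod_inv_distrib]
    exact Finset.prod_congr rfl fun i _ => by rw [co_neg hT hr i.2, _root_.zpow_neg]
  add r hr s hs u N h := by
    simp only [chOf, ← Finset.prod_mul_distrib]
    exact Finset.prod_congr rfl fun i _ => by rw [co_sum hT hr hs h i.2, _root_.zpow_add]

theorem chOf_simple (f : ℕ → Fˣ) {i : ℕ} (hi : i < T.rank) : T.chOf f (T.simple i) = f i := by
  rw [chOf, Finset.prod_eq_single (⟨i, hi⟩ : Fin T.rank)]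
  · simp [co_simple hT hi hi]
  · intro j _ hj
    have : j.val ≠ i := fun e => hj (Fin.ext e)
    simp [co_simple hT hi j.2, this]
  · simp

theorem isChar_hCh (r : ℕ) (c : Fˣ) : T.IsChar (T.hCh r c) where
  neg s hs := by
    simp only [hCh]
    rw [← _root_.zpow_neg, pair_eq_sum, pair_eq_sum, ← Finset.sum_neg_distrib]
    exact congrArg (c ^ ·) (Finset.sum_congr rfl fun i _ => by rw [ca_neg hT hs i.2]; ring)
  add a ha b hb u N h := by
    simp only [hCh]
    rw [← _root_.zpow_add, pair_eq_sum, pair_eq_sum, pair_eq_sum, ← Finset.sum_add_distrib]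
    exact congrArg (c ^ ·) (Finset.sum_congr rfl fun i _ => by rw [ca_sum hT ha hb h i.2]; ring)

end CfsgLib.Chevalley.Tbl
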