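import Cfsg.Agent.Lib.Chevalley.Basic
import Cfsg.Agent.Lib.Chevalley.Bruhat
import Cfsg.Agent.Lib.Chevalley.Data.G2Comm
import Cfsg.Agent.Lib.Classical.SL2Fours
import Cfsg.Agent.Lib.Classical.SL2Sylow

/-!
The subgroup of `G₂(F)` generated by two orthogonal root `SL₂`'s and a torus, and the centraliser of
its central involution.
-/

set_option autoImplicit false

namespace CfsgLib.Chevalley.G2Inv

open Tbl
open scoped MatrixGroups

/-- The table of type G2. -/
abbrev T : Tbl := Data.G2.tbl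

theorem hV : T.Valid := Data.G2.valid
theorem hC : T.chkComm = true := Data.G2.chkComm

variable (F : Type*) [Field F]

/-- The group `G₂(F)`. -/
abbrev GG := ↥(T.datum.group F)

/-- The general linear group carrying it. -/
abbrev GLT := GL T.I F

variable {F}

/-- Lower unitriangular element. -/
def lx (t : F) : SL(2, F) := ⟨!![1, 0; t, 1], by simp [Matrix.det_fin_two]⟩

theorem wn_eq : (SL2.wn : SL(2, F)) = SL2.ux 1 * lx (-1) * SL2.ux 1 := by
  apply Subtype.ext
  show _ = !![(1 : F), 1; 0, 1] * !![1, 0; -1, 1] * !![1, 1; 0, 1]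
  ext i j; fin_cases i <;> fin_cases j <;> simp [SL2.wn, Matrix.mul_apply]

theorem dh_wn (c : Fˣ) :
    SL2.dh c * SL2.wn = SL2.ux (c : F) * lx (-(c : F)⁻¹) * SL2.ux (c : F) := by
  apply Subtype.ext
  show !![(c : F), 0; 0, (c : F)⁻¹] * !![0, 1; -1, 0] =
    !![(1 : F), (c : F); 0, 1] * !![1, 0; -(c : F)⁻¹, 1] * !![1, (c : F); 0, 1]
  ext i j; fin_cases i <;> fin_cases j <;> simp [Matrix.mul_apply]

theorem hom_ext {H : Type*} [Group H] (f f' : SL(2, F) →* H)
    (h1 : ∀ t, f (SL2.ux t) = f' (SL2.ux t)) (h2 : ∀ t, f (lx t) = f' (lx t)) : f = f' := by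
  have hw : f SL2.wn = f' SL2.wn := by simp only [wn_eq, map_mul, h1, h2]
  refine MonoidHom.ext fun g => ?_
  induction SL2.exists_normal_form g using Submonoid.closure_induction with
  | mem x hx =>
    rcases hx with (⟨t, rfl⟩ | ⟨c, rfl⟩) | hx
    · exact h1 t
    · have e : ∀ k : SL(2, F) →* H, k (SL2.dh c) = k (SL2.dh c * SL2.wn) * (k SL2.wn)⁻¹ := by
        intro k; rw [map_mul, mul_inv_cancel_right]
      rw [e f, e f', dh_wn, hw]
      simp only [map_mul, h1, h2]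
    · rw [Set.mem_singleton_iff.mp hx]; exact hw
  | one => rw [map_one, map_one]
  | mul x y _ _ hx hy => rw [map_mul, map_mul, hx, hy]

/-- `dh` as a homomorphism. -/
def dhHom : Fˣ →* SL(2, F) where
  toFun := SL2.dh
  map_one' := by
    apply Subtype.ext
    show !![((1 : Fˣ) : F), 0; 0, ((1 : Fˣ) : F)⁻¹] = 1
    ext i j; fin_cases i <;> fin_cases j <;> simp
  map_mul' a b := by
    apply Subtype.ext
    show !![((a * b : Fˣ) : F), 0; 0, ((a * b : Fˣ) : F)⁻¹] =
      !![(a : F), 0; 0, (a : F)⁻¹] * !![(b : F), 0; 0, (b : F)⁻¹]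
    ext i j; fin_cases i <;> fin_cases j <;> simp [Matrix.mul_apply, mul_comm]

theorem dh_neg_one : SL2.dh (-1 : Fˣ) = -1 := by
  apply Subtype.ext
  rw [Matrix.SpecialLinearGroup.coe_neg, Matrix.SpecialLinearGroup.coe_one]
  show !![((-1 : Fˣ) : F), 0; 0, ((-1 : Fˣ) : F)⁻¹] = _
  ext i j; fin_cases i <;> fin_cases j <;> simp [inv_neg]

/-- Conjugation by `diag(1, t)`. -/
def dconj (t : Fˣ) : SL(2, F) →* SL(2, F) where
  toFun g := ⟨!![g.1 0 0, (t : F)⁻¹ * g.1 0 1; (t : F) * g.1 1 0, g.1 1 1], by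
    have h := g.2
    rw [Matrix.det_fin_two] at h
    rw [Matrix.det_fin_two_of]
    field_simp
    linear_combination h⟩
  map_one' := by
    apply Subtype.ext
    ext i j; fin_cases i <;> fin_cases j <;> simp
  map_mul' g g' := by
    apply Subtype.ext
    show _ = !![g.1 0 0, (t : F)⁻¹ * g.1 0 1; (t : F) * g.1 1 0, g.1 1 1] *
      !![g'.1 0 0, (t : F)⁻¹ * g'.1 0 1; (t : F) * g'.1 1 0, g'.1 1 1]
    ext i j
    fin_cases i <;> fin_cases j <;>
      simp [Matrix.mul_apply, Fin.sum_univ_two, Matrix.SpecialLinearGroup.coe_mul] <;>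
      field_simp <;> ring

theorem dconj_ux (t : Fˣ) (u : F) : dconj t (SL2.ux u) = SL2.ux ((t : F)⁻¹ * u) := by
  apply Subtype.ext
  show !![(1 : F), (t : F)⁻¹ * u; (t : F) * 0, 1] = !![1, (t : F)⁻¹ * u; 0, 1]
  rw [mul_zero]

theorem dconj_lx (t : Fˣ) (u : F) : dconj t (lx u) = lx ((t : F) * u) := by
  apply Subtype.ext
  show !![(1 : F), (t : F)⁻¹ * 0; (t : F) * u, 1] = !![1, 0; (t : F) * u, 1]
  rw [mul_zero]

section Table

theorem root_ne {r s : ℕ} (hr : r < T.n) (hs : s < T.n) {c d : F} (hc : c ≠ 0)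
    (h : (T.xU F r c : GLT F) = T.xU F s d) : r = s := by
  by_contra hne
  obtain ⟨i, hi, j, hj, hij⟩ := cv_coprime hV hr
  have key : ∀ k < T.rank, (T.cv r k : F) * c = 0 := by
    intro k hk
    have hx := congrArg (fun g : GLT F =>
      (g : Matrix T.I T.I F) (Sum.inl ⟨k, hk⟩) (Sum.inr ⟨T.neg r, neg_lt' hr⟩)) h
    have e1 : ¬ (T.neg r = r) := neg_ne hr
    have e2 := datum_negIdx_getD (T := T) hr
    have e3 := datum_negIdx_getD (T := T) hs
    have e4 : ¬ (T.neg r = T.neg s) := fun e => hne (by rw [← neg_neg' hr, e, neg_neg' hs])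
    simp only [← x_eq_val hV hr, ← x_eq_val hV hs, Cfsg.Lie.ChevalleyDatum.x, dif_pos hr, dif_pos hs,
      Cfsg.Lie.ChevalleyDatum.xMat, Matrix.of_apply, Fin.ext_iff, e1, if_false, e2, e3, if_true,
      datum_coroot hr hk] at hx
    by_cases e5 : T.neg r = s
    · simpa [e4, e5] using hx
    · simpa [e4, e5] using hx
  have hbez := Int.gcd_eq_gcd_ab (T.cv r i) (T.cv r j)
  rw [hij] at hbez
  refine hc ?_
  have : ((1 : ℕ) : F) * c = 0 := by
    have e := congrArg (fun z : ℤ => (z : F) * c) hbez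
    simp only [Int.cast_natCast, Int.cast_add, Int.cast_mul] at e
    rw [e, add_mul, mul_right_comm, key i hi, mul_right_comm, key j hj]
    simp
  simpa using this

theorem xU_commute {r s : ℕ} (hr : r < T.n) (hs : s < T.n) (hne : s ≠ r) (hnn : s ≠ T.neg r)
    (h : T.sum? r s = none) (t u : F) : Commute (T.xU F r t : GLT F) (T.xU F s u) := by
  have e := comm_xU (F := F) hV hC hr hs hne hnn t u
  rw [commT_eq_nil hV hr hs h] at e
  simp only [List.map_nil, List.prod_nil, mul_one] at e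
  exact e.symm

theorem dU_hCh_mem_diag {r : ℕ} (hr : r < T.n) (c : Fˣ) :
    (T.dU (T.hCh r c) : GLT F) ∈ T.datum.diagonalSubgroup F := by
  refine (mem_diag_iff hV).mpr ⟨fun i => c ^ T.cv r i, dU_congr fun s _ => ?_⟩
  simp only [hCh]
  rw [pair_eq_sum, zpow_sum_eq]
  exact Finset.prod_congr rfl fun i _ => zpow_mul _ _ _

theorem nU_mem_monomial {r : ℕ} (hr : r < T.n) :
    (T.nU F r 1 : GLT F) ∈ T.datum.monomialSubgroup F := by
  rw [monomialSubgroup_eq hV]
  exact Subgroup.mem_sup_right (Subgroup.subset_closure ⟨r, hr, rfl⟩)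

theorem sl2_mem {r : ℕ} (hr : r < T.n) (g : SL(2, F)) :
    (sl2Data hV hr).hom g ∈ T.datum.group F := by
  have hh : ∀ c : Fˣ, T.dU (T.hCh r c) ∈ T.datum.group F := fun c =>
    diag_le_group hV (dU_hCh_mem_diag hr c)
  show (sl2Data hV hr).map g ∈ _
  by_cases hc : g.1 1 0 = 0
  · rw [SL2.Data.map, dif_pos hc]
    exact mul_mem (hh _) (xU_mem_group hV hr _)
  · rw [SL2.Data.map, dif_neg hc]
    exact mul_mem (mul_mem (mul_mem (xU_mem_group hV hr _) (hh _)) (nU_mem_group hV hr 1))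
      (xU_mem_group hV hr _)

/-- The homomorphism from `SL₂` attached to a root. -/
noncomputable def phi {r : ℕ} (hr : r < T.n) : SL(2, F) →* GG F :=
  (sl2Data (F := F) hV hr).hom.codRestrict _ (sl2_mem hr)

variable {r : ℕ} (hr : r < T.n)

theorem coe_phi_ux (t : F) : ((phi hr (SL2.ux t) : GG F) : GLT F) = T.xU F r t :=
  (sl2Data hV hr).hom_upper _ t rfl

theorem coe_phi_lx (t : F) : ((phi hr (lx t) : GG F) : GLT F) = T.xU F (T.neg r) t :=
  (sl2Data hV hr).hom_lower _ t rfl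

theorem coe_phi_dh (c : Fˣ) : ((phi hr (SL2.dh c) : GG F) : GLT F) = T.dU (T.hCh r c) := by
  show (sl2Data hV hr).map (SL2.dh c) = _
  rw [(sl2Data hV hr).map_zero (g := SL2.dh c) (by simp [SL2.dh]) c (by simp [SL2.dh]),
    show (SL2.dh c).1 0 1 = 0 by simp [SL2.dh], zero_div, SL2.Data.x_zero, mul_one]
  rfl

theorem coe_phi_wn : ((phi hr (SL2.wn : SL(2, F)) : GG F) : GLT F) = T.nU F r 1 := by
  show (sl2Data hV hr).map SL2.wn = _
  have := (sl2Data (F := F) hV hr).map_wn_mul 1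
  rwa [mul_one, SL2.Data.map_one, mul_one] at this

theorem phi_commute (m : GLT F) (h1 : ∀ t, Commute m (T.xU F r t))
    (h2 : ∀ t, Commute m (T.xU F (T.neg r) t)) (g : SL(2, F)) :
    Commute m ((phi hr g : GG F) : GLT F) := by
  have hn : ∀ t, Commute m (T.nU F r t) := fun t => ((h1 t).mul_right (h2 _)).mul_right (h1 t)
  have hh : ∀ c : Fˣ, Commute m (T.dU (T.hCh r c)) := fun c => by
    rw [← hU_eq hV hr]; exact (hn _).mul_right (hn _)
  show Commute m ((sl2Data hV hr).map g)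
  by_cases hc : g.1 1 0 = 0
  · rw [SL2.Data.map, dif_pos hc]; exact (hh _).mul_right (h1 _)
  · rw [SL2.Data.map, dif_neg hc]; exact (((h1 _).mul_right (hh _)).mul_right (hn 1)).mul_right (h1 _)

theorem phi_injective (hp : T.half ≤ r) (hodd : ∃ s < T.n, T.pair r s % 2 = 1) :
    Function.Injective (phi (F := F) hr) := by
  refine (injective_iff_map_eq_one _).mpr fun g hg => ?_
  have hg' : (sl2Data hV hr).map g = 1 := congrArg Subtype.val hg
  have hdet : g.1 0 0 * g.1 1 1 - g.1 0 1 * g.1 1 0 = 1 := by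
    have := g.2; rwa [Matrix.det_fin_two] at this
  by_cases hc : g.1 1 0 = 0
  · have ha : g.1 0 0 ≠ 0 := fun h => by simp [h, hc] at hdet
    rw [(sl2Data hV hr).map_zero (g := g) hc (Units.mk0 _ ha) rfl] at hg'
    change T.dU (T.hCh r (Units.mk0 _ ha)) * T.xU F r (g.1 0 1 / g.1 0 0) = 1 at hg'
    have hx1 : T.xU F r (g.1 0 1 / g.1 0 0) = (1 : GLT F) := by
      rw [← Subgroup.mem_bot, ← pos_inf_diag (T := T) (F := F) hV]
      refine Subgroup.mem_inf.mpr ⟨?_, ?_⟩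
      · rw [posUnipotent_rootGen hV]; exact xU_mem_rootGen hr hp _
      · rw [eq_inv_of_mul_eq_one_right hg']; exact inv_mem (dU_hCh_mem_diag hr _)
    rw [hx1, mul_one, ← dU_one] at hg'
    obtain ⟨s, hs, hodd⟩ := hodd
    have e2 := dU_apply_inj hg' hr
    have e1 := dU_apply_inj hg' hs
    simp only [hCh, Pi.one_apply, pair_self hV hr] at e1 e2
    obtain ⟨k, hk⟩ : ∃ k, T.pair r s = 2 * k + 1 := ⟨T.pair r s / 2, by omega⟩
    rw [hk, zpow_add_one, zpow_mul, e2, one_zpow, one_mul] at e1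
    rw [← xU_zero hV hr] at hx1
    have e3 := xU_inj hV hr hx1
    rw [div_eq_zero_iff] at e3
    have h00 : g.1 0 0 = 1 := congrArg Units.val e1
    have h01 : g.1 0 1 = 0 := e3.resolve_right ha
    have h11 : g.1 1 1 = 1 := by rw [h00, hc] at hdet; simpa using hdet
    apply Subtype.ext
    ext i j; fin_cases i <;> fin_cases j <;> simp [h00, h01, h11, hc]
  · exfalso
    rw [(sl2Data hV hr).map_ne (g := g) (Units.mk0 _ hc) rfl] at hg'
    change T.xU F r _ * T.dU (T.hCh r _) * T.nU F r 1 * T.xU F r _ = 1 at hg'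
    have hB : (T.nU F r 1 : GLT F) ∈ T.datum.borelSubgroup F := by
      rw [mul_eq_one_iff_eq_inv, ← eq_inv_mul_iff_mul_eq] at hg'
      rw [hg']
      exact mul_mem (inv_mem (mul_mem (pos_le_borel hV hr hp _)
        (Subgroup.mem_sup_right (dU_hCh_mem_diag hr _)))) (inv_mem (pos_le_borel hV hr hp _))
    have h1 : T.xU F (T.neg r) (-1) ∈ (⊥ : Subgroup (GLT F)) := by
      rw [← borel_inf_neg (T := T) (F := F) hV]
      refine Subgroup.mem_inf.mpr ⟨?_, ?_⟩
      · have e : T.xU F (T.neg r) (-1 : F) = T.nU F r 1 * T.xU F r 1 * (T.nU F r 1)⁻¹ := by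
          rw [nU_conj hV hr, mul_inv_cancel_right]
        rw [e]
        exact mul_mem (mul_mem hB (pos_le_borel hV hr hp _)) (inv_mem hB)
      · rw [negUnipotent_rootGen hV]
        exact xU_mem_rootGen (P := fun r => r < T.half) (neg_lt' hr) (by unfold neg n at *; omega) _
    rw [Subgroup.mem_bot, ← xU_zero hV (neg_lt' hr)] at h1
    exact one_ne_zero (neg_eq_zero.mp (xU_inj hV (neg_lt' hr) h1))

end Table

theorem h7 : 7 < T.n := by decide
theorem h11 : 11 < T.n := by decide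
theorem h6 : 6 < T.n := by decide

/-- The `SL₂` of the short root `a`. -/
noncomputable def fa : SL(2, F) →* GG F := phi h7
/-- The `SL₂` of the long root orthogonal to `a`. -/
noncomputable def fb : SL(2, F) →* GG F := phi h11
/-- The torus complement. -/
noncomputable def tor : Fˣ →* GG F := (phi h6).comp dhHom

theorem fa_injective : Function.Injective (fa (F := F)) :=
  phi_injective h7 (by decide) ⟨6, h6, by decide +kernel⟩

theorem fb_injective : Function.Injective (fb (F := F)) :=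
  phi_injective h11 (by decide) ⟨6, h6, by decide +kernel⟩

theorem coe_tor (t : Fˣ) : ((tor t : GG F) : GLT F) = T.dU (T.hCh 6 t) := coe_phi_dh h6 t

theorem fa_fb_commute (x y : SL(2, F)) : Commute (fa x : GG F) (fb y) := by
  have key : ∀ {r s : ℕ} (hr : r < T.n) (hs : s < T.n), s ≠ r → s ≠ T.neg r → T.sum? r s = none →
      ∀ t u : F, Commute (T.xU F r t : GLT F) (T.xU F s u) := fun hr hs a b c => xU_commute hr hs a b c
  have h4 : (4 : ℕ) < T.n := by decide
  have h0 : (0 : ℕ) < T.n := by decide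
  have e7 : T.neg 7 = 4 := by decide
  have e11 : T.neg 11 = 0 := by decide
  apply Subtype.ext
  refine phi_commute h11 _ (fun t => ?_) (fun t => ?_) y
  · refine (phi_commute h7 _ (fun u => ?_) (fun u => ?_) x).symm
    · exact key h11 h7 (by decide) (by decide) (by decide +kernel) t u
    · rw [e7]; exact key h11 h4 (by decide) (by decide) (by decide +kernel) t u
  · rw [e11]
    refine (phi_commute h7 _ (fun u => ?_) (fun u => ?_) x).symm
    · exact key h0 h7 (by decide) (by decide) (by decide +kernel) t u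
    · rw [e7]; exact key h0 h4 (by decide) (by decide) (by decide +kernel) t u

theorem tor_conj_phi {r : ℕ} (hr : r < T.n) (t s : Fˣ) (hs : t ^ T.pair 6 r = s⁻¹) (g : SL(2, F)) :
    tor t * phi hr g * (tor t)⁻¹ = phi hr (dconj s g) := by
  have e : (MulAut.conj (tor (F := F) t)).toMonoidHom.comp (phi hr) = (phi hr).comp (dconj s) := by
    refine hom_ext _ _ (fun u => ?_) fun u => ?_ <;>
      simp only [MonoidHom.comp_apply, MulEquiv.coe_toMonoidHom, MulAut.conj_apply] <;>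
      apply Subtype.ext <;> simp only [Subgroup.coe_mul, Subgroup.coe_inv, coe_tor, dconj_ux, dconj_lx]
    · rw [coe_phi_ux, coe_phi_ux, dU_conj_X hV (isChar_hCh hV 6 t) hr, mul_inv_cancel_right]
      congr 2
      simp only [hCh, hs, Units.val_inv_eq_inv_val]
    · rw [coe_phi_lx, coe_phi_lx, dU_conj_X hV (isChar_hCh hV 6 t) (neg_lt' hr), mul_inv_cancel_right,
        (isChar_hCh hV 6 t).neg r hr]
      congr 2
      simp only [hCh, hs, inv_inv]
  exact DFunLike.congr_fun e g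

theorem tor_fa (t : Fˣ) (g : SL(2, F)) : tor t * fa g * (tor t)⁻¹ = fa (dconj t g) := by
  refine tor_conj_phi h7 t t ?_ g
  rw [show T.pair 6 7 = -1 by decide +kernel, zpow_neg_one]

theorem tor_fb (t : Fˣ) (g : SL(2, F)) : tor t * fb g * (tor t)⁻¹ = fb (dconj t⁻¹ g) := by
  refine tor_conj_phi h11 t t⁻¹ ?_ g
  rw [show T.pair 6 11 = 1 by decide +kernel, zpow_one, inv_inv]

theorem neg_one_zpow_eq {a b : ℤ} (h : a % 2 = b % 2) : (-1 : Fˣ) ^ a = (-1) ^ b := by
  obtain ⟨m, hm⟩ : ∃ m, a = b + 2 * m := ⟨(a - b) / 2, by omega⟩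
  rw [hm, _root_.zpow_add, zpow_mul]
  simp

theorem fb_neg_one : fb (-1 : SL(2, F)) = fa (-1) := by
  rw [← dh_neg_one]
  apply Subtype.ext
  rw [fa, fb, coe_phi_dh, coe_phi_dh]
  refine dU_congr fun s hs => neg_one_zpow_eq ?_
  revert s
  decide +kernel

/-- The central involution. -/
noncomputable def z : GG F := fa (-1)

theorem coe_z : ((z : GG F) : GLT F) = T.dU (T.hCh 7 (-1)) := by
  rw [z, ← dh_neg_one, fa, coe_phi_dh]

theorem fa_central {x : SL(2, F)} {y : SL(2, F)} (h : fa x = fb y) : x = 1 ∨ x = -1 := by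
  suffices hx : x ∈ Subgroup.center SL(2, F) by
    obtain ⟨c, hc, e⟩ := Matrix.SpecialLinearGroup.mem_center_iff.1 hx
    rw [Fintype.card_fin, pow_two] at hc
    rcases mul_self_eq_one_iff.1 hc with rfl | rfl
    · exact Or.inl (Subtype.ext (by rw [← e]; simp))
    · exact Or.inr (Subtype.ext (by rw [← e]; simp [Matrix.scalar_apply, ← Matrix.diagonal_neg]))
  refine Subgroup.mem_center_iff.mpr fun g => fa_injective ?_
  rw [map_mul, map_mul, h]
  exact (fa_fb_commute g y).eq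

/-- The product map. -/
noncomputable def pr : SL(2, F) × SL(2, F) →* GG F :=
  fa.noncommCoprod fb fun x y => fa_fb_commute x y

theorem pr_apply (x y : SL(2, F)) : pr (x, y) = fa x * fb y := rfl

/-- The join of the two `SL₂`'s. -/
noncomputable def L : Subgroup (GG F) := (pr (F := F)).range

theorem L_eq_sup : (L : Subgroup (GG F)) = fa.range ⊔ fb.range := MonoidHom.noncommCoprod_range _ _ _

theorem mem_L {g : GG F} : g ∈ L ↔ ∃ x y, g = fa x * fb y :=
  ⟨fun ⟨⟨x, y⟩, h⟩ => ⟨x, y, h.symm⟩, fun ⟨x, y, h⟩ => ⟨(x, y), h.symm⟩⟩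

theorem fa_inf_fb : (fa (F := F)).range ⊓ fb.range = Subgroup.zpowers z := by
  refine le_antisymm ?_ ((Subgroup.zpowers_le).mpr ⟨⟨-1, rfl⟩, ⟨-1, fb_neg_one⟩⟩)
  rintro g ⟨⟨x, rfl⟩, ⟨y, hy⟩⟩
  rcases fa_central hy.symm with rfl | rfl
  · rw [map_one]; exact one_mem _
  · exact Subgroup.mem_zpowers _

theorem tor_normalizes_L (t : Fˣ) {g : GG F} (hg : g ∈ L) : tor t * g * (tor t)⁻¹ ∈ L := by
  obtain ⟨x, y, rfl⟩ := mem_L.mp hg
  refine mem_L.mpr ⟨dconj t x, dconj t⁻¹ y, ?_⟩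
  rw [← tor_fa, ← tor_fb]
  group

/-- The centraliser of `z`. -/
noncomputable def K : Subgroup (GG F) := L ⊔ (tor (F := F)).range

theorem mem_K {g : GG F} : g ∈ K ↔ ∃ x y t, g = fa x * fb y * tor t := by
  have hn : (tor (F := F)).range ≤ Subgroup.normalizer ((L : Subgroup (GG F)) : Set (GG F)) := by
    rintro _ ⟨t, rfl⟩
    refine Subgroup.mem_normalizer_iff.mpr fun g => ⟨fun hg => tor_normalizes_L t hg, fun hg => ?_⟩
    have := tor_normalizes_L t⁻¹ hg
    simpa [map_inv, mul_assoc] using this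
  rw [K, ← SetLike.mem_coe, Subgroup.coe_mul_of_right_le_normalizer_left _ _ hn, Set.mem_mul]
  constructor
  · rintro ⟨l, hl, _, ⟨t, rfl⟩, rfl⟩
    obtain ⟨x, y, rfl⟩ := mem_L.mp hl
    exact ⟨x, y, t, rfl⟩
  · rintro ⟨x, y, t, rfl⟩
    exact ⟨_, mem_L.mpr ⟨x, y, rfl⟩, _, ⟨t, rfl⟩, rfl⟩

theorem L_le_K : (L : Subgroup (GG F)) ≤ K := le_sup_left

theorem tor_mem_K (t : Fˣ) : tor t ∈ (K : Subgroup (GG F)) := Subgroup.mem_sup_right ⟨t, rfl⟩

theorem tor_sq (r : Fˣ) : tor (r ^ 2) = fa (SL2.dh r⁻¹) * fb (SL2.dh r) := by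
  apply Subtype.ext
  rw [Subgroup.coe_mul, fa, fb, coe_tor, coe_phi_dh, coe_phi_dh, dU_mul]
  refine dU_congr fun s hs => ?_
  simp only [Pi.mul_apply, hCh]
  have h : T.pair 11 s = T.pair 7 s + 2 * T.pair 6 s := by revert s; decide +kernel
  rw [h, inv_zpow', ← _root_.zpow_add, ← zpow_natCast, ← zpow_mul]
  congr 1
  push_cast
  ring

theorem tor_mem_L {t : Fˣ} : tor t ∈ (L : Subgroup (GG F)) ↔ IsSquare t := by
  constructor
  · intro h
    obtain ⟨x, y, e⟩ := mem_L.mp h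
    have h1 : fa (dconj t (SL2.ux 1)) = fa (x * SL2.ux 1 * x⁻¹) := by
      rw [← tor_fa, e, map_mul, map_mul, map_inv]
      have := (fa_fb_commute (SL2.ux 1) y).eq
      rw [_root_.mul_inv_rev, mul_assoc (fa x) (fb y) (fa (SL2.ux 1)), ← this]
      group
    have h2 := fa_injective h1
    rw [eq_mul_inv_iff_mul_eq, dconj_ux, mul_one] at h2
    have h3 : ∀ i j, (SL2.ux (t : F)⁻¹ * x).1 i j = (x * SL2.ux 1).1 i j := fun i j => by rw [h2]
    have h00 := h3 0 0
    have h01 := h3 0 1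
    have hdet : x.1 0 0 * x.1 1 1 - x.1 0 1 * x.1 1 0 = 1 := by
      have := x.2; rwa [Matrix.det_fin_two] at this
    simp [SL2.val_ux_mul] at h00 h01
    simp [SL2.ux, Matrix.SpecialLinearGroup.coe_mul, Matrix.mul_apply, Fin.sum_univ_two] at h00 h01
    rw [h00, mul_zero, sub_zero] at hdet
    have ha : x.1 0 0 ≠ 0 := fun h => by simp [h] at hdet
    refine ⟨(Units.mk0 _ ha)⁻¹, Units.ext ?_⟩
    have ht := t.ne_zero
    field_simp at h01
    simp
    field_simp
    linear_combination -(x.1 0 0) * h01 + hdet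
  · rintro ⟨r, rfl⟩
    rw [← pow_two, tor_sq]
    exact mem_L.mpr ⟨_, _, rfl⟩

theorem z_fa (x : SL(2, F)) : Commute (z : GG F) (fa x) :=
  Commute.map (show Commute (-1 : SL(2, F)) x by
    show _ * _ = _ * _
    simp) fa

theorem z_fb (y : SL(2, F)) : Commute (z : GG F) (fb y) := fa_fb_commute _ _

theorem z_tor (t : Fˣ) : Commute (z : GG F) (tor t) := by
  apply Subtype.ext
  rw [Subgroup.coe_mul, Subgroup.coe_mul, coe_z, coe_tor]
  exact (dU_comm _ _).eq

theorem K_le_centralizer : (K : Subgroup (GG F)) ≤ Subgroup.centralizer {z} := by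
  intro g hg
  obtain ⟨x, y, t, rfl⟩ := mem_K.mp hg
  rw [Subgroup.mem_centralizer_singleton_iff]
  exact (((z_fa x).mul_right (z_fb y)).mul_right (z_tor t)).eq.symm

theorem neg_one_ne (h2 : (2 : F) ≠ 0) : (-1 : Fˣ) ≠ 1 := fun h => h2 (by
  have : (-1 : F) = 1 := congrArg Units.val h
  linear_combination -this)

theorem even_of_neg_one_zpow (h2 : (2 : F) ≠ 0) {a : ℤ} (h : (-1 : Fˣ) ^ a = 1) : a % 2 = 0 := by
  by_contra ha
  have : (-1 : Fˣ) ^ a = (-1) ^ (1 : ℤ) := neg_one_zpow_eq (by omega)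
  rw [h, zpow_one] at this
  exact neg_one_ne h2 this.symm

theorem fixed_mem (h2 : (2 : F) ≠ 0) : ∀ m k, k + m = T.n → T.half ≤ k →
    ∀ g ∈ T.rootGen F (fun r => k ≤ r), Commute ((z : GG F) : GLT F) g →
      g ∈ T.rootGen F (fun r => r = 7 ∨ r = 11) := by
  intro m
  induction m with
  | zero =>
    intro k hkm _ g hg _
    rw [show k = T.n by omega, ge_n_eq_bot hV, Subgroup.mem_bot] at hg
    rw [hg]; exact one_mem _
  | succ m ih =>
    intro k hkm hk g hg hz
    have hkn : k < T.n := by omega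
    obtain ⟨t, g', hg', rfl⟩ := (mem_ge_iff hV hC hk hkn).mp hg
    set ζ : GLT F := ((z : GG F) : GLT F) with hζ
    have hd : ζ ∈ T.datum.diagonalSubgroup F := by rw [hζ, coe_z]; exact dU_hCh_mem_diag h7 _
    have hg'' : ζ * g' * ζ⁻¹ ∈ T.rootGen F (fun r => k + 1 ≤ r) :=
      (Subgroup.mem_normalizer_iff.mp (diag_le_normalizer hV _ hd) g').mp hg'
    have e : T.xU F k ((((-1 : Fˣ) ^ T.pair 7 k : Fˣ) : F) * t) * (ζ * g' * ζ⁻¹) =
        T.xU F k t * g' := by
      have := mul_inv_eq_iff_eq_mul.mpr hz.eq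
      conv_rhs => rw [← this]
      have h : ζ * T.xU F k t = T.xU F k ((((-1 : Fˣ) ^ T.pair 7 k : Fˣ) : F) * t) * ζ := by
        rw [hζ, coe_z, dU_conj_X hV (isChar_hCh hV 7 (-1)) hkn]; rfl
      rw [← mul_assoc ζ, h]
      group
    obtain ⟨ht, hg2⟩ := xU_mul_inj hV hC hk hkn hg'' hg' e
    have hrec := ih (k + 1) (by omega) (by omega) g' hg' (mul_inv_eq_iff_eq_mul.mp hg2)
    by_cases hk7 : k = 7 ∨ k = 11
    · exact mul_mem (xU_mem_rootGen (P := fun r => r = 7 ∨ r = 11) hkn hk7 t) hrec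
    · have hodd : T.pair 7 k % 2 = 1 := by
        clear hrec hg2 ht e hg'' hg' hkm hg hz ih hd
        revert hk7 hk; revert k; decide +kernel
      have : t = 0 := by
        rw [neg_one_zpow_eq (b := 1) hodd, zpow_one, Units.val_neg, Units.val_one] at ht
        have : (2 : F) * t = 0 := by linear_combination -ht
        exact (mul_eq_zero.mp this).resolve_left h2
      rw [this, xU_zero hV hkn, one_mul]
      exact hrec

theorem K_of_coe_mem {g : GG F}
    (h : (g : GLT F) ∈ (K : Subgroup (GG F)).map (T.datum.group F).subtype) : g ∈ K := by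
  obtain ⟨k, hk, e⟩ := h
  rwa [← Subtype.ext e]

theorem rank_zero : 0 < T.rank := by decide
theorem rank_one : 1 < T.rank := by decide

theorem sum_rank (f : Fin T.rank → ℤ) : ∑ k, f k = f ⟨0, rank_zero⟩ + f ⟨1, rank_one⟩ :=
  Fin.sum_univ_two f

theorem prod_rank (f : Fin T.rank → Fˣ) : ∏ k, f k = f ⟨0, rank_zero⟩ * f ⟨1, rank_one⟩ :=
  Fin.prod_univ_two f

theorem fa_mem_K (x : SL(2, F)) : fa x ∈ (K : Subgroup (GG F)) :=
  L_le_K (mem_L.mpr ⟨x, 1, by rw [map_one fb, mul_one]⟩)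

theorem fb_mem_K (y : SL(2, F)) : fb y ∈ (K : Subgroup (GG F)) :=
  L_le_K (mem_L.mpr ⟨1, y, by rw [map_one fa, one_mul]⟩)

theorem rootGen_le_K : T.rootGen F (fun r => r = 7 ∨ r = 11) ≤
    (K : Subgroup (GG F)).map (T.datum.group F).subtype := by
  refine rootGen_le fun r hr hrr t => ?_
  rcases hrr with rfl | rfl
  · exact ⟨fa (SL2.ux t), fa_mem_K _, coe_phi_ux h7 t⟩
  · exact ⟨fb (SL2.ux t), fb_mem_K _, coe_phi_ux h11 t⟩

theorem diag_le_K : T.datum.diagonalSubgroup F ≤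
    (K : Subgroup (GG F)).map (T.datum.group F).subtype := by
  intro g hg
  obtain ⟨f, rfl⟩ := (mem_diag_iff hV).mp hg
  refine ⟨fa (SL2.dh (f ⟨0, rank_zero⟩)) * tor (f ⟨1, rank_one⟩),
    mul_mem (fa_mem_K _) (tor_mem_K _), ?_⟩
  show ((fa (SL2.dh (f ⟨0, rank_zero⟩)) : GG F) : GLT F) *
    ((tor (f ⟨1, rank_one⟩) : GG F) : GLT F) = _
  rw [fa, coe_phi_dh, coe_tor, dU_mul]
  refine dU_congr fun s _ => ?_
  rw [prod_rank]
  simp only [Pi.mul_apply, hCh]
  rw [← pair_simple hV (i := 0) (by decide) s, ← pair_simple hV (i := 1) (by decide) s]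
  rfl

theorem co_injective : ∀ u < T.n, ∀ v < T.n, T.co u 0 = T.co v 0 → T.co u 1 = T.co v 1 → u = v := by
  decide +kernel

theorem WP_determined {w w' : Equiv.Perm (Fin T.n)} (hw : w ∈ T.WP hV) (hw' : w' ∈ T.WP hV)
    (e7 : (w ⟨7, h7⟩).val = (w' ⟨7, h7⟩).val) (e11 : (w ⟨11, h11⟩).val = (w' ⟨11, h11⟩).val) :
    w = w' := by
  have s0 : T.simpF hV ⟨0, by decide⟩ = ⟨7, h7⟩ := rfl
  have c0 : T.co 11 0 = 3 := by decide +kernel
  have c1 : T.co 11 1 = 2 := by decide +kernel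
  have h6' : ∀ j < T.rank,
      T.co (w (T.simpF hV ⟨1, by decide⟩)).val j = T.co (w' (T.simpF hV ⟨1, by decide⟩)).val j := by
    intro j hj
    have a := WP_linear hV hw ⟨11, h11⟩ hj
    have b := WP_linear hV hw' ⟨11, h11⟩ hj
    rw [sum_rank] at a b
    rw [e11] at a
    change _ = T.co 11 0 * T.co (w ⟨7, h7⟩).val j +
      T.co 11 1 * T.co (w (T.simpF hV ⟨1, by decide⟩)).val j at a
    change _ = T.co 11 0 * T.co (w' ⟨7, h7⟩).val j +
      T.co 11 1 * T.co (w' (T.simpF hV ⟨1, by decide⟩)).val j at b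
    rw [e7, c0, c1] at a
    rw [c0, c1] at b
    omega
  refine Equiv.ext fun s => Fin.ext ?_
  have key : ∀ j < T.rank, T.co (w s).val j = T.co (w' s).val j := by
    intro j hj
    rw [WP_linear hV hw s hj, WP_linear hV hw' s hj]
    refine Finset.sum_congr rfl fun k _ => ?_
    congr 1
    fin_cases k
    · exact congrArg (fun u => T.co u j) e7
    · exact h6' j hj
  exact co_injective _ (w s).2 _ (w' s).2 (key 0 (by decide)) (key 1 (by decide))

theorem phi_wn_image {r : ℕ} (hr : r < T.n) {w : Equiv.Perm (Fin T.n)}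
    (hm : T.Mono (T.nU F r 1) w) {s s' : ℕ} (hs : s < T.n) (hs' : s' < T.n) {c : F}
    (h : (T.nU F r 1 : GLT F) * T.xU F s 1 = T.xU F s' c * T.nU F r 1) :
    (w ⟨s, hs⟩).val = s' := by
  obtain ⟨d, hd⟩ := hm.conj ⟨s, hs⟩
  have e := (hd 1).1
  rw [h] at e
  exact root_ne (w _).2 hs' (by simp) (mul_right_cancel e).symm

theorem exists_rep {r7 r11 : ℕ} (h1 : r7 = 4 ∨ r7 = 7) (h2 : r11 = 0 ∨ r11 = 11) :
    ∃ m : GG F, m ∈ K ∧ (m : GLT F) ∈ T.datum.monomialSubgroup F ∧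
      ∃ w ∈ T.WP hV, T.Mono (m : GLT F) w ∧ (w ⟨7, h7⟩).val = r7 ∧ (w ⟨11, h11⟩).val = r11 := by
  obtain ⟨wa, hwa, hma⟩ := exists_mono hV (nU_mem_monomial (F := F) h7)
  obtain ⟨wb, hwb, hmb⟩ := exists_mono hV (nU_mem_monomial (F := F) h11)
  have h4 : (4 : ℕ) < T.n := by decide
  have h0 : (0 : ℕ) < T.n := by decide
  have hA7 : wa ⟨7, h7⟩ = ⟨4, h4⟩ := Fin.ext (phi_wn_image h7 hma h7 h4 (nU_conj hV h7 1))
  have hB11 : wb ⟨11, h11⟩ = ⟨0, h0⟩ := Fin.ext (phi_wn_image h11 hmb h11 h0 (nU_conj hV h11 1))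
  have hA11 : wa ⟨11, h11⟩ = ⟨11, h11⟩ := by
    refine Fin.ext (phi_wn_image (c := 1) h7 hma h11 h11 ?_)
    have := congrArg Subtype.val (fa_fb_commute (F := F) SL2.wn (SL2.ux 1)).eq
    simpa [fa, fb, coe_phi_ux, coe_phi_wn] using this
  have hB7 : wb ⟨7, h7⟩ = ⟨7, h7⟩ := by
    refine Fin.ext (phi_wn_image (c := 1) h11 hmb h7 h7 ?_)
    have := congrArg Subtype.val (fa_fb_commute (F := F) (SL2.ux 1) SL2.wn).eq
    simpa [fa, fb, coe_phi_ux, coe_phi_wn] using this.symm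
  have hA : fa (SL2.wn : SL(2, F)) ∈ (K : Subgroup (GG F)) := fa_mem_K _
  have hB : fb (SL2.wn : SL(2, F)) ∈ (K : Subgroup (GG F)) := fb_mem_K _
  have cA : ((fa (SL2.wn : SL(2, F)) : GG F) : GLT F) = T.nU F 7 1 := coe_phi_wn h7
  have cB : ((fb (SL2.wn : SL(2, F)) : GG F) : GLT F) = T.nU F 11 1 := coe_phi_wn h11
  rcases h1 with rfl | rfl <;> rcases h2 with rfl | rfl
  · refine ⟨fa SL2.wn * fb SL2.wn, mul_mem hA hB, ?_, wa * wb, mul_mem hwa hwb, ?_, ?_, ?_⟩
    · rw [Subgroup.coe_mul, cA, cB]; exact mul_mem (nU_mem_monomial h7) (nU_mem_monomial h11)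
    · rw [Subgroup.coe_mul, cA, cB]; exact hma.mul hmb
    · rw [Equiv.Perm.mul_apply, hB7, hA7]
    · rw [Equiv.Perm.mul_apply, hB11]
      have := hma.negEq ⟨11, h11⟩
      rw [hA11] at this
      exact congrArg Fin.val this
  · refine ⟨fa SL2.wn, hA, ?_, wa, hwa, ?_, by rw [hA7], by rw [hA11]⟩
    · rw [cA]; exact nU_mem_monomial h7
    · rw [cA]; exact hma
  · refine ⟨fb SL2.wn, hB, ?_, wb, hwb, ?_, by rw [hB7], by rw [hB11]⟩
    · rw [cB]; exact nU_mem_monomial h11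
    · rw [cB]; exact hmb
  · exact ⟨1, one_mem _, one_mem _, 1, one_mem _, Mono.one, rfl, rfl⟩

theorem monomial_fixing_le_K (h2 : (2 : F) ≠ 0) {n : GLT F}
    (hn : n ∈ T.datum.monomialSubgroup F) (hc : Commute ((z : GG F) : GLT F) n) :
    n ∈ (K : Subgroup (GG F)).map (T.datum.group F).subtype := by
  obtain ⟨w, hw, hm⟩ := exists_mono hV hn
  have hev : ∀ s : Fin T.n, T.pair 7 s % 2 = 0 → T.pair 7 (w s).val % 2 = 0 := by
    intro s hs
    obtain ⟨c, hc'⟩ := hm.conj s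
    have e := (hc' 1).1
    rw [mul_one] at e
    refine even_of_neg_one_zpow h2 ?_
    set ζ : GLT F := ((z : GG F) : GLT F) with hζ
    have hx : ∀ (u : ℕ), u < T.n → ∀ a : F,
        ζ * T.xU F u a = T.xU F u ((((-1 : Fˣ) ^ T.pair 7 u : Fˣ) : F) * a) * ζ := by
      intro u hu a
      rw [hζ, coe_z, dU_conj_X hV (isChar_hCh hV 7 (-1)) hu]; rfl
    have e2 : ζ * (n * T.xU F s 1) = (n * T.xU F s 1) * ζ := by
      rw [← mul_assoc, hc.eq, mul_assoc, hx s s.2 1,
        neg_one_zpow_eq (b := 0) (by simpa using hs), zpow_zero, Units.val_one, one_mul, ← mul_assoc]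
    rw [e] at e2
    conv_lhs at e2 => rw [← mul_assoc, hx _ (w s).2 c, mul_assoc, hc.eq, ← mul_assoc]
    have e3 := xU_inj hV (w s).2 (mul_right_cancel (mul_right_cancel e2))
    exact Units.ext (mul_right_cancel₀ c.ne_zero (by simpa using e3))
  have hne1 : (w ⟨11, h11⟩).val ≠ (w ⟨7, h7⟩).val := fun h => by
    have := w.injective (Fin.ext h)
    simp at this
  have hlin : ∀ j < T.rank, T.co (w ⟨11, h11⟩).val j =
      3 * T.co (w ⟨7, h7⟩).val j + 2 * T.co (w (T.simpF hV ⟨1, by decide⟩)).val j := by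
    intro j hj
    have a := WP_linear hV hw ⟨11, h11⟩ hj
    rw [sum_rank] at a
    rw [a, show T.co 11 0 = 3 by decide +kernel, show T.co 11 1 = 2 by decide +kernel]
    rfl
  have fin : ∀ r s u : Fin 12,
      (T.pair 7 r.val % 2 = 0 ∧ T.pair 7 s.val % 2 = 0 ∧ s.val ≠ r.val ∧
      T.co s.val 0 = 3 * T.co r.val 0 + 2 * T.co u.val 0 ∧
        T.co s.val 1 = 3 * T.co r.val 1 + 2 * T.co u.val 1) →
      (r.val = 4 ∨ r.val = 7) ∧ (s.val = 0 ∨ s.val = 11) := by decide +kernel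
  obtain ⟨h47, h011⟩ := fin (w ⟨7, h7⟩) (w ⟨11, h11⟩) (w (T.simpF hV ⟨1, by decide⟩))
    ⟨hev _ (by decide +kernel), hev _ (by decide +kernel), hne1, hlin 0 (by decide),
      hlin 1 (by decide)⟩
  obtain ⟨m, hmK, hmN, w', hw', hmm, e7, e11⟩ := exists_rep (F := F) h47 h011
  obtain rfl := WP_determined hw hw' e7.symm e11.symm
  have hd : n * (m : GLT F)⁻¹ ∈ T.datum.diagonalSubgroup F := by
    refine mem_diag_of_mono_one hV (mul_mem hn (inv_mem hmN)) ?_
    have := hm.mul hmm.inv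
    rwa [mul_inv_cancel] at this
  have h := mul_mem (diag_le_K hd) (Subgroup.mem_map_of_mem (T.datum.group F).subtype hmK)
  simpa using h

theorem centralizer_z (h2 : (2 : F) ≠ 0) :
    Subgroup.centralizer ({z} : Set (GG F)) = K := by
  refine le_antisymm (fun g hg => ?_) K_le_centralizer
  rw [Subgroup.mem_centralizer_singleton_iff] at hg
  have hz : Commute ((z : GG F) : GLT F) (g : GLT F) := (congrArg Subtype.val hg).symm
  set ζ : GLT F := ((z : GG F) : GLT F) with hζ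
  have hd : ζ ∈ T.datum.diagonalSubgroup F := by rw [hζ, coe_z]; exact dU_hCh_mem_diag h7 _
  obtain ⟨b, hb, n, hn, w, hw, hm, u, hu, e⟩ := exists_canonical hV hC g.2
  set ζ' : GLT F := n * ζ * n⁻¹ with hζ'
  have hd' : ζ' ∈ T.datum.diagonalSubgroup F := conj_diag hV hn hd
  have hbB : ζ * b * ζ'⁻¹ ∈ T.datum.borelSubgroup F :=
    mul_mem (mul_mem (Subgroup.mem_sup_right hd) hb) (inv_mem (Subgroup.mem_sup_right hd'))
  have huU : ζ * u * ζ⁻¹ ∈ T.rootGen F (T.negSet w) :=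
    (Subgroup.mem_normalizer_iff.mp (diag_le_normalizer hV _ hd) u).mp hu
  have he : ζ * b * ζ'⁻¹ * n * (ζ * u * ζ⁻¹) = b * n * u := by
    rw [← e]
    calc ζ * b * ζ'⁻¹ * n * (ζ * u * ζ⁻¹) = ζ * (b * n * u) * ζ⁻¹ := by rw [hζ']; group
      _ = g := by rw [← e, hz.eq, mul_inv_cancel_right]
  obtain ⟨hbb, huu⟩ := (canonical_unique hV hC hbB hb hn hn hm huU hu he).2 hm rfl
  obtain ⟨u0, hu0, k0, hk0, rfl⟩ := (mem_borel_iff hV).mp hb
  have hu0' : ζ * u0 * ζ⁻¹ ∈ T.datum.posUnipotent F := by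
    rw [posUnipotent_rootGen hV] at hu0 ⊢
    exact (Subgroup.mem_normalizer_iff.mp (diag_le_normalizer hV _ hd) u0).mp hu0
  have h1 : u0⁻¹ * (ζ * u0 * ζ⁻¹) = 1 := by
    rw [← Subgroup.mem_bot, ← pos_inf_diag (T := T) (F := F) hV]
    refine Subgroup.mem_inf.mpr ⟨mul_mem (inv_mem hu0) hu0', ?_⟩
    have e4 : u0⁻¹ * (ζ * u0 * ζ⁻¹) = k0 * (ζ * k0 * ζ'⁻¹)⁻¹ := by
      rw [eq_mul_inv_iff_mul_eq, ← mul_right_inj u0]
      calc u0 * (u0⁻¹ * (ζ * u0 * ζ⁻¹) * (ζ * k0 * ζ'⁻¹)) = ζ * (u0 * k0) * ζ'⁻¹ := by group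
        _ = u0 * k0 := hbb
    rw [e4]
    exact mul_mem hk0 (inv_mem (mul_mem (mul_mem hd hk0) (inv_mem hd')))
  rw [inv_mul_eq_one] at h1
  have hu0z : Commute ζ u0 := mul_inv_eq_iff_eq_mul.mp h1.symm
  have huz : Commute ζ u := mul_inv_eq_iff_eq_mul.mp huu
  have hζζ : ζ' = ζ := by
    have : ζ * k0 * ζ'⁻¹ = k0 := by
      rw [← mul_right_inj u0, ← mul_assoc, ← mul_assoc, ← hu0z.eq, mul_assoc ζ u0 k0]
      exact hbb
    rw [mul_inv_eq_iff_eq_mul, diag_comm hV hd hk0] at this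
    exact (mul_left_cancel this).symm
  have hnz : Commute ζ n := by
    rw [hζ', mul_inv_eq_iff_eq_mul] at hζζ
    exact hζζ.symm
  refine K_of_coe_mem ?_
  rw [e]
  refine mul_mem (mul_mem (mul_mem ?_ (diag_le_K hk0)) (monomial_fixing_le_K h2 hn hnz)) ?_
  · rw [posUnipotent_rootGen hV] at hu0
    exact rootGen_le_K (fixed_mem h2 T.half T.half (Nat.two_mul _).symm le_rfl u0 hu0 hu0z)
  · exact rootGen_le_K (fixed_mem h2 T.half T.half (Nat.two_mul _).symm le_rfl u
      (rootGen_mono (fun r _ h => h.2.1) hu) huz)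

section Card

variable [Fintype F]

theorem odd_char (h : Odd (Fintype.card F)) : (2 : F) ≠ 0 := by
  intro h2
  have : CharP F 2 := CharTwo.of_one_ne_zero_of_two_eq_zero one_ne_zero h2
  obtain ⟨n, hp, hn⟩ := FiniteField.card F 2
  rw [hn] at h
  exact absurd (Even.pow_of_ne_zero even_two n.ne_zero) (Nat.not_even_iff_odd.mpr h)

theorem card_pr_ker (h2 : (2 : F) ≠ 0) : Nat.card (pr (F := F)).ker = 2 := by
  have hne : (-1 : SL(2, F)) ≠ 1 := fun h => by
    have := congrArg (fun g : SL(2, F) => g.1 0 0) h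
    simp at this
    exact h2 (by linear_combination -this)
  have h1 : (pr (F := F)) (-1, -1) = 1 := by
    rw [pr_apply, fb_neg_one, ← map_mul, neg_mul_neg, one_mul, map_one]
  rw [Nat.card_eq_two_iff' (1 : (pr (F := F)).ker)]
  refine ⟨⟨(-1, -1), h1⟩, fun e => hne (congrArg (fun p => p.1.1) e), ?_⟩
  rintro ⟨⟨x, y⟩, hxy⟩ hne1
  rw [MonoidHom.mem_ker, pr_apply, mul_eq_one_iff_eq_inv, ← map_inv] at hxy
  rcases fa_central hxy with rfl | rfl
  · rw [map_one, eq_comm, ← map_one fb] at hxy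
    have := fb_injective hxy
    rw [inv_eq_one] at this
    refine absurd ?_ hne1
    exact Subtype.ext (Prod.ext rfl this)
  · rw [← fb_neg_one] at hxy
    have := fb_injective hxy
    refine Subtype.ext (Prod.ext rfl ?_)
    show y = -1
    rw [← inv_inv y, ← this]
    exact inv_eq_of_mul_eq_one_right (by simp)

theorem card_L (h2 : (2 : F) ≠ 0) :
    2 * Nat.card (L : Subgroup (GG F)) = Nat.card SL(2, F) ^ 2 := by
  have h := Subgroup.card_mul_index (pr (F := F)).ker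
  rw [Subgroup.index_ker, card_pr_ker h2, Nat.card_prod, ← pow_two] at h
  exact h

theorem isSquare_mul_iff (h2 : (2 : F) ≠ 0) {t t0 : Fˣ} (ht0 : ¬ IsSquare t0) :
    IsSquare (t * t0) ↔ ¬ IsSquare t := by
  have hF : ringChar F ≠ 2 := fun h => h2 (by
    haveI := ringChar.of_eq h
    exact CharTwo.two_eq_zero)
  have key : ∀ u : Fˣ, IsSquare u ↔ u ^ (Fintype.card F / 2) = 1 := fun u =>
    FiniteField.unit_isSquare_iff hF u
  have dich : ∀ u : Fˣ, u ^ (Fintype.card F / 2) = 1 ∨ u ^ (Fintype.card F / 2) = -1 := fun u => by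
    rcases FiniteField.pow_dichotomy hF u.ne_zero with h | h
    · exact Or.inl (Units.ext (by simpa using h))
    · exact Or.inr (Units.ext (by simpa using h))
  rw [key, key, mul_pow]
  rw [key] at ht0
  rw [(dich t0).resolve_left ht0]
  rcases dich t with h | h <;> simp [h, neg_one_ne h2]

theorem exists_nonsquare_unit (h2 : (2 : F) ≠ 0) : ∃ t0 : Fˣ, ¬ IsSquare t0 := by
  have hF : ringChar F ≠ 2 := fun h => h2 (by
    haveI := ringChar.of_eq h
    exact CharTwo.two_eq_zero)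
  obtain ⟨a, ha⟩ := FiniteField.exists_nonsquare hF
  have ha0 : a ≠ 0 := fun h => ha (by rw [h]; exact IsSquare.zero)
  refine ⟨Units.mk0 a ha0, ?_⟩
  rintro ⟨r, hr⟩
  exact ha ⟨r, by simpa using congrArg Units.val hr⟩

theorem relIndex_L_K (h2 : (2 : F) ≠ 0) : (L : Subgroup (GG F)).relIndex K = 2 := by
  obtain ⟨t0, ht0⟩ := exists_nonsquare_unit (F := F) h2
  rw [Subgroup.relIndex, Subgroup.index_eq_two_iff]
  refine ⟨⟨tor t0, tor_mem_K t0⟩, fun b => ?_⟩
  obtain ⟨x, y, t, e⟩ := mem_K.mp b.2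
  have hl : fa x * fb y ∈ (L : Subgroup (GG F)) := mem_L.mpr ⟨x, y, rfl⟩
  simp only [Subgroup.mem_subgroupOf, Subgroup.coe_mul, e]
  rw [mul_assoc (fa x * fb y), ← map_mul, Subgroup.mul_mem_cancel_left _ hl,
    Subgroup.mul_mem_cancel_left _ hl, tor_mem_L, tor_mem_L, isSquare_mul_iff h2 ht0]
  by_cases h : IsSquare t <;> simp [h, Xor']

theorem card_K (h2 : (2 : F) ≠ 0) : Nat.card (K : Subgroup (GG F)) =
    Fintype.card F ^ 2 * (Fintype.card F ^ 2 - 1) ^ 2 := by
  have h := Subgroup.card_mul_index ((L : Subgroup (GG F)).subgroupOf K)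
  rw [← Subgroup.relIndex, relIndex_L_K h2,
    Nat.card_congr (Subgroup.subgroupOfEquivOfLe L_le_K).toEquiv, mul_comm, card_L h2,
    CfsgLib.Classical.card_sl2 rfl, mul_pow] at h
  exact h.symm

end Card

end CfsgLib.Chevalley.G2Inv
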