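import Cfsg.Agent.Lib.Chevalley.Tables
import Cfsg.Agent.Lib.Chevalley.Data.Certs
import Cfsg.Agent.Lib.Chevalley.Perfect

/-!
Tables with their certificates.
-/

set_option autoImplicit false

namespace CfsgLib.Chevalley

theorem exists_tbl_perfect {D : Cfsg.Lie.ChevalleyDatum}
    (hD : D ∈ [Cfsg.Lie.chevG2, Cfsg.Lie.chevB2, Cfsg.Lie.chevD4, Cfsg.Lie.chevF4, Cfsg.Lie.chevE6,
      Cfsg.Lie.chevE7, Cfsg.Lie.chevE8]) :
    ∃ T : Tbl, ∃ torus : Bool, T.Valid ∧ T.chkComm = true ∧ T.chkConn = true ∧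
      T.chkPerfect torus = true ∧ T.datum = D ∧
      (torus = true → D = Cfsg.Lie.chevG2 ∨ D = Cfsg.Lie.chevB2) := by
  simp only [List.mem_cons, List.not_mem_nil, or_false] at hD
  rcases hD with rfl | rfl | rfl | rfl | rfl | rfl | rfl
  · exact ⟨_, _, Data.G2.valid, Data.G2.chkComm, Data.G2.chkConn, Data.G2.chkPerfect,
      Data.G2.datum_eq, fun _ => Or.inl rfl⟩
  · exact ⟨_, _, Data.B2.valid, Data.B2.chkComm, Data.B2.chkConn, Data.B2.chkPerfect,
      Data.B2.datum_eq, fun _ => Or.inr rfl⟩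
  · exact ⟨_, _, Data.D4.valid, Data.D4.chkComm, Data.D4.chkConn, Data.D4.chkPerfect,
      Data.D4.datum_eq, fun h => by simp at h⟩
  · exact ⟨_, _, Data.F4.valid, Data.F4.chkComm, Data.F4.chkConn, Data.F4.chkPerfect,
      Data.F4.datum_eq, fun h => by simp at h⟩
  · exact ⟨_, _, Data.E6.valid, Data.E6.chkComm, Data.E6.chkConn, Data.E6.chkPerfect,
      Data.E6.datum_eq, fun h => by simp at h⟩
  · exact ⟨_, _, Data.E7.valid, Data.E7.chkComm, Data.E7.chkConn, Data.E7.chkPerfect,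
      Data.E7.datum_eq, fun h => by simp at h⟩
  · exact ⟨_, _, Data.E8.valid, Data.E8.chkComm, Data.E8.chkConn, Data.E8.chkPerfect,
      Data.E8.datum_eq, fun h => by simp at h⟩

end CfsgLib.Chevalley
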