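import Cfsg.Agent.Lib.Chevalley.G2Inv
import Cfsg.Agent.Lib.Fusion.ThompsonTransfer
import Cfsg.Agent.S1055
import Cfsg.Agent.S1059

/-!
The involutions of `G₂(q)`, `q` odd, form one class.
-/

set_option autoImplicit false

namespace CfsgLib.Chevalley.G2Inv

open Tbl
open scoped MatrixGroups

variable {F : Type*} [Field F]

theorem sl2_sq_eq_one (h2 : (2 : F) ≠ 0) {x : SL(2, F)} (h : x * x = 1) : x = 1 ∨ x = -1 := by
  have hd := x.2
  rw [Matrix.det_fin_two] at hd
  have e : ∀ i j, (x * x).1 i j = (1 : SL(2, F)).1 i j := fun i j => by rw [h]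
  have e00 := e 0 0
  have e01 := e 0 1
  have e10 := e 1 0
  have e11 := e 1 1
  simp [Matrix.mul_apply, Fin.sum_univ_two] at e00 e01 e10 e11
  have had : x.1 0 0 + x.1 1 1 ≠ 0 := by
    intro h0
    apply h2
    linear_combination -e00 - hd + x.1 0 0 * h0
  have hb : x.1 0 1 = 0 := by
    refine (mul_eq_zero.mp (?_ : x.1 0 1 * (x.1 0 0 + x.1 1 1) = 0)).resolve_right had
    linear_combination e01
  have hc : x.1 1 0 = 0 := by
    refine (mul_eq_zero.mp (?_ : x.1 1 0 * (x.1 0 0 + x.1 1 1) = 0)).resolve_right had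
    linear_combination e10
  rw [hb, zero_mul, add_zero] at e00
  rw [hb, zero_mul, sub_zero] at hd
  rcases mul_self_eq_one_iff.mp e00 with ha | ha
  · left
    apply Subtype.ext
    rw [ha, one_mul] at hd
    ext i j; fin_cases i <;> fin_cases j <;> simp [ha, hb, hc, hd]
  · right
    apply Subtype.ext
    have hd' : x.1 1 1 = -1 := by rw [ha] at hd; linear_combination -hd
    ext i j; fin_cases i <;> fin_cases j <;> simp [ha, hb, hc, hd']

theorem dconj_val (t : Fˣ) (g : SL(2, F)) : (dconj t g).1 =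
    !![g.1 0 0, (t : F)⁻¹ * g.1 0 1; (t : F) * g.1 1 0, g.1 1 1] := rfl

theorem dh_mul (a b : Fˣ) : SL2.dh (a * b) = SL2.dh a * SL2.dh b := map_mul dhHom a b

theorem dh_sq_neg_one {a : Fˣ} (h : SL2.dh a * SL2.dh a = (-1 : SL(2, F))) : (a : F) * a = -1 := by
  rw [← dh_mul, ← dh_neg_one] at h
  have := congrArg (fun g : SL(2, F) => g.1 0 0) h
  simpa [SL2.dh] using this

theorem dconj_neg_one_inv : dconj ((-1 : Fˣ)⁻¹) = dconj (-1 : Fˣ) := by rw [inv_neg, inv_one]

theorem twist_val (u : SL(2, F)) : (u * dconj (-1) u⁻¹).1 =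
    u.1 * !![u.1 1 1, u.1 0 1; u.1 1 0, u.1 0 0] := by
  show u.1 * (dconj (-1) u⁻¹).1 = _
  rw [dconj_val, Matrix.SpecialLinearGroup.coe_inv, Matrix.adjugate_fin_two]
  simp [inv_neg]

theorem twist_eq {x : SL(2, F)} {p q r s : F} (h : p * s - q * r = 1)
    (h00 : x.1 0 0 = p * s + q * r) (h01 : x.1 0 1 = p * q + q * p)
    (h10 : x.1 1 0 = r * s + s * r) (h11 : x.1 1 1 = r * q + s * p) :
    ∃ u : SL(2, F), x = u * dconj (-1) u⁻¹ := by
  let u : SL(2, F) := ⟨!![p, q; r, s], by rw [Matrix.det_fin_two_of]; exact h⟩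
  have hm : x.1 = u.1 * !![u.1 1 1, u.1 0 1; u.1 1 0, u.1 0 0] := by
    ext i j
    fin_cases i <;> fin_cases j <;> simp [u, Matrix.mul_apply, Fin.sum_univ_two, h00, h01, h10, h11]
  exact ⟨u, Subtype.ext (hm.trans (twist_val u).symm)⟩

/-- The twisted square roots. -/
theorem twisted_sqrt (h2 : (2 : F) ≠ 0) (hns : ∀ a : F, a * a ≠ -1) {x : SL(2, F)}
    (h : x * dconj (-1) x = 1 ∨ x * dconj (-1) x = -1) :
    x * dconj (-1) x = 1 ∧ ∃ u : SL(2, F), x = u * dconj (-1) u⁻¹ := by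
  have hd := x.2
  rw [Matrix.det_fin_two] at hd
  obtain ⟨ε, hε, e⟩ : ∃ ε : F, (ε = 1 ∨ ε = -1) ∧
      ∀ i j, (x * dconj (-1) x).1 i j = ε * (1 : Matrix (Fin 2) (Fin 2) F) i j := by
    rcases h with h | h
    · exact ⟨1, Or.inl rfl, fun i j => by rw [h]; simp⟩
    · exact ⟨-1, Or.inr rfl, fun i j => by rw [h]; simp⟩
  have e00 := e 0 0
  have e01 := e 0 1
  have e11 := e 1 1
  have e10 := e 1 0
  simp [dconj_val, Matrix.mul_apply, Fin.sum_univ_two, inv_neg] at e00 e01 e10 e11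
  have had : x.1 1 1 = x.1 0 0 := by
    by_contra hne
    have hne' : x.1 1 1 - x.1 0 0 ≠ 0 := sub_ne_zero.mpr hne
    have hb : x.1 0 1 = 0 := by
      refine (mul_eq_zero.mp (?_ : x.1 0 1 * (x.1 1 1 - x.1 0 0) = 0)).resolve_right hne'
      linear_combination e01
    rw [hb] at e00 e11 hd
    simp at e00 e11 hd
    rcases hε with rfl | rfl
    · apply hne
      linear_combination x.1 0 0 * hd - x.1 1 1 * e00
    · exact hns _ e00
  rw [had] at hd e11
  have hε1 : ε = 1 := by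
    rcases hε with rfl | rfl
    · rfl
    · exfalso; apply h2
      linear_combination e00 - hd
  subst hε1
  refine ⟨?_, ?_⟩
  · refine h.resolve_right fun hh => ?_
    have := congrArg (fun g : SL(2, F) => g.1 0 0) hh
    simp [dconj_val, Matrix.mul_apply, Fin.sum_univ_two, inv_neg] at this
    exact h2 (by linear_combination this - e00)
  by_cases ha : x.1 0 0 = -1
  · have hbc : x.1 0 1 * x.1 1 0 = 0 := by rw [ha] at hd; linear_combination -hd
    have h4 : (4 : F) ≠ 0 := fun h => h2 (mul_self_eq_zero.mp (by linear_combination h))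
    apply twist_eq (p := -x.1 0 1) (q := -(1 / 2)) (r := 2) (s := x.1 1 0 / 4) <;>
      (try rw [had]) <;> (try rw [ha]) <;> field_simp <;>
      first | ring1 | linear_combination hbc | linear_combination -hbc | linear_combination 2 * hbc |
        linear_combination -2 * hbc
  · have ha1 : 1 + x.1 0 0 ≠ 0 := fun h => ha (by linear_combination h)
    apply twist_eq (p := 1 + x.1 0 0) (q := x.1 0 1 / (2 * (1 + x.1 0 0))) (r := x.1 1 0)
      (s := 1 / 2) <;>
      (try rw [had]) <;> field_simp <;>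
      first | ring1 | linear_combination hd | linear_combination -hd

/-- Elements `fa x * fb y` with both factors of order four. -/
def InA (g : GG F) : Prop := ∃ x y : SL(2, F), x * x = -1 ∧ y * y = -1 ∧ g = fa x * fb y

theorem L_involution (h2 : (2 : F) ≠ 0) {g : GG F} (hg : g ∈ L) (h : g * g = 1) :
    g = 1 ∨ g = z ∨ InA g := by
  obtain ⟨x, y, rfl⟩ := mem_L.mp hg
  have e : fa (x * x) = fb (y * y)⁻¹ := by
    rw [map_inv, ← mul_eq_one_iff_eq_inv, map_mul, map_mul]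
    calc fa x * fa x * (fb y * fb y) = fa x * (fa x * fb y) * fb y := by group
      _ = fa x * (fb y * fa x) * fb y := by rw [(fa_fb_commute x y).eq]
      _ = 1 := by rw [← h]; group
  rcases fa_central e with hx | hx
  · rw [hx, map_one, eq_comm, map_eq_one_iff _ fb_injective, inv_eq_one] at e
    rcases sl2_sq_eq_one h2 hx with rfl | rfl <;> rcases sl2_sq_eq_one h2 e with rfl | rfl
    · exact Or.inl (by simp)
    · exact Or.inr (Or.inl (by rw [map_one, one_mul, fb_neg_one]; rfl))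
    · exact Or.inr (Or.inl (by rw [map_one, mul_one]; rfl))
    · exact Or.inl (by rw [fb_neg_one, ← map_mul, neg_mul_neg, one_mul, map_one])
  · rw [hx, ← fb_neg_one] at e
    refine Or.inr (Or.inr ⟨x, y, hx, ?_, rfl⟩)
    rw [← inv_inv (y * y), ← fb_injective e]
    exact inv_eq_of_mul_eq_one_right (by simp)

theorem tor_sq_neg_one : tor (-1 : Fˣ) * tor (-1) = (1 : GG F) := by
  rw [← map_mul, neg_mul_neg, one_mul, map_one]

theorem exists_w : ∃ w : GG F, (w : GLT F) ∈ T.datum.monomialSubgroup F ∧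
    w * z * w⁻¹ = tor (-1) := by
  refine ⟨phi h7 SL2.wn * phi h6 SL2.wn, ?_, ?_⟩
  · rw [Subgroup.coe_mul, coe_phi_wn, coe_phi_wn]
    exact mul_mem (nU_mem_monomial h7) (nU_mem_monomial h6)
  · apply Subtype.ext
    rw [Subgroup.coe_mul, Subgroup.coe_mul, Subgroup.coe_inv, Subgroup.coe_mul, coe_phi_wn, coe_phi_wn,
      coe_z, coe_tor, mul_inv_eq_iff_eq_mul, mul_assoc]
    rw [show T.nU F 6 1 = T.nU F (T.simple 1) 1 from rfl,
      nU_simple_dU hV (show 1 < T.rank by decide), ← mul_assoc,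
      show T.nU F 7 1 = T.nU F (T.simple 0) 1 from rfl,
      nU_simple_dU hV (show 0 < T.rank by decide), mul_assoc]
    congr 1
    refine dU_congr fun s hs => neg_one_zpow_eq ?_
    revert s
    decide +kernel

theorem exists_h2 {i : Fˣ} (hi : i * i = -1) :
    ∃ w : GG F, w * z * w⁻¹ = fa (SL2.dh i) * fb (SL2.dh i) := by
  refine ⟨phi h6 SL2.wn, ?_⟩
  apply Subtype.ext
  rw [Subgroup.coe_mul, Subgroup.coe_mul, Subgroup.coe_inv, coe_phi_wn, coe_z, mul_inv_eq_iff_eq_mul,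
    Subgroup.coe_mul, fa, fb, coe_phi_dh, coe_phi_dh, dU_mul,
    show T.nU F 6 1 = T.nU F (T.simple 1) 1 from rfl, nU_simple_dU hV (show 1 < T.rank by decide)]
  congr 1
  refine dU_congr fun s hs => ?_
  simp only [Pi.mul_apply, hCh]
  have h : (T.pair 7 s + T.pair 11 s) % 2 = 0 ∧
      (T.pair 7 s + T.pair 11 s) / 2 % 2 = T.pair 7 (T.refl 1 s) % 2 := by
    revert s; decide +kernel
  obtain ⟨k, hk⟩ : ∃ k, T.pair 7 s + T.pair 11 s = 2 * k :=
    ⟨(T.pair 7 s + T.pair 11 s) / 2, by omega⟩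
  rw [← _root_.zpow_add, hk, zpow_mul, zpow_two, hi]
  exact neg_one_zpow_eq (by omega)

theorem inA_isConj [Fintype F] (h2 : (2 : F) ≠ 0) {g g' : GG F} (hg : InA g) (hg' : InA g') :
    IsConj g g' := by
  obtain ⟨x, y, hx, hy, rfl⟩ := hg
  obtain ⟨x', y', hx', hy', rfl⟩ := hg'
  obtain ⟨u, hu⟩ := CfsgLib.Classical.sl2_trace_zero_conj h2 hx hx'
  obtain ⟨v, hv⟩ := CfsgLib.Classical.sl2_trace_zero_conj h2 hy hy'
  refine isConj_iff.mpr ⟨fa u * fb v, ?_⟩
  show pr (u, v) * pr (x, y) * (pr (u, v))⁻¹ = pr (x', y')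
  rw [← map_inv, ← map_mul, ← map_mul]
  exact congrArg _ (Prod.ext hu hv)

theorem outer_isConj (h2 : (2 : F) ≠ 0) (hns : ∀ a : F, a * a ≠ -1) {g : GG F}
    (hg : g * tor (-1) ∈ L) (h : g * g = 1) : IsConj (tor (-1)) g := by
  obtain ⟨x, y, e⟩ := mem_L.mp hg
  obtain rfl : g = fa x * fb y * tor (-1) := by rw [← e, mul_assoc, tor_sq_neg_one, mul_one]
  set τ : GG F := tor (-1) with hτ
  have ti : τ⁻¹ = τ := inv_eq_of_mul_eq_one_right tor_sq_neg_one
  have ca : ∀ u, τ * fa u * τ = fa (dconj (-1) u) := fun u => by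
    conv_lhs => arg 2; rw [← ti]
    exact tor_fa _ u
  have cb : ∀ u, τ * fb u * τ = fb (dconj (-1) u) := fun u => by
    conv_lhs => arg 2; rw [← ti]
    rw [hτ, tor_fb, dconj_neg_one_inv]
  have e1 : fa (x * dconj (-1) x) * fb (y * dconj (-1) y) = 1 := by
    rw [map_mul, map_mul, ← ca, ← cb, ← h]
    calc fa x * (τ * fa x * τ) * (fb y * (τ * fb y * τ))
        = fa x * ((τ * fa x * τ) * fb y) * (τ * fb y * τ) := by group
      _ = fa x * (fb y * (τ * fa x * τ)) * (τ * fb y * τ) := by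
          rw [ca, (fa_fb_commute (dconj (-1) x) y).eq]
      _ = fa x * fb y * τ * fa x * (τ * τ) * fb y * τ := by group
      _ = _ := by rw [hτ, tor_sq_neg_one]; group
  rw [mul_eq_one_iff_eq_inv, ← map_inv] at e1
  obtain ⟨hx1, u, hu⟩ := twisted_sqrt h2 hns (fa_central e1)
  have hy1 : y * dconj (-1) y = 1 := by
    rw [hx1, map_one, eq_comm, map_eq_one_iff _ fb_injective, inv_eq_one] at e1
    exact e1
  obtain ⟨-, v, hv⟩ := twisted_sqrt h2 hns (Or.inl hy1)
  refine isConj_iff.mpr ⟨fa u * fb v, ?_⟩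
  rw [hu, hv, map_mul, map_mul, ← ca, ← cb, map_inv, map_inv]
  have := (fa_fb_commute u v).eq
  calc fa u * fb v * τ * (fa u * fb v)⁻¹
      = fa u * fb v * τ * (fa u)⁻¹ * (fb v)⁻¹ := by rw [this]; group
    _ = fa u * (fb v * (τ * (fa u)⁻¹ * τ)) * (τ⁻¹ * (fb v)⁻¹) := by group
    _ = fa u * ((τ * (fa u)⁻¹ * τ) * fb v) * (τ⁻¹ * (fb v)⁻¹) := by
        rw [← map_inv, ca, (fa_fb_commute (dconj (-1) u⁻¹) v).eq]
    _ = fa u * (τ * (fa u)⁻¹ * τ) * (fb v * (τ * (fb v)⁻¹ * τ)) * τ := by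
        rw [ti]
        simp only [mul_assoc, hτ, tor_sq_neg_one, mul_one]

theorem diag_form {g : GG F} (hg : (g : GLT F) ∈ T.datum.diagonalSubgroup F) :
    ∃ a t, g = fa (SL2.dh a) * tor t := by
  obtain ⟨f, hf⟩ := (mem_diag_iff hV).mp hg
  refine ⟨f ⟨0, rank_zero⟩, f ⟨1, rank_one⟩, Subtype.ext ?_⟩
  rw [hf, Subgroup.coe_mul, fa, coe_phi_dh, coe_tor, dU_mul]
  refine dU_congr fun s _ => ?_
  rw [prod_rank]
  simp only [Pi.mul_apply, hCh]
  rw [← pair_simple hV (i := 0) (by decide) s, ← pair_simple hV (i := 1) (by decide) s]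
  rfl

section Fin

variable [Fintype F]

theorem nonsquare_neg_one (h2 : (2 : F) ≠ 0) (hq : Fintype.card F % 4 = 3) (a : F) : a * a ≠ -1 :=
  fun h => FiniteField.isSquare_neg_one_iff.mp ⟨a, h.symm⟩ hq

theorem tor_neg_one_notMem (h2 : (2 : F) ≠ 0) (hq : Fintype.card F % 4 = 3) :
    tor (-1 : Fˣ) ∉ (L : Subgroup (GG F)) := by
  rw [tor_mem_L]
  rintro ⟨r, hr⟩
  exact nonsquare_neg_one h2 hq r (by simpa using (congrArg Units.val hr).symm)

theorem outer_mul (h2 : (2 : F) ≠ 0) {g : GG F} (hgK : g ∈ K) (hgL : g ∉ L) {t0 : Fˣ}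
    (ht0 : ¬ IsSquare t0) : g * tor t0 ∈ L := by
  obtain ⟨x, y, t, rfl⟩ := mem_K.mp hgK
  have hl : fa x * fb y ∈ (L : Subgroup (GG F)) := mem_L.mpr ⟨x, y, rfl⟩
  rw [Subgroup.mul_mem_cancel_left _ hl, tor_mem_L] at hgL
  rw [mul_assoc (fa x * fb y), ← map_mul, Subgroup.mul_mem_cancel_left _ hl, tor_mem_L,
    isSquare_mul_iff h2 ht0]
  exact hgL

theorem outer3 (h2 : (2 : F) ≠ 0) (hq : Fintype.card F % 4 = 3) {g : GG F} (hgK : g ∈ K)
    (hgL : g ∉ L) (h : g * g = 1) : IsConj z g := by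
  obtain ⟨w, -, hw⟩ := exists_w (F := F)
  refine (isConj_iff.mpr ⟨w, hw⟩).trans (outer_isConj h2 (nonsquare_neg_one h2 hq)
    (outer_mul h2 hgK hgL fun hs => ?_) h)
  exact tor_neg_one_notMem h2 hq (tor_mem_L.mpr hs)

theorem inA3 (h2 : (2 : F) ≠ 0) (hq : Fintype.card F % 4 = 3) {g : GG F} (hg : InA g) :
    IsConj z g := by
  obtain ⟨w, hwN, hw⟩ := exists_w (F := F)
  have hns := nonsquare_neg_one h2 hq
  have hwn : (SL2.wn : SL(2, F)) * SL2.wn = -1 := by
    apply Subtype.ext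
    rw [Matrix.SpecialLinearGroup.coe_neg, Matrix.SpecialLinearGroup.coe_one]
    show !![(0 : F), 1; -1, 0] * !![0, 1; -1, 0] = _
    ext i j; fin_cases i <;> fin_cases j <;> simp [Matrix.mul_apply]
  set n0 : GG F := fa SL2.wn * fb SL2.wn with hn0
  have hA0 : InA n0 := ⟨_, _, hwn, hwn, rfl⟩
  have hz0 : n0 * z = fa SL2.wn * fb (-SL2.wn) := by
    rw [hn0, z, ← fb_neg_one, mul_assoc, ← map_mul, mul_neg, mul_one]
  have hA1 : InA (n0 * z) := ⟨_, _, hwn, by rw [neg_mul_neg]; exact hwn, hz0⟩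
  have hσ : dconj (-1) (SL2.wn : SL(2, F)) = -1 * SL2.wn := by
    apply Subtype.ext
    rw [dconj_val, neg_mul, one_mul, Matrix.SpecialLinearGroup.coe_neg]
    ext i j; fin_cases i <;> fin_cases j <;> simp [SL2.wn, inv_neg]
  have hc : tor (-1) * n0 * (tor (-1))⁻¹ = n0 := by
    have : tor (-1 : Fˣ) * n0 * (tor (-1))⁻¹ = fa (dconj (-1) SL2.wn) * fb (dconj (-1) SL2.wn) := by
      conv_rhs => arg 2; rw [← dconj_neg_one_inv]
      rw [hn0, ← tor_fa, ← tor_fb]; group
    rw [this, hσ, map_mul, map_mul, fb_neg_one, hn0]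
    calc fa (-1) * fa SL2.wn * (fa (-1) * fb SL2.wn)
        = fa (-1) * (fa SL2.wn * fa (-1)) * fb SL2.wn := by group
      _ = (fa (-1) * fa (-1)) * fa SL2.wn * fb SL2.wn := by
          rw [← (Commute.map (Commute.neg_one_left (SL2.wn : SL(2, F))) fa).eq]; group
      _ = _ := by rw [← map_mul, neg_mul_neg, one_mul, map_one, one_mul]
  have hcent : ∀ e : GG F, Commute (tor (-1)) e → w⁻¹ * e * w ∈ (K : Subgroup (GG F)) := by
    intro e he
    rw [← centralizer_z h2, Subgroup.mem_centralizer_singleton_iff]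
    rw [← hw] at he
    calc w⁻¹ * e * w * z = w⁻¹ * (e * (w * z * w⁻¹)) * w := by group
      _ = w⁻¹ * (w * z * w⁻¹ * e) * w := by rw [he.eq]
      _ = z * (w⁻¹ * e * w) := by group
  have hc0 : Commute (tor (-1)) n0 := mul_inv_eq_iff_eq_mul.mp hc
  have hK0 := hcent n0 hc0
  have hK1 := hcent (n0 * z) (hc0.mul_right (z_tor _).symm)
  set z' : GG F := w⁻¹ * z * w with hz'
  have hzz : z * z = (1 : GG F) := by rw [z, ← map_mul, neg_mul_neg, one_mul, map_one]
  have hz1 : (z : GG F) ≠ 1 := by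
    intro h
    rw [z, map_eq_one_iff _ fa_injective] at h
    have := congrArg (fun g : SL(2, F) => g.1 0 0) h
    simp at this
    exact h2 (by linear_combination -this)
  have hz'L : z' ∉ (L : Subgroup (GG F)) := by
    intro hzL
    rcases L_involution h2 hzL (by rw [hz']; calc _ = w⁻¹ * (z * z) * w := by group
                                           _ = 1 := by rw [hzz]; group) with e | e | ⟨x, y, hx, -, e⟩
    · apply hz1
      calc z = w * z' * w⁻¹ := by rw [hz']; group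
        _ = 1 := by rw [e]; group
    · apply tor_neg_one_notMem h2 hq
      have : w * z * w⁻¹ = z := by
        conv_lhs => rw [← e, hz']
        group
      rw [← hw, this]
      exact mem_L.mpr ⟨-1, 1, by rw [map_one, mul_one]; rfl⟩
    · have hd : (z' : GLT F) ∈ T.datum.diagonalSubgroup F := by
        have hzd : ((z : GG F) : GLT F) ∈ T.datum.diagonalSubgroup F := by
          rw [coe_z]; exact dU_hCh_mem_diag h7 _
        have := conj_diag hV (inv_mem hwN) hzd
        rw [inv_inv] at this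
        exact this
      obtain ⟨a, t, ht⟩ := diag_form hd
      have hsq : IsSquare t := by
        rw [← tor_mem_L]
        rw [ht, Subgroup.mul_mem_cancel_left _ (mem_L.mpr ⟨SL2.dh a, 1, by rw [map_one, mul_one]⟩)]
          at hzL
        exact hzL
      obtain ⟨r, rfl⟩ := hsq
      rw [← pow_two, tor_sq, ← mul_assoc, ← map_mul, ← dh_mul] at ht
      have e2 : fa ((SL2.dh (a * r⁻¹))⁻¹ * x) = fb (SL2.dh r * y⁻¹) := by
        rw [map_mul, map_mul, map_inv, map_inv, inv_mul_eq_iff_eq_mul, ← mul_assoc, ← ht, e]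
        group
      rcases fa_central e2 with e3 | e3
      · rw [inv_mul_eq_one] at e3
        rw [← e3] at hx
        exact hns _ (dh_sq_neg_one hx)
      · rw [inv_mul_eq_iff_eq_mul, mul_neg, mul_one] at e3
        rw [e3, neg_mul_neg] at hx
        exact hns _ (dh_sq_neg_one hx)
  have hinv : ∀ e : GG F, InA e → e * e = 1 := by
    rintro e ⟨x, y, hx, hy, rfl⟩
    calc fa x * fb y * (fa x * fb y) = fa x * (fb y * fa x) * fb y := by group
      _ = fa x * (fa x * fb y) * fb y := by rw [(fa_fb_commute x y).eq]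
      _ = fa (x * x) * fb (y * y) := by rw [map_mul, map_mul]; group
      _ = 1 := by rw [hx, hy, fb_neg_one, ← map_mul, neg_mul_neg, one_mul, map_one]
  have main : ∀ e : GG F, InA e → w⁻¹ * e * w ∈ (K : Subgroup (GG F)) → w⁻¹ * e * w ∉ (L : Subgroup (GG F)) →
      IsConj z g := by
    intro e he hK hL
    have h1 : IsConj z (w⁻¹ * e * w) := outer3 h2 hq hK hL (by
      calc _ = w⁻¹ * (e * e) * w := by group
        _ = 1 := by rw [hinv e he]; group)
    exact (h1.trans (isConj_iff.mpr ⟨w, by group⟩)).trans (inA_isConj h2 he hg)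
  by_cases hL0 : w⁻¹ * n0 * w ∈ (L : Subgroup (GG F))
  · refine main _ hA1 hK1 fun hL1 => hz'L ?_
    have := mul_mem (inv_mem hL0) hL1
    rwa [show (w⁻¹ * n0 * w)⁻¹ * (w⁻¹ * (n0 * z) * w) = z' by rw [hz']; group] at this
  · exact main _ hA0 hK0 hL0

theorem inA1 (h2 : (2 : F) ≠ 0) (hq : Fintype.card F % 4 ≠ 3) {g : GG F} (hg : InA g) :
    IsConj z g := by
  obtain ⟨i, hi⟩ := FiniteField.isSquare_neg_one_iff.mpr hq
  have hi0 : i ≠ 0 := fun h => by simp [h] at hi
  have hiu : (Units.mk0 i hi0 : Fˣ) * Units.mk0 i hi0 = -1 := Units.ext (by simpa using hi.symm)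
  obtain ⟨w, hw⟩ := exists_h2 hiu
  refine (isConj_iff.mpr ⟨w, hw⟩).trans (inA_isConj h2 ⟨_, _, ?_, ?_, rfl⟩ hg) <;>
    rw [← dh_mul, hiu, dh_neg_one]

theorem inA_z (h2 : (2 : F) ≠ 0) {g : GG F} (hg : InA g) : IsConj z g := by
  by_cases hq : Fintype.card F % 4 = 3
  · exact inA3 h2 hq hg
  · exact inA1 h2 hq hg

theorem L_isConj (h2 : (2 : F) ≠ 0) {g : GG F} (hg : g ∈ L) (h : g * g = 1) (hne : g ≠ 1) :
    IsConj z g := by
  rcases L_involution h2 hg h with e | e | e
  · exact absurd e hne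
  · rw [e]
  · exact inA_z h2 e

theorem card_GG : Nat.card (GG F) =
    Fintype.card F ^ 6 * (Fintype.card F ^ 2 - 1) * (Fintype.card F ^ 6 - 1) := by
  have h := Cfsg.Agent.S1059.result (F := F) rfl
  rw [← CfsgLib.Chevalley.Data.G2.datum_eq] at h
  exact h

theorem exists_conj_K (hF : Odd (Fintype.card F)) :
    ∀ g : GG F, g * g = 1 → ∃ S : Sylow 2 (GG F), (S : Subgroup (GG F)) ≤ K ∧
      ∃ c : GG F, c * g * c⁻¹ ∈ (S : Subgroup (GG F)) := by
  classical
  intro g hg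
  have : Fact (Nat.Prime 2) := ⟨Nat.prime_two⟩
  have h2 := odd_char hF
  obtain ⟨P⟩ : Nonempty (Sylow 2 (K : Subgroup (GG F))) := inferInstance
  set q := Fintype.card F with hqd
  have hGK : Nat.card (GG F) = Nat.card (K : Subgroup (GG F)) * (q ^ 4 * (q ^ 4 + q ^ 2 + 1)) := by
    rw [card_GG, card_K h2, ← hqd]
    have h1 : 1 ≤ q ^ 2 := Nat.one_le_pow _ _ Fintype.card_pos
    have h6' : 1 ≤ q ^ 6 := Nat.one_le_pow _ _ Fintype.card_pos
    zify [h1, h6']
    ring
  have hm : ¬ 2 ∣ q ^ 4 * (q ^ 4 + q ^ 2 + 1) := by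
    have h4 : Odd (q ^ 4) := hF.pow
    have h2' : Even (q ^ 4 + q ^ 2) := h4.add_odd hF.pow
    rw [← even_iff_two_dvd, Nat.not_even_iff_odd]
    exact h4.mul h2'.add_one
  have hcard : Nat.card ((P : Subgroup (K : Subgroup (GG F))).map (K : Subgroup (GG F)).subtype) =
      2 ^ (Nat.card (GG F)).factorization 2 := by
    rw [Nat.card_congr (Subgroup.equivMapOfInjective _ _ (Subgroup.subtype_injective _)).symm.toEquiv,
      P.card_eq_multiplicity, hGK, Nat.factorization_mul Nat.card_pos.ne' (fun h => hm (by rw [h]; simp)),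
      Finsupp.add_apply, Nat.factorization_eq_zero_of_not_dvd hm, add_zero]
  let S : Sylow 2 (GG F) := Sylow.ofCard _ hcard
  refine ⟨S, ?_, ?_⟩
  · rintro _ ⟨k, -, rfl⟩
    exact k.2
  · have hp : IsPGroup 2 (Subgroup.zpowers g) := by
      refine IsPGroup.iff_card.mpr ?_
      rw [Nat.card_zpowers]
      have : orderOf g ∣ 2 ^ 1 := orderOf_dvd_of_pow_eq_one (by rw [pow_one, pow_two, hg])
      obtain ⟨k, -, hk⟩ := (Nat.dvd_prime_pow Nat.prime_two).mp this
      exact ⟨k, hk⟩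
    obtain ⟨Q, hQ⟩ := hp.exists_le_sylow
    obtain ⟨c, rfl⟩ := MulAction.exists_smul_eq (GG F) S Q
    have := hQ (Subgroup.mem_zpowers g)
    rw [Sylow.coe_subgroup_smul, Subgroup.mem_pointwise_smul_iff_inv_smul_mem] at this
    refine ⟨c⁻¹, ?_⟩
    simpa [MulAut.conj_apply] using this

theorem isConj_z (hF : Odd (Fintype.card F)) {g : GG F} (hg : g * g = 1) (hne : g ≠ 1) :
    IsConj z g := by
  classical
  have h2 := odd_char hF
  obtain ⟨S, hSK, c, hc⟩ := exists_conj_K hF g hg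
  suffices h : IsConj z (c * g * c⁻¹) from h.trans (isConj_iff.mpr ⟨c⁻¹, by group⟩)
  set k := c * g * c⁻¹ with hk
  have hkk : k * k = 1 := by
    rw [hk]; calc _ = c * (g * g) * c⁻¹ := by group
      _ = 1 := by rw [hg]; group
  have hk1 : k ≠ 1 := fun h => hne (by
    calc g = c⁻¹ * k * c := by rw [hk]; group
      _ = 1 := by rw [h]; group)
  by_cases hkL : k ∈ (L : Subgroup (GG F))
  · exact L_isConj h2 hkL hkk hk1
  by_cases hq : Fintype.card F % 4 = 3
  · exact outer3 h2 hq (hSK hc) hkL hkk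
  have hQi : ((L : Subgroup (GG F)) ⊓ S).relIndex (S : Subgroup (GG F)) = 2 := by
    rw [Subgroup.inf_relIndex_right]
    have h1 : (L : Subgroup (GG F)).relIndex (S : Subgroup (GG F)) ≠ 1 := fun h =>
      hkL (Subgroup.relIndex_eq_one.mp h hc)
    have h3 : (L : Subgroup (GG F)).relIndex (S : Subgroup (GG F)) ≤ 2 := by
      refine (Subgroup.relIndex_le_of_le_right hSK ?_).trans_eq (relIndex_L_K h2)
      rw [relIndex_L_K h2]; decide
    have h0 : (L : Subgroup (GG F)).relIndex (S : Subgroup (GG F)) ≠ 0 := Subgroup.index_ne_zero_of_finite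
    omega
  rcases CfsgLib.Fusion.ThompsonTransfer.thompson_transfer S _ inf_le_right hQi k
    (by rw [pow_two]; exact hkk) hc (fun h => hkL h.1) with ⟨M, hMn, hMi, -⟩ | ⟨d, hd⟩
  · exfalso
    have hex : ∃ a : F, a ≠ 0 ∧ a ≠ 1 :=
      ⟨-1, neg_ne_zero.mpr one_ne_zero, fun h => h2 (by linear_combination -h)⟩
    have hs := (Cfsg.Agent.S1055.result (F := F) hex)
    rw [← CfsgLib.Chevalley.Data.G2.datum_eq] at hs
    haveI := hs.1
    rcases hMn.eq_bot_or_eq_top with rfl | rfl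
    · rw [Subgroup.index_bot] at hMi
      exact hs.2 (by
        haveI := isCyclic_of_prime_card (p := 2) hMi
        exact IsCyclic.isMulCommutative)
    · rw [Subgroup.index_top] at hMi; omega
  · refine (L_isConj h2 hd.1 ?_ ?_).trans (isConj_iff.mpr ⟨d⁻¹, by group⟩)
    · calc d * k * d⁻¹ * (d * k * d⁻¹) = d * (k * k) * d⁻¹ := by group
        _ = 1 := by rw [hkk]; group
    · intro h
      apply hk1
      calc k = d⁻¹ * (d * k * d⁻¹) * d := by group
        _ = 1 := by rw [h]; group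

end Fin

end CfsgLib.Chevalley.G2Inv
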