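import Cfsg.Agent.Lib.Chevalley.G2SylowShape

/-!
A Sylow 2-subgroup of `G₂(F)`, `F` of odd order, has the expected shape.
-/

set_option autoImplicit false

namespace CfsgLib.Chevalley.G2Inv

open CfsgLib.Fusion.G2Type Polynomial
open scoped MatrixGroups

variable {F : Type*} [Field F]

theorem coe_dh (c : Fˣ) : (SL2.dh c).1 = !![(c : F), 0; 0, (c : F)⁻¹] := rfl

theorem wn_sq : (SL2.wn : SL(2, F)) * SL2.wn = -1 := by
  apply Subtype.ext
  rw [Matrix.SpecialLinearGroup.coe_neg, Matrix.SpecialLinearGroup.coe_one]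
  show !![(0 : F), 1; -1, 0] * !![0, 1; -1, 0] = _
  ext i j; fin_cases i <;> fin_cases j <;> simp [Matrix.mul_apply]

theorem dconj_dh (t c : Fˣ) : dconj t (SL2.dh c) = SL2.dh c := by
  apply Subtype.ext
  rw [dconj_val, coe_dh]
  ext i j; fin_cases i <;> fin_cases j <;> simp

theorem dconj_wn (t : Fˣ) : dconj t (SL2.wn : SL(2, F)) = SL2.dh t⁻¹ * SL2.wn := by
  apply Subtype.ext
  rw [Matrix.SpecialLinearGroup.coe_mul, dconj_val, coe_dh]
  show _ = _ * !![(0 : F), 1; -1, 0]
  ext i j; fin_cases i <;> fin_cases j <;> simp [SL2.wn, Matrix.mul_apply]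

/-- The data when a root of unity of order `2 ^ k` is in the field. -/
theorem data_split (h2 : (2 : F) ≠ 0) {k : ℕ} (hk : 2 ≤ k) (ζ : Fˣ) (hζ : ζ ^ 2 ^ (k - 1) = -1) :
    Nonempty (SylowData F k) := by
  have hpow : ∀ (c : Fˣ) (n : ℕ), SL2.dh c ^ n = SL2.dh (c ^ n) := fun c n =>
    (map_pow dhHom c n).symm
  have hinv : ∀ c : Fˣ, (SL2.dh c)⁻¹ = SL2.dh c⁻¹ := fun c => (map_inv dhHom c).symm
  have hA : SL2.dh ζ ^ 2 ^ (k - 1) = (-1 : SL(2, F)) := by rw [hpow, hζ, dh_neg_one]
  refine ⟨{ two_le := hk, h2 := h2, a := SL2.dh ζ, a' := SL2.dh ζ, bb := SL2.wn, bb' := SL2.wn,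
            ε := 1, ha := hA, ha' := hA, hbb := wn_sq, hbb' := wn_sq, hε := Or.inl rfl,
            d := tor ζ, hzd := z_tor ζ, hda := ?_, hd2 := ?_, hW := ?_, hW' := ?_ }⟩
  · refine mul_inv_eq_iff_eq_mul.mp ?_
    rw [tor_fa, dconj_dh]
  · rw [← map_mul, ← pow_two, tor_sq, hinv]
  · have h := tor_fa ζ⁻¹ (SL2.wn : SL(2, F))
    rw [dconj_wn, inv_inv, map_mul fa, map_inv, inv_inv] at h
    rw [one_mul, mul_inv_eq_iff_eq_mul, mul_assoc, ← h]
    group
  · have h := tor_fb ζ⁻¹ (SL2.wn : SL(2, F))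
    rw [inv_inv, dconj_wn, map_mul fb, map_inv, inv_inv] at h
    rw [one_mul, hinv, mul_inv_eq_iff_eq_mul, mul_assoc, ← h]
    group

/-- The data from `β` of square `-1` whose twisted square has order `2 ^ k`. -/
theorem data_nonsplit (h2 : (2 : F) ≠ 0) {k : ℕ} (hk : 2 ≤ k) (β : SL(2, F)) (hβ : β * β = -1)
    (hb : (dconj (-1) β * β) ^ 2 ^ (k - 1) = -1) : Nonempty (SylowData F k) := by
  set β' := dconj (-1) β with hβ'
  have hc' : ∀ g : SL(2, F), dconj (-1) (dconj (-1) g) = g := fun g => by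
    apply Subtype.ext
    rw [dconj_val, dconj_val]
    ext i j; fin_cases i <;> fin_cases j <;> simp [inv_neg]
  have hneg : dconj (-1 : Fˣ) (-1 : SL(2, F)) = -1 := by rw [← dh_neg_one, dconj_dh]
  have hβ'2 : β' * β' = -1 := by rw [hβ', ← map_mul, hβ, hneg]
  have hca : ∀ g, tor (-1 : Fˣ) * fa g * (tor (-1))⁻¹ = (fa (dconj (-1) g) : GG F) := tor_fa _
  have hcb : ∀ g, tor (-1 : Fˣ) * fb g * (tor (-1))⁻¹ = (fb (dconj (-1) g) : GG F) := fun g => by
    rw [tor_fb, dconj_neg_one_inv]
  have ti : (tor (-1 : Fˣ) : GG F)⁻¹ = tor (-1) := inv_eq_of_mul_eq_one_right tor_sq_neg_one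
  have hla : ∀ g, fa g * tor (-1 : Fˣ) = tor (-1) * (fa (dconj (-1) g) : GG F) := fun g => by
    rw [← hca g, ti, ← mul_assoc, ← mul_assoc, tor_sq_neg_one, one_mul]
  have hlb : ∀ g, fb g * tor (-1 : Fˣ) = tor (-1) * (fb (dconj (-1) g) : GG F) := fun g => by
    rw [← hcb g, ti, ← mul_assoc, ← mul_assoc, tor_sq_neg_one, one_mul]
  have key : β * (-1 * (β' * β)⁻¹) = β' := by
    rw [(Commute.neg_one_left (β' * β)⁻¹).eq, mul_inv_rev, ← mul_assoc, ← mul_assoc,
      mul_inv_cancel, one_mul]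
    have : β'⁻¹ = -1 * β' := by
      apply inv_eq_of_mul_eq_one_right
      rw [← mul_assoc, ← (Commute.neg_one_left β').eq, mul_assoc, hβ'2, neg_mul_neg, one_mul]
    rw [this, (Commute.neg_one_left β').eq, mul_assoc, neg_mul_neg, one_mul, mul_one]
  refine ⟨{ two_le := hk, h2 := h2, a := (β' * β)⁻¹, a' := β' * β, bb := β, bb' := β, ε := -1,
            ha := ?_, ha' := hb, hbb := hβ, hbb' := hβ, hε := Or.inr rfl,
            d := tor (-1) * (fa β * fb β), hzd := (z_tor _).mul_right ((z_fa β).mul_right (z_fb β)),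
            hda := ?_, hd2 := ?_, hW := ?_, hW' := ?_ }⟩
  · rw [inv_pow, hb]
    exact inv_eq_of_mul_eq_one_right (by simp)
  · rw [map_inv]
    refine Commute.inv_right ?_
    show _ * _ = _ * _
    rw [← mul_assoc (fa (β' * β)), hla, map_mul (dconj (-1)), hβ', hc', ← hβ']
    simp only [mul_assoc]
    congr 1
    rw [← mul_assoc (fa (β * β')), ← map_mul, ← (fa_fb_commute (β' * β) β).eq,
      ← mul_assoc, ← map_mul, mul_assoc β β' β]
  · rw [inv_inv, show tor (-1 : Fˣ) * (fa β * fb β) * (tor (-1) * (fa β * fb β)) =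
      tor (-1) * fa β * (fb β * tor (-1)) * (fa β * fb β) by group, hlb,
      show tor (-1 : Fˣ) * fa β * (tor (-1) * fb (dconj (-1) β)) * (fa β * fb β) =
      tor (-1) * (fa β * tor (-1)) * fb (dconj (-1) β) * (fa β * fb β) by group, hla, ← mul_assoc,
      ← mul_assoc, tor_sq_neg_one, one_mul, ← hβ', map_mul, map_mul]
    calc fa β' * fb β' * fa β * fb β = fa β' * (fb β' * fa β) * fb β := by group
      _ = fa β' * (fa β * fb β') * fb β := by rw [(fa_fb_commute β β').eq]
      _ = fa β' * fa β * (fb β' * fb β) := by group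
  · rw [mul_inv_eq_iff_eq_mul, ← mul_assoc (fa β), hla, ← hβ']
    simp only [mul_assoc]
    congr 1
    have e : fa (-1 * (β' * β)⁻¹) * fa β = (fa (-1 * (β' * β)⁻¹ * β) : GG F) := (map_mul _ _ _).symm
    calc fa β' * (fa β * fb β) = fa (β' * β) * fb β := by rw [map_mul, mul_assoc]
      _ = fa β * (fa (-1 * (β' * β)⁻¹ * β) * fb β) := by
        rw [← mul_assoc, ← map_mul, ← mul_assoc β, key]
      _ = fa β * (fb β * fa (-1 * (β' * β)⁻¹ * β)) := by rw [(fa_fb_commute _ β).eq]
      _ = _ := by rw [e]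
  · rw [mul_inv_eq_iff_eq_mul, ← mul_assoc (fb β), hlb, ← hβ']
    simp only [mul_assoc]
    congr 1
    have e : fb (-1 * (β' * β)⁻¹) * fb β = (fb (-1 * (β' * β)⁻¹ * β) : GG F) := (map_mul _ _ _).symm
    calc fb β' * (fa β * fb β) = fa β * (fb β' * fb β) := by
          rw [← mul_assoc, ← (fa_fb_commute β β').eq, mul_assoc]
      _ = fa β * fb (β' * β) := by rw [map_mul]
      _ = fa β * (fb β * fb (-1 * (β' * β)⁻¹ * β)) := by rw [← map_mul, ← mul_assoc β, key]
      _ = _ := by rw [e]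

theorem two_pow_dvd_of_factorization {n k : ℕ} (hn : n ≠ 0) (h : n.factorization 2 = k) : 2 ^ k ∣ n := by
  rw [← h]; exact Nat.ordProj_dvd n 2

theorem exists_unit_order [Fintype F] {n : ℕ} (h : n ∣ Fintype.card F - 1) :
    ∃ ζ : Fˣ, orderOf ζ = n := by
  classical
  obtain ⟨g, hg⟩ := IsCyclic.exists_generator (α := Fˣ)
  have hg' : orderOf g = Fintype.card F - 1 := by
    rw [orderOf_eq_card_of_forall_mem_zpowers hg, Nat.card_eq_fintype_card, Fintype.card_units]
  obtain ⟨c, hc⟩ := h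
  have hpos : 0 < Fintype.card F - 1 := by have := Fintype.one_lt_card (α := F); omega
  refine ⟨g ^ c, ?_⟩
  have hn : 0 < n := Nat.pos_of_ne_zero fun h0 => by rw [h0, zero_mul] at hc; omega
  have hcp : 0 < c := Nat.pos_of_ne_zero fun h0 => by rw [h0, mul_zero] at hc; omega
  rw [orderOf_pow' _ hcp.ne', hg', hc, Nat.gcd_eq_right (Dvd.intro_left _ rfl),
    Nat.mul_div_cancel _ hcp]

theorem half_eq_neg_one {K : Type*} [Field K] {w : Kˣ} {k : ℕ} (hk : 1 ≤ k)
    (hw : orderOf w = 2 ^ k) : w ^ 2 ^ (k - 1) = -1 := by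
  have h1 : w ^ 2 ^ (k - 1) * w ^ 2 ^ (k - 1) = 1 := by
    rw [← pow_add, ← two_mul, ← pow_succ', Nat.sub_add_cancel hk, ← hw, pow_orderOf_eq_one]
  have h2 : w ^ 2 ^ (k - 1) ≠ 1 := fun h => by
    have h3 := Nat.le_of_dvd (by positivity) (orderOf_dvd_of_pow_eq_one h)
    rw [hw] at h3
    have h4 : 2 ^ (k - 1) < 2 ^ k := Nat.pow_lt_pow_right (by norm_num) (by omega)
    omega
  apply Units.ext
  rcases mul_self_eq_one_iff.mp (show ((w ^ 2 ^ (k - 1) : Kˣ) : K) * ((w ^ 2 ^ (k - 1) : Kˣ) : K) = 1 by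
    rw [← Units.val_mul, h1, Units.val_one]) with h | h
  · exact absurd (Units.ext (by rw [h, Units.val_one])) h2
  · rw [h, Units.val_neg, Units.val_one]

/-- The element `u + v i` of the quadratic extension gives `β`. -/
theorem exists_beta [Fintype F] (hq : Fintype.card F % 4 = 3) {k : ℕ}
    (hk : (Fintype.card F + 1).factorization 2 = k) :
    ∃ β : SL(2, F), β * β = -1 ∧ (dconj (-1) β * β) ^ 2 ^ (k - 1) = -1 := by
  classical
  set q := Fintype.card F with hqd
  have hodd : Odd q := Nat.odd_iff.mpr (by omega)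
  have h2 := odd_char hodd
  have hns : ∀ a : F, a * a ≠ -1 := nonsquare_neg_one h2 hq
  let f : F[X] := X ^ 2 + C 1
  have hmon : f.Monic := monic_X_pow_add_C 1 two_ne_zero
  have hdeg : f.natDegree = 2 := natDegree_X_pow_add_C
  have hirr : Irreducible f := by
    refine Polynomial.irreducible_of_degree_le_three_of_not_isRoot
      (by rw [hdeg]; exact Finset.mem_Icc.mpr ⟨by norm_num, by norm_num⟩) fun x hx => hns x ?_
    simp [f, IsRoot] at hx
    linear_combination hx
  haveI : Fact (Irreducible f) := ⟨hirr⟩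
  set i : AdjoinRoot f := AdjoinRoot.root f with hi
  have hii : i * i = -1 := by
    have h := AdjoinRoot.eval₂_root f
    simp [f] at h
    rw [← hi] at h
    linear_combination h
  let E : F × F → AdjoinRoot f := fun p => AdjoinRoot.of f p.1 + AdjoinRoot.of f p.2 * i
  have hEs : Function.Surjective E := by
    intro x
    induction x using AdjoinRoot.induction_on with
    | ih p =>
      induction p using Polynomial.induction_on' with
      | add p r hp hr =>
        obtain ⟨⟨a, b⟩, hab⟩ := hp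
        obtain ⟨⟨c, d⟩, hcd⟩ := hr
        refine ⟨(a + c, b + d), ?_⟩
        rw [map_add, ← hab, ← hcd]
        simp only [E, map_add]
        ring
      | monomial n a =>
        induction n generalizing a with
        | zero => exact ⟨(a, 0), by simp [E, AdjoinRoot.mk_C]⟩
        | succ n ih =>
          obtain ⟨⟨c, d⟩, hcd⟩ := ih a
          refine ⟨(-d, c), ?_⟩
          rw [← monomial_mul_X, map_mul, ← hcd, AdjoinRoot.mk_X, ← hi]
          simp only [E, map_neg]
          linear_combination -(AdjoinRoot.of f d) * hii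
  have hofi : Function.Injective (AdjoinRoot.of f) := (AdjoinRoot.of f).injective
  have hEi : Function.Injective E := by
    rintro ⟨a, b⟩ ⟨c, d⟩ h
    simp only [E] at h
    have h' : AdjoinRoot.of f (a - c) = AdjoinRoot.of f (d - b) * i := by
      rw [map_sub, map_sub]; linear_combination h
    by_cases hbd : d = b
    · subst hbd
      rw [sub_self, map_zero, zero_mul, map_eq_zero_iff _ hofi, sub_eq_zero] at h'
      exact Prod.ext h' rfl
    · exfalso
      refine hns ((a - c) / (d - b)) (hofi ?_)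
      have hne : AdjoinRoot.of f (d - b) ≠ 0 := by
        rw [Ne, map_eq_zero_iff _ hofi]; exact sub_ne_zero.mpr hbd
      rw [map_mul, map_div₀, h', map_neg, map_one, mul_div_cancel_left₀ _ hne, hii]
  haveI : Finite (AdjoinRoot f) := Finite.of_surjective E hEs
  letI : Fintype (AdjoinRoot f) := Fintype.ofFinite _
  have hcard : Fintype.card (AdjoinRoot f) = q * q := by
    rw [← Fintype.card_of_bijective ⟨hEi, hEs⟩, Fintype.card_prod]
  have hfac : q * q - 1 = (q + 1) * (q - 1) := by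
    rw [← Nat.sq_sub_sq, pow_two, one_pow]
  have hdiv : 2 ^ (k + 1) ∣ Fintype.card (AdjoinRoot f) - 1 := by
    rw [hcard, hfac, pow_succ]
    exact Nat.mul_dvd_mul (two_pow_dvd_of_factorization (by omega) hk) (by omega)
  obtain ⟨w, hw⟩ := exists_unit_order hdiv
  have hw1 : w ^ 2 ^ k = -1 := half_eq_neg_one (by omega) hw
  have hwnorm : w ^ (q + 1) = -1 := by
    obtain ⟨m, hm⟩ := two_pow_dvd_of_factorization (n := q + 1) (by omega) hk
    have hmodd : Odd m := by
      rw [← Nat.not_even_iff_odd, even_iff_two_dvd]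
      intro h
      have h1 : 2 ^ (k + 1) ∣ q + 1 := by rw [hm, pow_succ]; exact Nat.mul_dvd_mul_left _ h
      have h3 := (Nat.prime_two.pow_dvd_iff_le_factorization (by omega)).mp h1
      omega
    rw [hm, pow_mul, hw1, hmodd.neg_one_pow]
  obtain ⟨⟨u, v⟩, huv⟩ := hEs (w : AdjoinRoot f)
  obtain ⟨p, hp, hcp⟩ : ∃ p, p.Prime ∧ CharP F p := by
    haveI := ringChar.charP F
    exact ⟨ringChar F, CharP.char_is_prime F (ringChar F), inferInstance⟩
  haveI := hcp
  haveI : Fact p.Prime := ⟨hp⟩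
  haveI : CharP (AdjoinRoot f) p := charP_of_injective_ringHom hofi p
  obtain ⟨n, -, hn⟩ := FiniteField.card F p
  have hiq : i ^ q = -i := by
    obtain ⟨m, hm⟩ : ∃ m, q = 2 * (2 * m + 1) + 1 := ⟨q / 4, by omega⟩
    rw [hm, pow_succ, pow_mul, pow_two, hii, (odd_two_mul_add_one m).neg_one_pow, neg_one_mul]
  have hfrob : (w : AdjoinRoot f) ^ q = AdjoinRoot.of f u - AdjoinRoot.of f v * i := by
    rw [← huv]
    show (AdjoinRoot.of f u + AdjoinRoot.of f v * i) ^ q = _
    have hqp : q = p ^ (n : ℕ) := hn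
    conv_lhs => rw [hqp, add_pow_char_pow, ← hqp, mul_pow, ← map_pow, ← map_pow, hiq,
      FiniteField.pow_card, FiniteField.pow_card]
    ring
  have hnorm : u * u + v * v = -1 := by
    apply hofi
    have h := congrArg Units.val hwnorm
    rw [Units.val_pow_eq_pow_val, Units.val_neg, Units.val_one, pow_succ, hfrob, ← huv] at h
    simp only [E] at h
    rw [map_add, map_mul, map_mul, map_neg, map_one]
    linear_combination h + AdjoinRoot.of f v * AdjoinRoot.of f v * hii
  let β : SL(2, F) := ⟨!![u, v; v, -u], by rw [Matrix.det_fin_two_of]; linear_combination -hnorm⟩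
  refine ⟨β, ?_, ?_⟩
  · apply Subtype.ext
    rw [Matrix.SpecialLinearGroup.coe_neg, Matrix.SpecialLinearGroup.coe_one,
      Matrix.SpecialLinearGroup.coe_mul]
    show !![u, v; v, -u] * !![u, v; v, -u] = _
    ext i j; fin_cases i <;> fin_cases j <;> simp [Matrix.mul_apply, Fin.sum_univ_two] <;>
      first | ring1 | linear_combination hnorm
  · let J : Matrix (Fin 2) (Fin 2) F := !![0, 1; -1, 0]
    have hJ : Polynomial.aeval J f = 0 := by
      simp only [f, map_add, map_pow, aeval_X, map_one, pow_two]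
      ext i j; fin_cases i <;> fin_cases j <;> simp [J, Matrix.mul_apply, Fin.sum_univ_two]
    let ρ : AdjoinRoot f →ₐ[F] Matrix (Fin 2) (Fin 2) F :=
      Ideal.Quotient.liftₐ _ (Polynomial.aeval J) fun a ha => by
        obtain ⟨c, rfl⟩ := Ideal.mem_span_singleton'.mp ha
        rw [map_mul, hJ, mul_zero]
    have hρi : ρ i = J := Polynomial.aeval_X J
    have hρc : ∀ c : F, ρ (AdjoinRoot.of f c) = algebraMap F _ c := fun c => ρ.commutes c
    have hsq : ρ ((w : AdjoinRoot f) * w) = (dconj (-1) β * β).1 := by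
      rw [map_mul, ← huv]
      show ρ (AdjoinRoot.of f u + AdjoinRoot.of f v * i) *
        ρ (AdjoinRoot.of f u + AdjoinRoot.of f v * i) = _
      rw [map_add, map_mul, hρi, hρc, hρc, Matrix.SpecialLinearGroup.coe_mul, dconj_val]
      ext i j; fin_cases i <;> fin_cases j <;>
        simp [β, J, Matrix.mul_apply, Fin.sum_univ_two, inv_neg, Matrix.algebraMap_matrix_apply] <;>
        ring
    apply Subtype.ext
    have hk1 : 1 ≤ k := by
      rw [← hk]
      exact (Nat.prime_two.dvd_iff_one_le_factorization (by omega)).mp (by omega)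
    rw [Matrix.SpecialLinearGroup.coe_pow, ← hsq, ← map_pow, ← pow_two, ← pow_mul, ← pow_succ',
      Nat.sub_add_cancel hk1, ← Units.val_pow_eq_pow_val, hw1, Units.val_neg, Units.val_one, map_neg,
      map_one, Matrix.SpecialLinearGroup.coe_neg, Matrix.SpecialLinearGroup.coe_one]

theorem factorization_two_of_double {n : ℕ} (h : n % 4 = 2) : n.factorization 2 = 1 := by
  obtain ⟨m, rfl⟩ : ∃ m, n = 2 * m := ⟨n / 2, by omega⟩
  rw [Nat.factorization_mul two_ne_zero (by omega), Finsupp.add_apply,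
    Nat.prime_two.factorization_self, Nat.factorization_eq_zero_of_not_dvd (by omega)]

theorem two_le_of_four {n : ℕ} (hn : n ≠ 0) (h : n % 4 = 0) : 2 ≤ n.factorization 2 :=
  (Nat.prime_two.pow_dvd_iff_le_factorization hn).mp (by norm_num; omega)

theorem exists_shape [Fintype F] (hF : Odd (Fintype.card F)) :
    ∃ (k : ℕ) (P : Sylow 2 (GG F)), Nonempty (Shape (P : Subgroup (GG F)) k) := by
  classical
  haveI : Fact (Nat.Prime 2) := ⟨Nat.prime_two⟩
  set q := Fintype.card F with hqd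
  have hq1 : 1 < q := Fintype.one_lt_card
  have hodd := Nat.odd_iff.mp hF
  have h2 := odd_char hF
  obtain ⟨k, hk, hv, ⟨D⟩⟩ : ∃ k, 2 ≤ k ∧
      ((q + 1) * (q - 1)).factorization 2 = k + 1 ∧ Nonempty (SylowData F k) := by
    by_cases hq : q % 4 = 3
    · refine ⟨_, two_le_of_four (n := q + 1) (by omega) (by omega), ?_, ?_⟩
      · rw [Nat.factorization_mul (by omega) (by omega), Finsupp.add_apply,
          factorization_two_of_double (n := q - 1) (by omega)]
      · obtain ⟨β, hβ, hb⟩ := exists_beta (F := F) hq rfl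
        exact data_nonsplit h2 (two_le_of_four (by omega) (by omega)) β hβ hb
    · refine ⟨_, two_le_of_four (n := q - 1) (by omega) (by omega), ?_, ?_⟩
      · rw [Nat.factorization_mul (by omega) (by omega), Finsupp.add_apply,
          factorization_two_of_double (n := q + 1) (by omega), add_comm]
      · obtain ⟨ζ, hζ⟩ := exists_unit_order (F := F) (Nat.ordProj_dvd (q - 1) 2)
        exact data_split h2 (two_le_of_four (by omega) (by omega)) ζ
          (half_eq_neg_one (le_trans one_le_two (two_le_of_four (by omega) (by omega))) hζ)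
  haveI : Finite (GG F) := Nat.finite_of_card_ne_zero (by
    rw [card_GG, ← hqd]
    have h2' : 1 < q ^ 2 := Nat.one_lt_pow (by norm_num) hq1
    have h6 : 1 < q ^ 6 := Nat.one_lt_pow (by norm_num) hq1
    exact Nat.mul_ne_zero (Nat.mul_ne_zero (by omega) (by omega)) (by omega))
  have hodd4 : ¬ 2 ∣ q ^ 4 + q ^ 2 + 1 := by
    rw [← even_iff_two_dvd, Nat.not_even_iff_odd]
    exact ((hF.pow).add_odd hF.pow).add_one
  have hcard : Nat.card D.sub = 2 ^ (Nat.card (GG F)).factorization 2 := by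
    have h1 : 1 ≤ q ^ 2 := Nat.one_le_pow _ _ (by omega)
    have h6 : 1 ≤ q ^ 6 := Nat.one_le_pow _ _ (by omega)
    have e1 : q ^ 2 - 1 = (q + 1) * (q - 1) := by rw [← Nat.sq_sub_sq, one_pow]
    have e6 : q ^ 6 - 1 = (q + 1) * (q - 1) * (q ^ 4 + q ^ 2 + 1) := by
      rw [← e1]; zify [h1, h6]; ring
    have hne : (q + 1) * (q - 1) ≠ 0 := Nat.mul_ne_zero (by omega) (by omega)
    rw [card_GG, ← hqd, e1, e6, Nat.factorization_mul (Nat.mul_ne_zero (by positivity) hne)
        (Nat.mul_ne_zero hne (by omega)), Finsupp.add_apply,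
      Nat.factorization_mul (by positivity) hne, Finsupp.add_apply,
      Nat.factorization_mul hne (by omega), Finsupp.add_apply, hv,
      Nat.factorization_eq_zero_of_not_dvd (fun h => by
        have := (Nat.prime_two.dvd_of_dvd_pow h)
        omega : ¬ 2 ∣ q ^ 6), Nat.factorization_eq_zero_of_not_dvd hodd4, D.shape.card_eq]
    congr 1
    omega
  exact ⟨k, Sylow.ofCard D.sub hcard, ⟨D.shape⟩⟩

end CfsgLib.Chevalley.G2Inv
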