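import Cfsg.Agent.Lib.Chevalley.G2InvClass
import Cfsg.Agent.Lib.Fusion.G2Type.Involutions
import Cfsg.Agent.Lib.Fusion.G2Type.Arith

/-!
A subgroup of `G₂(F)` of the shape of a Sylow 2-subgroup, `F` of odd order.
-/

set_option autoImplicit false

namespace CfsgLib.Chevalley.G2Inv

open Tbl CfsgLib.Fusion.G2Type
open scoped MatrixGroups

variable (F : Type*) [Field F]

/-- What is needed to write down the subgroup. -/
structure SylowData (k : ℕ) where
  two_le : 2 ≤ k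
  h2 : (2 : F) ≠ 0
  a : SL(2, F)
  a' : SL(2, F)
  bb : SL(2, F)
  bb' : SL(2, F)
  ε : SL(2, F)
  ha : a ^ 2 ^ (k - 1) = -1
  ha' : a' ^ 2 ^ (k - 1) = -1
  hbb : bb * bb = -1
  hbb' : bb' * bb' = -1
  hε : ε = 1 ∨ ε = -1
  d : GG F
  hzd : Commute (z : GG F) d
  hda : Commute d (fa a)
  hd2 : d * d = fa a⁻¹ * fb a'
  hW : fa bb * d * (fa bb)⁻¹ = d * fa (ε * a)
  hW' : fb bb' * d * (fb bb')⁻¹ = d * fb (ε * a'⁻¹)

variable {F}

theorem z_mul_z : (z : GG F) * z = 1 := by rw [z, ← map_mul, neg_mul_neg, one_mul, map_one]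

theorem z_ne_one (h2 : (2 : F) ≠ 0) : (z : GG F) ≠ 1 := by
  intro h
  rw [z, map_eq_one_iff _ fa_injective] at h
  have := congrArg (fun g : SL(2, F) => g.1 0 0) h
  simp at this
  exact h2 (by linear_combination -this)

theorem sl2_neg_one_ne (h2 : (2 : F) ≠ 0) : (-1 : SL(2, F)) ≠ 1 := fun h =>
  z_ne_one h2 (by rw [z, h, map_one])

namespace SylowData

variable {k : ℕ} (D : SylowData F k)

/-- The first generator. -/
noncomputable def e2 : GG F := D.d
/-- The second generator. -/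
noncomputable def e1 : GG F := D.d * fa (D.ε * D.a)
/-- The inverting involution. -/
noncomputable def nn : GG F := fa D.bb * fb D.bb'
/-- The interchanging involution. -/
noncomputable def ss : GG F := fa D.bb * D.e1 ^ 2 ^ (k - 1)

theorem eps_sq : D.ε * D.ε = 1 := by rcases D.hε with h | h <;> rw [h] <;> simp

theorem eps_comm (x : SL(2, F)) : Commute D.ε x := by
  rcases D.hε with h | h <;> rw [h]
  · exact Commute.one_left x
  · exact Commute.neg_one_left x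

theorem fb_eps : fb D.ε = (fa D.ε : GG F) := by
  rcases D.hε with h | h <;> rw [h]
  · rw [map_one, map_one]
  · exact fb_neg_one

theorem d_z : Commute D.d (z : GG F) := D.hzd.symm

theorem d_eps : Commute D.d (fa D.ε) := by
  rcases D.hε with h | h <;> rw [h]
  · rw [map_one]; exact Commute.one_right _
  · exact D.d_z

theorem e12 : Commute D.e1 D.e2 := by
  show Commute (D.d * fa (D.ε * D.a)) D.d
  rw [map_mul]
  exact (Commute.refl D.d).mul_left (D.d_eps.mul_right D.hda).symm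

theorem W_e2 : fa D.bb * D.e2 * (fa D.bb)⁻¹ = D.e1 := D.hW

theorem W_sq : fa D.bb * fa D.bb = (z : GG F) := by rw [← map_mul, D.hbb]; rfl

theorem W'_sq : fb D.bb' * fb D.bb' = (z : GG F) := by rw [← map_mul, D.hbb', fb_neg_one]; rfl

theorem W_e1 : fa D.bb * D.e1 * (fa D.bb)⁻¹ = D.e2 := by
  rw [← W_e2, show fa D.bb * (fa D.bb * D.e2 * (fa D.bb)⁻¹) * (fa D.bb)⁻¹ =
    fa D.bb * fa D.bb * D.e2 * (fa D.bb * fa D.bb)⁻¹ by group, W_sq]
  exact mul_inv_eq_iff_eq_mul.mpr D.hzd.eq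

theorem W_n : Commute (fa D.bb) D.nn :=
  (Commute.refl _).mul_right (fa_fb_commute D.bb D.bb')

theorem n_sq : D.nn * D.nn = 1 := by
  rw [nn, show fa D.bb * fb D.bb' * (fa D.bb * fb D.bb') =
    fa D.bb * (fb D.bb' * fa D.bb) * fb D.bb' by group, ← (fa_fb_commute D.bb D.bb').eq,
    show fa D.bb * (fa D.bb * fb D.bb') * fb D.bb' = fa D.bb * fa D.bb * (fb D.bb' * fb D.bb') by group,
    W_sq, W'_sq, z_mul_z]

theorem n_e2 : D.nn * D.e2 * D.nn⁻¹ = D.e2⁻¹ := by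
  apply eq_inv_of_mul_eq_one_right
  have h1 : D.nn * D.e2 * D.nn⁻¹ = D.d * (fa (D.ε * D.a) * fb (D.ε * D.a'⁻¹)) := by
    rw [nn, e2, show fa D.bb * fb D.bb' * D.d * (fa D.bb * fb D.bb')⁻¹ =
      fa D.bb * (fb D.bb' * D.d * (fb D.bb')⁻¹) * (fa D.bb)⁻¹ by group, D.hW',
      show fa D.bb * (D.d * fb (D.ε * D.a'⁻¹)) * (fa D.bb)⁻¹ =
      (fa D.bb * D.d * (fa D.bb)⁻¹) * (fa D.bb * fb (D.ε * D.a'⁻¹) * (fa D.bb)⁻¹) by group, D.hW,
      (fa_fb_commute D.bb (D.ε * D.a'⁻¹)).eq, mul_inv_cancel_right, mul_assoc]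
  rw [h1, e2, ← mul_assoc, D.hd2,
    show fa D.a⁻¹ * fb D.a' * (fa (D.ε * D.a) * fb (D.ε * D.a'⁻¹)) =
      fa D.a⁻¹ * (fb D.a' * fa (D.ε * D.a)) * fb (D.ε * D.a'⁻¹) by group,
    ← (fa_fb_commute (D.ε * D.a) D.a').eq,
    show fa D.a⁻¹ * (fa (D.ε * D.a) * fb D.a') * fb (D.ε * D.a'⁻¹) =
      fa D.a⁻¹ * fa (D.ε * D.a) * (fb D.a' * fb (D.ε * D.a'⁻¹)) by group, ← map_mul, ← map_mul,
    (D.eps_comm D.a).eq, inv_mul_cancel_left, (D.eps_comm D.a'⁻¹).eq, mul_inv_cancel_left, fb_eps,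
    ← map_mul, eps_sq, map_one]

theorem n_e1 : D.nn * D.e1 * D.nn⁻¹ = D.e1⁻¹ := by
  rw [← W_e2, show D.nn * (fa D.bb * D.e2 * (fa D.bb)⁻¹) * D.nn⁻¹ =
    (D.nn * fa D.bb) * D.e2 * (D.nn * fa D.bb)⁻¹ by group, ← D.W_n.eq,
    show fa D.bb * D.nn * D.e2 * (fa D.bb * D.nn)⁻¹ =
      fa D.bb * (D.nn * D.e2 * D.nn⁻¹) * (fa D.bb)⁻¹ by group, n_e2]
  group

theorem e1_mul_e2 : D.e1 * D.e2 = fa D.ε * fb D.a' := by
  rw [D.e12.eq, e1, e2, ← mul_assoc, D.hd2,
    show fa D.a⁻¹ * fb D.a' * fa (D.ε * D.a) = fa D.a⁻¹ * (fb D.a' * fa (D.ε * D.a)) by group,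
    ← (fa_fb_commute (D.ε * D.a) D.a').eq, ← mul_assoc, ← map_mul, (D.eps_comm D.a).eq,
    inv_mul_cancel_left]

include D in
theorem half : 2 ^ (k - 1) = 2 * 2 ^ (k - 2) := by
  have := D.two_le
  rw [← pow_succ', show k - 2 + 1 = k - 1 by omega]

include D in
theorem whole : 2 ^ k = 2 * 2 ^ (k - 1) := by
  have := D.two_le
  rw [← pow_succ', show k - 1 + 1 = k by omega]

theorem e12_pow : (D.e1 * D.e2) ^ 2 ^ (k - 1) = (z : GG F) := by
  rw [e1_mul_e2, Commute.mul_pow (fa_fb_commute _ _), ← map_pow, ← map_pow, D.half, pow_mul, pow_two,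
    eps_sq, one_pow, map_one, one_mul, ← D.half, D.ha', fb_neg_one]
  rfl

theorem e2_order : D.e2 ^ 2 ^ k = 1 := by
  rw [D.whole, pow_mul, pow_two, e2, D.hd2, Commute.mul_pow (fa_fb_commute _ _), ← map_pow, ← map_pow,
    inv_pow, D.ha, D.ha', map_inv, fb_neg_one, inv_mul_cancel]

theorem e1_order : D.e1 ^ 2 ^ k = 1 := by
  rw [← W_e2, _root_.conj_pow, e2_order, mul_one, mul_inv_cancel]

theorem e2_half_ne : D.e2 ^ 2 ^ (k - 1) ≠ 1 := by
  intro h
  rw [D.half, pow_mul, pow_two, e2, D.hd2, Commute.mul_pow (fa_fb_commute _ _), ← map_pow, ← map_pow,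
    mul_eq_one_iff_eq_inv, ← map_inv] at h
  have h1 : D.a' ^ 2 ^ (k - 1) = 1 := by
    rw [D.half, mul_comm, pow_mul, pow_two]
    rcases fa_central h with e | e
    · rw [e, map_one, eq_comm, map_eq_one_iff _ fb_injective, inv_eq_one] at h
      rw [h, one_mul]
    · rw [e, ← fb_neg_one] at h
      have h' := fb_injective h
      rw [← inv_inv (D.a' ^ _ * _), mul_inv_rev, ← h', neg_mul_neg, one_mul, inv_one]
  rw [D.ha'] at h1
  exact sl2_neg_one_ne D.h2 h1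

theorem e1_half_ne : D.e1 ^ 2 ^ (k - 1) ≠ 1 := by
  intro h
  apply D.e2_half_ne
  rw [← W_e1, _root_.conj_pow, h, mul_one, mul_inv_cancel]

/-- The homocyclic group. -/
noncomputable def tt (x : V k) : GG F := D.e1 ^ x.1.val * D.e2 ^ x.2.val

theorem pow_val_add {g : GG F} (h : g ^ 2 ^ k = 1) (a b : ZMod (2 ^ k)) :
    g ^ (a + b).val = g ^ a.val * g ^ b.val := by
  rw [← pow_add, ZMod.val_add, ← pow_eq_pow_mod _ h]

theorem pow_val_neg {g : GG F} (h : g ^ 2 ^ k = 1) (a : ZMod (2 ^ k)) :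
    g ^ (-a).val = (g ^ a.val)⁻¹ := by
  apply eq_inv_of_mul_eq_one_left
  rw [← pow_val_add h, neg_add_cancel, ZMod.val_zero, pow_zero]

theorem tt_add (x y : V k) : D.tt (x + y) = D.tt x * D.tt y := by
  simp only [tt, Prod.fst_add, Prod.snd_add, pow_val_add D.e1_order, pow_val_add D.e2_order]
  rw [mul_assoc, mul_assoc, ← mul_assoc (D.e1 ^ y.1.val), (D.e12.pow_pow _ _).eq, mul_assoc]

theorem tt_neg (x : V k) : D.tt (-x) = (D.tt x)⁻¹ := by
  simp only [tt, Prod.fst_neg, Prod.snd_neg, pow_val_neg D.e1_order, pow_val_neg D.e2_order]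
  rw [← mul_inv_rev, (D.e12.pow_pow _ _).symm.eq]

theorem n_tt (x : V k) : D.nn * D.tt x = D.tt (-x) * D.nn := by
  rw [← mul_inv_eq_iff_eq_mul, tt_neg, tt,
    show D.nn * (D.e1 ^ x.1.val * D.e2 ^ x.2.val) * D.nn⁻¹ =
      (D.nn * D.e1 ^ x.1.val * D.nn⁻¹) * (D.nn * D.e2 ^ x.2.val * D.nn⁻¹) by group,
    ← _root_.conj_pow, ← _root_.conj_pow, n_e1, n_e2, inv_pow, inv_pow, ← mul_inv_rev,
    (D.e12.pow_pow _ _).symm.eq]

theorem s_tt (x : V k) : D.ss * D.tt x = D.tt x.swap * D.ss := by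
  have h1 : Commute (D.e1 ^ 2 ^ (k - 1)) (D.tt x) :=
    ((Commute.refl D.e1).pow_pow _ _).mul_right (D.e12.pow_pow _ _)
  rw [ss, mul_assoc, h1.eq, ← mul_assoc, ← mul_assoc]
  congr 1
  rw [← mul_inv_eq_iff_eq_mul, tt, tt,
    show fa D.bb * (D.e1 ^ x.1.val * D.e2 ^ x.2.val) * (fa D.bb)⁻¹ =
      (fa D.bb * D.e1 ^ x.1.val * (fa D.bb)⁻¹) * (fa D.bb * D.e2 ^ x.2.val * (fa D.bb)⁻¹) by group,
    ← _root_.conj_pow, ← _root_.conj_pow, W_e1, W_e2, Prod.fst_swap, Prod.snd_swap, (D.e12.pow_pow _ _).eq]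

theorem s_sq : D.ss * D.ss = 1 := by
  rw [ss, show fa D.bb * D.e1 ^ 2 ^ (k - 1) * (fa D.bb * D.e1 ^ 2 ^ (k - 1)) =
    (fa D.bb * D.e1 ^ 2 ^ (k - 1) * (fa D.bb)⁻¹) * (fa D.bb * fa D.bb) * D.e1 ^ 2 ^ (k - 1) by group,
    ← _root_.conj_pow, W_e1, W_sq, mul_assoc, ← e12_pow, Commute.mul_pow D.e12,
    show D.e2 ^ 2 ^ (k - 1) * (D.e1 ^ 2 ^ (k - 1) * D.e2 ^ 2 ^ (k - 1) * D.e1 ^ 2 ^ (k - 1)) =
      (D.e2 ^ 2 ^ (k - 1) * D.e1 ^ 2 ^ (k - 1)) * (D.e2 ^ 2 ^ (k - 1) * D.e1 ^ 2 ^ (k - 1)) by group,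
    ← Commute.mul_pow D.e12.symm, ← pow_add, ← two_mul, ← D.whole,
    Commute.mul_pow D.e12.symm, e1_order, e2_order, one_mul]

theorem n_s : D.nn * D.ss = D.ss * D.nn := by
  have h : D.nn * D.e1 ^ 2 ^ (k - 1) * D.nn⁻¹ = D.e1 ^ 2 ^ (k - 1) := by
    rw [← _root_.conj_pow, n_e1, inv_pow, inv_eq_iff_mul_eq_one, ← pow_add, ← two_mul, ← D.whole, e1_order]
  rw [ss, ← mul_assoc, ← D.W_n.eq, mul_assoc, mul_inv_eq_iff_eq_mul.mp h, mul_assoc]

include D in
theorem pow_hh (g : GG F) : g ^ (hh k).val = g ^ 2 ^ (k - 1) := by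
  have := D.two_le
  rw [hh, ZMod.val_natCast, Nat.mod_eq_of_lt (Nat.pow_lt_pow_right (by norm_num) (by omega))]

theorem tt_zero : D.tt 0 = 1 := by simp [tt]

theorem tt_inj {x : V k} (h : D.tt x = 1) : x = 0 := by
  by_contra hx
  have hk : k ≠ 0 := by have := D.two_le; omega
  have hper : ∀ y : V k, (2 ^ k) • y = 0 := fun y => by
    ext <;> simp only [Prod.smul_fst, Prod.smul_snd, Prod.fst_zero, Prod.snd_zero] <;>
      rw [nsmul_eq_mul, ZMod.natCast_self, zero_mul]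
  classical
  have hex : ∃ j, (2 ^ j) • x = 0 := ⟨k, hper x⟩
  obtain ⟨j, hj⟩ : ∃ j, Nat.find hex = j + 1 := by
    refine Nat.exists_eq_succ_of_ne_zero fun h0 => hx ?_
    have := Nat.find_spec hex
    rwa [h0, pow_zero, one_nsmul] at this
  have hy : (2 ^ j) • x ≠ 0 := Nat.find_min hex (by omega)
  have hy2 : (2 ^ j) • x + (2 ^ j) • x = 0 := by
    rw [← add_nsmul, ← two_mul, ← pow_succ', ← hj]; exact Nat.find_spec hex
  have hmul : ∀ m : ℕ, D.tt (m • x) = 1 := by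
    intro m
    induction m with
    | zero => rw [zero_nsmul, tt_zero]
    | succ m ih => rw [succ_nsmul, tt_add, ih, h, one_mul]
  have hyt := hmul (2 ^ j)
  generalize (2 ^ j) • x = y at hy hy2 hyt
  obtain ⟨u, w⟩ := y
  simp only [Prod.mk_add_mk, Prod.mk_eq_zero] at hy2
  rcases eq_of_add_self hk hy2.1 with rfl | rfl <;> rcases eq_of_add_self hk hy2.2 with rfl | rfl
  · exact hy rfl
  · rw [tt, ZMod.val_zero, pow_zero, one_mul, D.pow_hh] at hyt; exact D.e2_half_ne hyt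
  · rw [tt, ZMod.val_zero, pow_zero, mul_one, D.pow_hh] at hyt; exact D.e1_half_ne hyt
  · rw [tt, D.pow_hh, D.pow_hh, ← Commute.mul_pow D.e12, e12_pow] at hyt
    exact z_ne_one D.h2 hyt

theorem inj' (x : V k) (i j : Bool)
    (h : D.tt x * (bif i then D.nn else 1) * (bif j then D.ss else 1) = 1) :
    x = 0 ∧ i = false ∧ j = false := by
  have hk : k ≠ 0 := by have := D.two_le; omega
  have hone : (1 : ZMod (2 ^ k)) ≠ 0 := by
    intro h1
    exact hh_ne hk (by rw [← mul_one (hh k), h1, mul_zero])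
  -- the product of the two involutions would commute with the homocyclic group
  have hc : ∀ y, Commute ((bif i then D.nn else 1) * (bif j then D.ss else 1)) (D.tt y) := by
    intro y
    rw [mul_assoc, mul_eq_one_iff_inv_eq] at h
    rw [← h, ← tt_neg]
    show _ * _ = _ * _
    rw [← tt_add, ← tt_add, add_comm]
  cases i <;> cases j
  · exact ⟨D.tt_inj (by simpa using h), rfl, rfl⟩
  · exfalso
    have h1 : Commute D.ss (D.tt (1, 0)) := by simpa using hc (1, 0)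
    have h2 := (D.s_tt (1, 0)).symm.trans h1.eq
    rw [mul_left_inj, eq_comm, ← inv_mul_eq_one, ← tt_neg, ← tt_add] at h2
    exact hone (by simpa using congrArg Prod.snd (D.tt_inj h2))
  · exfalso
    have h1 : Commute D.nn (D.tt (1, 0)) := by simpa using hc (1, 0)
    have h2 := (D.n_tt (1, 0)).symm.trans h1.eq
    rw [mul_left_inj, eq_comm, ← inv_mul_eq_one, ← tt_neg, ← tt_add] at h2
    have h3 : -(1 : ZMod (2 ^ k)) + -1 = 0 := by simpa using congrArg Prod.fst (D.tt_inj h2)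
    rcases eq_of_add_self hk h3 with h4 | h4
    · exact hone (neg_eq_zero.mp h4)
    · have h5 := congrArg (par hk) h4
      rw [map_neg, map_one, par_hh D.two_le] at h5
      exact absurd h5 (by decide)
  · exfalso
    have h1 : Commute (D.nn * D.ss) (D.tt (1, 0)) := by simpa using hc (1, 0)
    have h2 : D.tt (0, -1) * (D.nn * D.ss) = D.tt (1, 0) * (D.nn * D.ss) := by
      rw [← h1.eq, mul_assoc D.nn, D.s_tt, ← mul_assoc D.nn, D.n_tt, mul_assoc]
      simp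
    rw [mul_left_inj, eq_comm, ← inv_mul_eq_one, ← tt_neg, ← tt_add] at h2
    exact hone (by simpa using congrArg Prod.fst (D.tt_inj h2))

/-- The normal forms. -/
def Carrier : Set (GG F) :=
  {g | ∃ x i j, g = D.tt x * (bif i then D.nn else 1) * (bif j then D.ss else 1)}

theorem n_tt' (x : V k) (r : GG F) : D.nn * (D.tt x * r) = D.tt (-x) * (D.nn * r) := by
  rw [← mul_assoc, D.n_tt, mul_assoc]

theorem s_tt' (x : V k) (r : GG F) : D.ss * (D.tt x * r) = D.tt x.swap * (D.ss * r) := by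
  rw [← mul_assoc, D.s_tt, mul_assoc]

theorem tt_tt' (x y : V k) (r : GG F) : D.tt x * (D.tt y * r) = D.tt (x + y) * r := by
  rw [← mul_assoc, ← D.tt_add]

theorem s_n' (r : GG F) : D.ss * (D.nn * r) = D.nn * (D.ss * r) := by
  rw [← mul_assoc, ← D.n_s, mul_assoc]

theorem nn' (r : GG F) : D.nn * (D.nn * r) = r := by rw [← mul_assoc, n_sq, one_mul]

theorem carrier_mul {g g' : GG F} (hg : g ∈ D.Carrier) (hg' : g' ∈ D.Carrier) :
    g * g' ∈ D.Carrier := by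
  obtain ⟨x, i, j, rfl⟩ := hg
  obtain ⟨y, i', j', rfl⟩ := hg'
  refine ⟨x + (bif i then -(bif j then y.swap else y) else (bif j then y.swap else y)), xor i i',
    xor j j', ?_⟩
  cases i <;> cases j <;> cases i' <;> cases j' <;>
    simp [mul_assoc, D.n_tt', D.s_tt', D.tt_tt', D.s_n', D.nn', D.n_tt, D.s_tt, D.n_sq, D.s_sq,
      D.n_s.symm, ← D.tt_add]

/-- The subgroup. -/
def sub : Subgroup (GG F) where
  carrier := D.Carrier
  mul_mem' := D.carrier_mul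
  one_mem' := ⟨0, false, false, by simp [tt_zero]⟩
  inv_mem' := by
    rintro _ ⟨x, i, j, rfl⟩
    have h1 : D.tt (-x) ∈ D.Carrier := ⟨-x, false, false, by simp⟩
    have h2 : (bif i then D.nn else 1) ∈ D.Carrier := ⟨0, i, false, by simp [tt_zero]⟩
    have h3 : (bif j then D.ss else 1) ∈ D.Carrier := ⟨0, false, j, by simp [tt_zero]⟩
    have e : (D.tt x * (bif i then D.nn else 1) * (bif j then D.ss else 1))⁻¹ =
        (bif j then D.ss else 1) * (bif i then D.nn else 1) * D.tt (-x) := by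
      apply inv_eq_of_mul_eq_one_right
      cases i <;> cases j <;>
        simp [mul_assoc, D.n_tt', D.s_tt', D.tt_tt', D.s_n', D.nn', D.n_tt, D.s_tt, D.n_sq, D.s_sq,
          D.n_s.symm, ← D.tt_add, tt_zero]
    rw [e]
    exact D.carrier_mul (D.carrier_mul h3 h2) h1

/-- Its shape. -/
noncomputable def shape : Shape D.sub k where
  two_le := D.two_le
  t := D.tt
  n := D.nn
  s := D.ss
  t_add := D.tt_add
  n_sq := D.n_sq
  s_sq := D.s_sq
  ns := D.n_s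
  n_t := D.n_tt
  s_t := D.s_tt
  t_mem x := ⟨x, false, false, by simp⟩
  n_mem := ⟨0, true, false, by simp [tt_zero]⟩
  s_mem := ⟨0, false, true, by simp [tt_zero]⟩
  surj _ hg := hg
  inj := D.inj'

end SylowData

end CfsgLib.Chevalley.G2Inv
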