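import Cfsg.Agent.Lib.Chevalley.GraphEnd
import Cfsg.Agent.Lib.Chevalley.Data.GraphCerts
import Cfsg.Agent.Lib.Chevalley.TablesSt

/-!
Graph automorphisms in the form of the statements.
-/

set_option autoImplicit false

namespace CfsgLib.Chevalley.Tbl

variable {T : Tbl} {F : Type*} [Field F]

/-- The automorphism of a pair of root maps, on root elements as matrices. -/
theorem exists_graph_aut (hO : T.StOk) {p : ℕ} (hp : CharOk F p) {M N : RootMap}
    (hM : T.chkMap p M = true) (hN : T.chkMap p N = true) (hinv : T.chkInvMap p M N = true)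
    (hperf : ∀ x : F, ∃ y : F, y ^ p = x ∨ p = 0) :
    ∃ α : ↥(T.datum.group F) ≃* ↥(T.datum.group F), ∀ (g : ↥(T.datum.group F)) (r s e : ℕ) (t : F),
      r < T.n → s = M.ρ r → M.ε r = 1 → e = M.lam r →
      ((g : GL T.datum.Idx F) : Matrix T.datum.Idx T.datum.Idx F) = T.datum.x F r t →
      ((α g : GL T.datum.Idx F) : Matrix T.datum.Idx T.datum.Idx F) = T.datum.x F s (t ^ e) := by
  obtain ⟨α, hα⟩ := exists_rootMap_aut hO hp hM hN hinv hperf
  refine ⟨α, fun g r s e t hr hs he hl hg => ?_⟩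
  subst hs hl
  rw [eq_x_iff hO.valid hr t] at hg
  rw [eq_x_iff hO.valid (chkMap_facts hM hr).1, hα g r t hr hg, RootMap.par, he, Int.cast_one,
    one_mul]

end CfsgLib.Chevalley.Tbl
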