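import Cfsg.Agent.Lib.Chevalley.CommCheck

/-!
Certificates for endomorphisms given by a permutation of the roots, signs and exponents.
-/

set_option autoImplicit false

namespace CfsgLib.Chevalley.Tbl

/-- The data of an endomorphism: images, signs and exponents of the roots. -/
structure RootMap where
  img : List ℕ
  sgn : List ℤ
  ex : List ℕ

/-- Image of a root. -/
def RootMap.ρ (M : RootMap) (r : ℕ) : ℕ := M.img.getD r 0

/-- Sign of a root. -/
def RootMap.ε (M : RootMap) (r : ℕ) : ℤ := M.sgn.getD r 1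

/-- Exponent of a root. -/
def RootMap.lam (M : RootMap) (r : ℕ) : ℕ := M.ex.getD r 1

variable (T : Tbl)

/-- The mapped terms of the commutator relation, coefficients modulo `p`. -/
def lhsTerms (p : ℕ) (M : RootMap) (r s : ℕ) : List (ℕ × ℤ × ℕ × ℕ) :=
  ((T.commT r s).map fun c =>
      (M.ρ c.1, M.ε c.1 * c.2.1 % (p : ℤ), c.2.2.1 * M.lam c.1, c.2.2.2 * M.lam c.1)).filter
    fun c => !decide (c.2.1 = 0)

/-- The terms of the commutator of the mapped roots, coefficients modulo `p`. -/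
def rhsTerms (p : ℕ) (M : RootMap) (r s : ℕ) : List (ℕ × ℤ × ℕ × ℕ) :=
  ((T.commT (M.ρ r) (M.ρ s)).map fun c =>
      (c.1, c.2.1 * M.ε r ^ c.2.2.1 * M.ε s ^ c.2.2.2 % (p : ℤ), M.lam r * c.2.2.1,
        M.lam s * c.2.2.2)).filter
    fun c => !decide (c.2.1 = 0)

/-- Two root elements commute modulo `p`. -/
def commMod (p : ℕ) (a b : ℕ) : Bool :=
  Nat.beq a b ||
    (!Nat.beq b (T.neg a) && (T.commT a b).all fun c => decide (c.2.1 % (p : ℤ) = 0))

def chkMapRoot (p : ℕ) (M : RootMap) (r : ℕ) : Bool :=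
  Nat.blt (M.ρ r) T.n && Nat.beq (M.ρ (T.neg r)) (T.neg (M.ρ r)) &&
  decide (M.ε r = 1 ∨ M.ε r = -1) && decide (M.ε (T.neg r) = M.ε r) &&
  Nat.beq (M.lam (T.neg r)) (M.lam r) && (Nat.beq (M.lam r) 1 || (Nat.beq (M.lam r) p && Nat.blt 1 p))

def chkMapInj (M : RootMap) (r : ℕ) : Bool :=
  allLt (fun s => Nat.beq r s || !Nat.beq (M.ρ r) (M.ρ s)) T.n

def chkMapPair (p : ℕ) (M : RootMap) (r s : ℕ) : Bool :=
  Nat.beq r s || Nat.beq s (T.neg r) ||
    ((T.lhsTerms p M r s).isPerm (T.rhsTerms p M r s) &&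
      (T.rhsTerms p M r s).all fun a => (T.rhsTerms p M r s).all fun b => T.commMod p a.1 b.1)

/-- The root map induces an endomorphism in characteristic `p` (`p = 0`: every characteristic). -/
def chkMap (p : ℕ) (M : RootMap) : Bool :=
  allLt (fun r => T.chkMapRoot p M r && T.chkMapInj M r && allLt (fun s => T.chkMapPair p M r s) T.n) T.n

/-- `τ ∘ σ` sends every `x_r(t)` to `x_r(t^p)`, or, with all exponents one, to `x_r(t)`. -/
def chkInvMap (p : ℕ) (σ τ : RootMap) : Bool :=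
  allLt (fun r => Nat.beq (τ.ρ (σ.ρ r)) r && decide (τ.ε (σ.ρ r) * σ.ε r = 1) &&
    Nat.beq (σ.lam r * τ.lam (σ.ρ r)) (bif Nat.beq p 0 then 1 else p)) T.n

end CfsgLib.Chevalley.Tbl
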