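import Cfsg.Agent.Lib.Chevalley.Unipotent

/-!
The positive unipotent subgroup raises the height of the adjoint basis, so its elements satisfy
`(g - 1) ^ (2 H + 1) = 0`, `H` a bound on the heights.
-/

set_option autoImplicit false

namespace CfsgLib.Chevalley.Tbl

open Matrix

/-- The height grading of the basis. -/
def hdeg (T : Tbl) : T.I → ℤ := Sum.elim (fun _ => 0) fun r => T.ht r.val

variable {T : Tbl} {F : Type*} [Field F]
variable (hT : T.Valid)
include hT

theorem ht_neg {r : ℕ} (hr : r < T.n) : T.ht (T.neg r) = -T.ht r := by
  unfold ht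
  have key : ∀ L : List ℕ, (∀ i ∈ L, i < T.rank) →
      (L.map fun i => T.co (T.neg r) i).sum = -(L.map fun i => T.co r i).sum := by
    intro L
    induction L with
    | nil => simp
    | cons a L ih =>
      intro h
      simp only [List.map_cons, List.sum_cons, co_neg hT hr (h a (List.mem_cons_self ..)),
        ih fun i hi => h i (List.mem_cons_of_mem _ hi)]
      ring
  exact key _ fun i hi => List.mem_range.1 hi

theorem ht_chain {r s u k : ℕ} {m : ℤ} (hr : r < T.n) (hs : s < T.n)
    (hc : T.chain r s k = some (u, m)) : T.ht u = k * T.ht r + T.ht s := by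
  have key : ∀ L : List ℕ, (∀ i ∈ L, i < T.rank) →
      (L.map fun i => T.co u i).sum =
        k * (L.map fun i => T.co r i).sum + (L.map fun i => T.co s i).sum := by
    intro L
    induction L with
    | nil => simp
    | cons a L ih =>
      intro h
      simp only [List.map_cons, List.sum_cons, chain_co hT hr hs k u m hc a (h a (List.mem_cons_self ..)),
        ih fun i hi => h i (List.mem_cons_of_mem _ hi)]
      ring
  exact key _ fun i hi => List.mem_range.1 hi

theorem hdeg_A {r : ℕ} (hr : r < T.n) (hpos : 0 < T.ht r) (k : ℕ) (row col : T.I) (hk : k ≠ 0)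
    (h : T.A r k row col ≠ 0) : T.hdeg col < T.hdeg row := by
  rw [A_apply] at h
  obtain ⟨k, rfl⟩ := Nat.exists_eq_succ_of_ne_zero hk
  rcases col with i | s
  · simp only [colA] at h
    by_cases hk0 : k = 0
    · subst hk0
      rcases row with j | v
      · simp [rootVec] at h
      · have hv : v.val = r := by
          by_contra e; simp [rootVec, e] at h
        simpa [hdeg, hv] using hpos
    · simp [hk0] at h
  · simp only [colA] at h
    by_cases h1 : s.val = r
    · simp [h1] at h
    simp only [if_neg h1] at h
    by_cases h2 : s.val = T.neg r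
    · simp only [if_pos h2] at h
      have h3 := ht_neg hT hr
      by_cases hk0 : k = 0
      · subst hk0
        rcases row with j | v
        · simp only [hdeg, Sum.elim_inl, Sum.elim_inr, h2, h3]
          omega
        · simp [coVec] at h
      · by_cases hk1 : k = 1
        · subst hk1
          rcases row with j | v
          · simp [rootVec] at h
          · have hv : v.val = r := by
              by_contra e; simp [rootVec, e] at h
            simp only [hdeg, Sum.elim_inr, hv, h2, h3]
            omega
        · simp [hk0, hk1] at h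
    simp only [if_neg h2] at h
    cases hc : T.chain r s.val (k + 1) with
    | none => simp [hc, optVec] at h
    | some p =>
      obtain ⟨u, m⟩ := p
      rw [hc] at h
      rcases row with j | v
      · simp [optVec, rootVec] at h
      · have hv : v.val = u := by
          by_contra e; simp [optVec, rootVec, e] at h
        simp only [hdeg, Sum.elim_inr, hv, ht_chain hT hr s.2 hc]
        push_cast
        nlinarith

theorem pos_le_uniSub_hdeg (hp : ∀ r, r < T.n → T.half ≤ r → 0 < T.ht r) :
    T.rootGen F (fun r => T.half ≤ r) ≤ T.uniSub F T.hdeg := by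
  refine rootGen_le fun r hr hr' t => ?_
  have key : ∀ t : F, UniTri T.hdeg (T.xU F r t) := by
    intro t row col hle
    rw [xU_val hT hr, X, Finset.sum_range_succ', Matrix.add_apply, Matrix.sum_apply,
      Finset.sum_eq_zero, zero_add]
    · simp [A_zero]
    · intro k _
      simp only [Matrix.smul_apply, castM_apply, smul_eq_mul]
      by_cases h : T.A r (k + 1) row col = 0
      · simp [h]
      · have := hdeg_A hT hr (hp r hr hr') (k + 1) row col (by omega) h
        omega
  exact ⟨key t, by rw [xU_inv hT hr]; exact key _⟩

omit hT in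
theorem pow_hdeg_eq_zero {H : ℕ} (hH : ∀ r < T.n, -(H : ℤ) ≤ T.ht r ∧ T.ht r ≤ H)
    {g : GL T.I F} (hg : UniTri T.hdeg g) :
    ((g : Matrix T.I T.I F) - 1) ^ (2 * H + 1) = 0 := by
  have key : ∀ k : ℕ, ∀ row col, T.hdeg row < T.hdeg col + k →
      (((g : Matrix T.I T.I F) - 1) ^ k) row col = 0 := by
    intro k
    induction k with
    | zero =>
      intro row col h
      simp only [Nat.cast_zero, add_zero] at h
      rw [pow_zero, Matrix.one_apply_ne]
      rintro rfl; omega
    | succ k ih =>
      intro row col h
      rw [pow_succ', Matrix.mul_apply]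
      refine Finset.sum_eq_zero fun j _ => ?_
      by_cases hj : T.hdeg j < T.hdeg col + k
      · rw [ih j col hj, mul_zero]
      · rw [Matrix.sub_apply, hg row j (by push_cast at h; omega), sub_self, zero_mul]
  have h0 : ∀ x : T.I, -(H : ℤ) ≤ T.hdeg x ∧ T.hdeg x ≤ H := by
    rintro (i | s)
    · simp [hdeg]
    · exact hH _ s.2
  ext row col
  refine key _ row col ?_
  have := h0 row
  have := h0 col
  push_cast
  omega

omit hT in
/-- In characteristic `p`, `(g - 1) ^ p ^ j = 0` gives `g ^ p ^ j = 1`. -/
theorem pow_eq_one_of_sub {ι : Type*} [Fintype ι] [DecidableEq ι] [Nonempty ι] {p j m : ℕ} [Fact p.Prime] [CharP F p]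
    (g : GL ι F) (h : ((g : Matrix ι ι F) - 1) ^ m = 0) (hm : m ≤ p ^ j) : g ^ p ^ j = 1 := by
  refine Units.ext ?_
  have h1 := sub_pow_char_pow_of_commute (p := p) (n := j) (Commute.one_right (g : Matrix ι ι F))
  rw [pow_eq_zero_of_le hm h, one_pow] at h1
  rw [Units.val_pow_eq_pow_val, Units.val_one]
  exact sub_eq_zero.1 h1.symm

end CfsgLib.Chevalley.Tbl
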