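import Cfsg.Agent.Lib.Chevalley.Matrices

/-!
The adjoint representation of a table: every `ad e_r` is a derivation.
-/

set_option autoImplicit false

namespace CfsgLib.Chevalley.Tbl

open Matrix

variable {T : Tbl}

/-- `ad h_i`. -/
def Hm (T : Tbl) (i : ℕ) : Matrix T.I T.I ℤ :=
  Matrix.diagonal (Sum.elim (fun _ => 0) fun s => T.ca i s.val)

/-- The adjoint matrix of a basis vector. -/
def adM (T : Tbl) : T.I → Matrix T.I T.I ℤ
  | Sum.inl i => T.Hm i
  | Sum.inr s => T.A s 1

/-- The adjoint matrix of a vector. -/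
def ad (T : Tbl) : (T.I → ℤ) →ₗ[ℤ] Matrix T.I T.I ℤ := Fintype.linearCombination ℤ T.adM

theorem ad_apply (v : T.I → ℤ) : T.ad v = ∑ b, v b • T.adM b :=
  Fintype.linearCombination_apply ℤ T.adM v

theorem ad_single (c : T.I) : T.ad (Pi.single c 1) = T.adM c := by
  simp [ad]

theorem ad_rootVec {u : ℕ} (hu : u < T.n) : T.ad (T.rootVec u) = T.A u 1 := by
  rw [rootVec_eq hu, ad_single]; rfl

theorem ad_coVec (b : ℕ) : T.ad (T.coVec b) = ∑ i : Fin T.rank, T.cv b i • T.Hm i := by
  rw [ad_apply, Fintype.sum_sum_type]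
  simp [coVec, adM]

/-- `X` acts as a derivation. -/
def Der (T : Tbl) (X : Matrix T.I T.I ℤ) : Prop :=
  ∀ c, X * T.adM c - T.adM c * X = T.ad fun b => X b c

theorem Der.ad_vec {X : Matrix T.I T.I ℤ} (hX : T.Der X) (v : T.I → ℤ) :
    X * T.ad v - T.ad v * X = T.ad (X *ᵥ v) := by
  rw [ad_apply, Finset.mul_sum, Finset.sum_mul, ← Finset.sum_sub_distrib]
  have : X *ᵥ v = ∑ c, v c • fun b => X b c := by
    ext b; simp [Matrix.mulVec, dotProduct, mul_comm]
  rw [this, map_sum]
  refine Finset.sum_congr rfl fun c _ => ?_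
  rw [map_smul, ← hX c, mul_smul_comm, smul_mul_assoc, smul_sub]

theorem Der.commutator {X Y : Matrix T.I T.I ℤ} (hX : T.Der X) (hY : T.Der Y) :
    T.Der (X * Y - Y * X) := by
  intro c
  have hx := hX.ad_vec fun b => Y b c
  have hy := hY.ad_vec fun b => X b c
  rw [← hY c] at hx
  rw [← hX c] at hy
  have : (fun b => (X * Y - Y * X) b c) = X *ᵥ (fun b => Y b c) - Y *ᵥ (fun b => X b c) := by
    ext b; simp [Matrix.mul_apply, Matrix.mulVec, dotProduct]
  rw [this, map_sub, ← hx, ← hy]
  noncomm_ring

theorem Der.smul_cancel {X : Matrix T.I T.I ℤ} {k : ℤ} (hk : k ≠ 0) (h : T.Der (k • X)) : T.Der X := by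
  intro c
  have hc := h c
  have h2 : (fun b => (k • X) b c) = k • fun b => X b c := by ext b; simp
  rw [h2, map_smul, smul_mul_assoc, mul_smul_comm, ← smul_sub] at hc
  exact smul_right_injective _ hk hc

/-- The vector of a term. -/
def termVec (T : Tbl) : Term → T.I → ℤ
  | .z => 0
  | .rt v m => m • T.rootVec v
  | .ht r m => m • T.coVec r

theorem termVec_inl (t : Term) (i : Fin T.rank) : T.termVec t (Sum.inl i) = T.valH i t := by
  rcases t with _ | ⟨v, m⟩ | ⟨r, m⟩ <;> simp [termVec, valH, rootVec, coVec]

theorem termVec_inr (t : Term) (v : Fin T.n) : T.termVec t (Sum.inr v) = valR v t := by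
  rcases t with _ | ⟨u, m⟩ | ⟨r, m⟩ <;> simp [termVec, valR, rootVec, coVec]
  by_cases h : v.val = u
  · simp [h]
  · simp [h, Ne.symm h]

theorem list_sum_apply {α β : Type*} (f : α → β → ℤ) (l : List α) (c : β) :
    (l.map f).sum c = (l.map fun a => f a c).sum := by
  induction l with
  | nil => simp
  | cons a l ih => simp [ih]

theorem sum_termVec_eq_zero {l : List Term} (h : T.termsZero l = true) :
    (l.map T.termVec).sum = 0 := by
  simp only [termsZero, List.all_eq_true] at h
  funext c
  rw [list_sum_apply, Pi.zero_apply]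
  rcases c with i | v
  · simp only [termVec_inl]
    by_cases hex : ∃ r m, Term.ht r m ∈ l
    · obtain ⟨r, m, hm⟩ := hex
      exact of_decide_eq_true (allLt_iff.mp (h _ hm) i i.2)
    · refine List.sum_eq_zero fun x hx => ?_
      obtain ⟨t, ht, rfl⟩ := List.mem_map.mp hx
      rcases t with _ | ⟨u, m⟩ | ⟨r, m⟩
      · rfl
      · rfl
      · exact absurd ⟨r, m, ht⟩ hex
  · simp only [termVec_inr]
    by_cases hex : ∃ m, Term.rt v.val m ∈ l
    · obtain ⟨m, hm⟩ := hex
      exact of_decide_eq_true (h _ hm)
    · refine List.sum_eq_zero fun x hx => ?_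
      obtain ⟨t, ht, rfl⟩ := List.mem_map.mp hx
      rcases t with _ | ⟨u, m⟩ | ⟨r, m⟩
      · rfl
      · simp only [valR]
        rcases hb : Nat.beq u v.val with _ | _
        · rfl
        · exact absurd ⟨m, Nat.eq_of_beq_eq_true hb ▸ ht⟩ hex
      · rfl

theorem A_mulVec_colA_root {a b : ℕ} (hT : T.Valid) (ha : a < T.n) (hb : b < T.n) (c : Fin T.n) :
    T.A a 1 *ᵥ T.colA b 1 (Sum.inr c) = T.termVec (T.second a b c.val) := by
  unfold second
  cases hs : T.sum? b c.val with
  | some p =>
    obtain ⟨u, N⟩ := p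
    have hu := sum?_lt hT hb c.2 hs
    have hc : c.val ≠ T.neg b := fun e => by rw [e, sum?_neg hT hb] at hs; cases hs
    rw [colA_one hT hb c hc, hs, optVec, Matrix.mulVec_smul, A_mulVec_rootVec a 1 hu]
    by_cases hau : a = T.neg u
    · have hb' : Nat.beq a (T.neg u) = true := by rw [← hau]; exact Nat.beq_refl a
      simp only [hb', cond_true]
      have hua : u = T.neg a := by rw [hau, neg_neg' hu]
      simp [colA, hua, neg_ne ha, termVec]
    · have hb' : Nat.beq a (T.neg u) = false := by
        rw [Bool.eq_false_iff]; exact fun e => hau (Nat.eq_of_beq_eq_true e)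
      simp only [hb', cond_false]
      have hua : (⟨u, hu⟩ : Fin T.n).val ≠ T.neg a := fun e => hau (by
        simp only at e; rw [e, neg_neg' ha])
      rw [colA_one hT ha ⟨u, hu⟩ hua]
      cases T.sum? a u with
      | none => simp [optVec, termVec]
      | some q => funext b; simp [optVec, termVec, mul_assoc]
  | none =>
    by_cases hc : c.val = T.neg b
    · have hb' : Nat.beq c.val (T.neg b) = true := by rw [← hc]; exact Nat.beq_refl _
      simp only [hb', cond_true]
      simp [colA, hc, neg_ne hb, termVec, A_mulVec_coVec_one]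
    · have hb' : Nat.beq c.val (T.neg b) = false := by
        rw [Bool.eq_false_iff]; exact fun e => hc (Nat.eq_of_beq_eq_true e)
      simp only [hb', cond_false]
      rw [colA_one hT hb c hc, hs]
      simp [optVec, termVec]

/-- The bracket of two basis vectors. -/
def br (T : Tbl) (a b : T.I) : T.I → ℤ := fun row => T.adM a row b

theorem adM_mul_col (a b c : T.I) :
    (fun row => (T.adM a * T.adM b) row c) = T.adM a *ᵥ T.br b c := mul_col _ _ c

theorem ad_mulVec (v w : T.I → ℤ) : T.ad v *ᵥ w = ∑ b, v b • (T.adM b *ᵥ w) := by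
  rw [ad_apply, Matrix.sum_mulVec]
  exact Finset.sum_congr rfl fun b _ => Matrix.smul_mulVec _ _ _

section

variable (hT : T.Valid)
include hT

theorem br_antisymm (a b : T.I) : T.br a b = -T.br b a := by
  funext row
  rcases a with i | r <;> rcases b with j | s
  · rcases row with k | v <;> simp [br, adM, Hm, Matrix.diagonal]
  · simp only [br, adM, Hm, Matrix.diagonal_apply, A_apply, colA, Pi.neg_apply]
    by_cases h : row = Sum.inr s
    · subst h; simp [rootVec]
    · rw [if_neg h]
      rcases row with k | v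
      · simp [rootVec]
      · have : v.val ≠ s.val := fun e => h (by rw [Fin.ext e])
        simp [rootVec, this]
  · simp only [br, adM, Hm, Matrix.diagonal_apply, A_apply, colA, Pi.neg_apply]
    by_cases h : row = Sum.inr r
    · subst h; simp [rootVec]
    · rw [if_neg h]
      rcases row with k | v
      · simp [rootVec]
      · have : v.val ≠ r.val := fun e => h (by rw [Fin.ext e])
        simp [rootVec, this]
  · simp only [br, adM, A_apply, Pi.neg_apply]
    by_cases h : s.val = T.neg r.val
    · have h' : r.val = T.neg s.val := by rw [h, neg_neg' r.2]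
      have hne : s.val ≠ r.val := by rw [h]; exact neg_ne r.2
      simp only [colA]
      rw [if_neg hne, if_pos h, if_neg (Ne.symm hne), if_pos h']
      simp only [if_true, Fin.isValue]
      rcases row with k | v
      · simp [coVec, h, cv_neg hT r.2 k.2]
      · simp [coVec]
    · have h' : r.val ≠ T.neg s.val := fun e => h (by rw [e, neg_neg' s.2])
      rw [colA_one hT r.2 s h, colA_one hT s.2 r h']
      cases hs : T.sum? r.val s.val with
      | none => simp [(sum?_none hT r.2 s.2 hs).1, optVec]
      | some p => simp [sum?_symm hT r.2 s.2 hs, optVec]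

theorem Hm_commutator (i : ℕ) (hi : i < T.rank) (r : Fin T.n) :
    T.Hm i * T.A r 1 - T.A r 1 * T.Hm i = T.ca i r • T.A r 1 := by
  ext row col
  simp only [Hm, Matrix.sub_apply, Matrix.diagonal_mul, Matrix.mul_diagonal, Matrix.smul_apply,
    A_apply, smul_eq_mul]
  rcases col with j | s
  · simp only [colA, if_true, Sum.elim_inl, mul_zero, sub_zero, Pi.smul_apply, smul_eq_mul]
    rcases row with k | v
    · simp [rootVec]
    · by_cases h : v.val = r.val
      · simp [rootVec, h]
      · simp [rootVec, h]
  · simp only [Sum.elim_inr]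
    by_cases h : s.val = T.neg r.val
    · have hne : s.val ≠ r.val := by rw [h]; exact neg_ne r.2
      simp only [colA, if_neg hne, if_pos h]
      rcases row with k | v
      · simp [coVec, h, ca_neg hT r.2 hi]; ring
      · simp [coVec]
    · rw [colA_one hT r.2 s h]
      cases hs : T.sum? r.val s.val with
      | none => simp [optVec]
      | some p =>
        obtain ⟨u, N⟩ := p
        rcases row with k | v
        · simp [optVec, rootVec]
        · by_cases hv : v.val = u
          · simp [optVec, rootVec, hv, ca_sum hT r.2 s.2 hs hi]; ring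
          · simp [optVec, rootVec, hv]

/-- The Jacobi identity at a fundamental root and two roots. -/
theorem jacobi_simple {i : ℕ} (hi : i < T.rank) (s x : Fin T.n) :
    T.A (T.simple i) 1 *ᵥ T.br (Sum.inr s) (Sum.inr x) -
      T.A s 1 *ᵥ T.br (Sum.inr ⟨T.simple i, simple_lt hT hi⟩) (Sum.inr x) =
      T.ad (T.colA (T.simple i) 1 (Sum.inr s)) *ᵥ Pi.single (Sum.inr x) 1 := by
  have hp := simple_lt hT hi
  set p : Fin T.n := ⟨T.simple i, hp⟩ with hpdef
  -- the three cyclic terms
  have hsec : ∀ a b c : Fin T.n, T.A a 1 *ᵥ T.br (Sum.inr b) (Sum.inr c) =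
      T.termVec (T.second a b c) := fun a b c => A_mulVec_colA_root hT a.2 b.2 c
  have hneg : ∀ a b c : Fin T.n, T.A a 1 *ᵥ T.br (Sum.inr b) (Sum.inr c) =
      -(T.A a 1 *ᵥ T.br (Sum.inr c) (Sum.inr b)) := fun a b c => by
    rw [br_antisymm hT, Matrix.mulVec_neg]
  have hJ : ∀ a b : Fin T.n, b.val ≤ a.val →
      T.A p 1 *ᵥ T.br (Sum.inr a) (Sum.inr b) + T.A b 1 *ᵥ T.br (Sum.inr p) (Sum.inr a) +
        T.A a 1 *ᵥ T.br (Sum.inr b) (Sum.inr p) = 0 := by
    intro a b hab
    have h := sum_termVec_eq_zero
      (allLt_iff.mp (allLt_iff.mp (allLt_iff.mp hT.jacs i hi) a a.2) b (by omega))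
    rw [hsec, hsec, hsec]
    simpa [add_assoc] using h
  have hJ' : T.A p 1 *ᵥ T.br (Sum.inr s) (Sum.inr x) + T.A x 1 *ᵥ T.br (Sum.inr p) (Sum.inr s) +
      T.A s 1 *ᵥ T.br (Sum.inr x) (Sum.inr p) = 0 := by
    rcases le_total x.val s.val with h | h
    · exact hJ s x h
    · have := hJ x s h
      rw [hneg p x s, hneg s p x, hneg x s p] at this
      rw [← neg_eq_zero]
      rw [← this]; abel
  have hlast : T.ad (T.colA (T.simple i) 1 (Sum.inr s)) *ᵥ Pi.single (Sum.inr x) 1 =
      -(T.A x 1 *ᵥ T.br (Sum.inr p) (Sum.inr s)) := by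
    rw [ad_mulVec]
    have hb : ∀ b, T.adM b *ᵥ Pi.single (Sum.inr x) 1 = -T.br (Sum.inr x) b := by
      intro b
      rw [← br_antisymm hT]
      ext row
      simp [br]
    simp only [hb, smul_neg, Finset.sum_neg_distrib, neg_inj]
    ext row
    simp [Matrix.mulVec, dotProduct, br, adM, hpdef, A_apply, mul_comm]
  rw [hlast, hneg s x p] at *
  rw [eq_neg_iff_add_eq_zero, ← hJ']
  abel

theorem der_simple {i : ℕ} (hi : i < T.rank) : T.Der (T.A (T.simple i) 1) := by
  have hp := simple_lt hT hi
  set p : Fin T.n := ⟨T.simple i, hp⟩ with hpdef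
  intro c
  rcases c with j | s
  · have h := Hm_commutator hT j.val j.2 p
    have : (fun b => T.A (T.simple i) 1 b (Sum.inl j)) = -T.ca j p • T.rootVec p := by
      ext b; simp [A_apply, colA, hpdef]
    rw [this, map_smul, ad_rootVec hp, neg_smul, ← h, neg_sub]
    rfl
  · ext row col
    show _ = T.ad (T.colA (T.simple i) 1 (Sum.inr s)) row col
    rcases col with k | x
    · -- antisymmetry reduces to the previous case
      have h := congrFun (congrFun (Hm_commutator hT k.val k.2 p) row)
      have hs : ∀ b, T.adM b row (Sum.inl k) = -T.Hm k row b := fun b => by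
        have := congrFun (br_antisymm hT b (Sum.inl k)) row
        simpa [br, adM] using this
      simp only [Matrix.sub_apply, Matrix.mul_apply]
      simp only [show T.adM (Sum.inr s) = T.A s 1 from rfl]
      have e1 : T.ad (T.colA (T.simple i) 1 (Sum.inr s)) row (Sum.inl k) =
          -(T.Hm k * T.A p 1) row (Sum.inr s) := by
        rw [ad_apply, Matrix.sum_apply, Matrix.mul_apply, ← Finset.sum_neg_distrib]
        refine Finset.sum_congr rfl fun b _ => ?_
        simp only [Matrix.smul_apply, hs, smul_eq_mul, A_apply, hpdef]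
        ring
      have e2 : ∀ b, T.A s 1 b (Sum.inl k) = -T.ca k s * T.rootVec s b := fun b => by
        simp [A_apply, colA]
      have h' := h (Sum.inr s)
      simp only [Matrix.sub_apply, Matrix.smul_apply, smul_eq_mul] at h'
      rw [e1]
      have e3 : (∑ b, T.A (T.simple i) 1 row b * T.A s 1 b (Sum.inl k)) =
          -T.ca k s * T.A p 1 row (Sum.inr s) := by
        rw [Finset.sum_eq_single (Sum.inr s)]
        · simp [e2, rootVec, hpdef, mul_comm]
        · intro b _ hb
          rw [e2, rootVec_eq s.2, Pi.single_eq_of_ne hb]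
          simp
        · simp
      have e4 : (∑ b, T.A s 1 row b * T.A (T.simple i) 1 b (Sum.inl k)) =
          -T.ca k p * T.A s 1 row (Sum.inr p) := by
        rw [Finset.sum_eq_single (Sum.inr p)]
        · simp [A_apply, colA, rootVec, hpdef, mul_comm]
        · intro b _ hb
          rw [show T.A (T.simple i) 1 b (Sum.inl k) = -T.ca k p * T.rootVec p b by
            simp [A_apply, colA, hpdef], rootVec_eq p.2, Pi.single_eq_of_ne hb]
          simp
        · simp
      have e5 : T.A s 1 row (Sum.inr p) = -T.A p 1 row (Sum.inr s) :=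
        congrFun (br_antisymm hT (Sum.inr s) (Sum.inr p)) row
      have e6 : (T.A p 1 * T.Hm k) row (Sum.inr s) = T.A p 1 row (Sum.inr s) * T.ca k s := by
        simp [Hm, Matrix.mul_diagonal]
      rw [e3, e4, e5]
      linarith [h', e6]
    · have hj := congrFun (jacobi_simple hT hi s x) row
      simp only [Pi.sub_apply, Matrix.mulVec, dotProduct, br, adM] at hj
      simp only [Matrix.sub_apply, Matrix.mul_apply, show T.adM (Sum.inr s) = T.A s 1 from rfl]
      rw [show (∑ b, T.A (T.simple i) 1 row b * T.A s 1 b (Sum.inr x)) -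
        (∑ b, T.A s 1 row b * T.A (T.simple i) 1 b (Sum.inr x)) = _ from hj]
      rw [Finset.sum_eq_single (Sum.inr x : T.I)]
      · rw [Pi.single_eq_same, mul_one]
      · intro b _ hb; rw [Pi.single_eq_of_ne hb, mul_zero]
      · simp

/-- The involution `e_r ↦ -e_{-r}`, `h ↦ -h`. -/
def negI (T : Tbl) : T.I → T.I
  | Sum.inl i => Sum.inl i
  | Sum.inr s => Sum.inr ⟨T.neg s.val, neg_lt' s.2⟩

omit hT in
theorem negI_negI (c : T.I) : T.negI (T.negI c) = c := by
  rcases c with i | s
  · rfl
  · simp [negI, neg_neg' s.2]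

theorem A_one_negI {r : ℕ} (hr : r < T.n) (row col : T.I) :
    T.A (T.neg r) 1 (T.negI row) (T.negI col) = -T.A r 1 row col := by
  have hn := neg_lt' hr
  simp only [A_apply]
  rcases col with j | s
  · rcases row with k | v
    · simp [negI, colA, rootVec]
    · have : (T.neg v.val = T.neg r) ↔ v.val = r := by
        constructor
        · intro e; rw [← neg_neg' v.2, e, neg_neg' hr]
        · rintro rfl; rfl
      simp only [negI, colA, if_true, rootVec, Pi.smul_apply, Sum.elim_inr, this, ca_neg hT hr j.2]
      split <;> simp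
  · simp only [negI]
    by_cases h : s.val = T.neg r
    · have hs' : T.neg s.val = r := by rw [h, neg_neg' hr]
      have hne : s.val ≠ r := by rw [h]; exact neg_ne hr
      have hne' : r ≠ T.neg r := (neg_ne hr).symm
      simp only [colA, if_neg hne, if_pos h, hs', neg_neg' hr, if_neg hne', if_true]
      rcases row with k | v
      · simp [negI, coVec, cv_neg hT hr k.2]
      · simp [negI, coVec]
    · have h' : (⟨T.neg s.val, neg_lt' s.2⟩ : Fin T.n).val ≠ T.neg (T.neg r) := fun e => h (by
        simp only at e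
        rw [neg_neg' hr] at e
        rw [← neg_neg' s.2, e])
      rw [colA_one hT hn _ h', colA_one hT hr s h]
      cases hs : T.sum? r s.val with
      | none => simp [(sum?_none hT hr s.2 hs).2, optVec]
      | some p =>
        obtain ⟨u, N⟩ := p
        have hu := sum?_lt hT hr s.2 hs
        rw [sum?_negneg hT hr s.2 hs]
        rcases row with k | v
        · simp [optVec, negI, rootVec]
        · have : (T.neg v.val = T.neg u) ↔ v.val = u := by
            constructor
            · intro e; rw [← neg_neg' v.2, e, neg_neg' hu]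
            · rintro rfl; rfl
          simp only [optVec, negI, rootVec, Pi.smul_apply, Sum.elim_inr, this]
          split <;> simp

theorem adM_negI (c row col : T.I) :
    T.adM (T.negI c) (T.negI row) (T.negI col) = -T.adM c row col := by
  rcases c with i | s
  · simp only [negI, adM, Hm]
    rcases row with k | v <;> rcases col with j | w
    · simp [Matrix.diagonal]
    · simp [Matrix.diagonal]
    · simp [Matrix.diagonal]
    · by_cases h : v = w
      · subst h; simp [ca_neg hT v.2 i.2]
      · have : (⟨T.neg v.val, neg_lt' v.2⟩ : Fin T.n) ≠ ⟨T.neg w.val, neg_lt' w.2⟩ := by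
          intro e; apply h; apply Fin.ext
          rw [← neg_neg' v.2, Fin.mk.inj e, neg_neg' w.2]
        simp [this, h]
  · exact A_one_negI hT s.2 row col

theorem der_neg {r : ℕ} (hr : r < T.n) (h : T.Der (T.A r 1)) : T.Der (T.A (T.neg r) 1) := by
  intro c
  obtain ⟨c, rfl⟩ : ∃ c', T.negI c' = c := ⟨T.negI c, negI_negI c⟩
  ext row col
  obtain ⟨row, rfl⟩ : ∃ c', T.negI c' = row := ⟨T.negI row, negI_negI row⟩
  obtain ⟨col, rfl⟩ : ∃ c', T.negI c' = col := ⟨T.negI col, negI_negI col⟩
  let e : T.I ≃ T.I := ⟨T.negI, T.negI, negI_negI, negI_negI⟩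
  have hsum : ∀ f : T.I → ℤ, ∑ b, f b = ∑ b, f (T.negI b) := fun f =>
    (e.sum_comp f).symm
  have h0 := congrFun (congrFun (h c) row) col
  simp only [Matrix.sub_apply, Matrix.mul_apply, ad_apply, Matrix.sum_apply,
    Matrix.smul_apply, smul_eq_mul] at h0 ⊢
  rw [hsum, hsum (fun b => T.adM (T.negI c) (T.negI row) b * _),
    hsum (fun b => T.A (T.neg r) 1 b (T.negI c) * _)]
  simp only [adM_negI hT, A_one_negI hT hr, neg_mul_neg]
  exact h0

theorem der_pos : ∀ (k : ℕ) (r : ℕ), r < T.n → T.isPos r = true → (T.ht r).toNat ≤ k →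
    T.Der (T.A r 1) := by
  intro k
  induction k with
  | zero =>
    intro r hr hp hk
    have := ht_pos hT hr hp
    omega
  | succ k ih =>
    intro r hr hp hk
    obtain ⟨i, hi, h | ⟨r', N, N', hs, hp', hlt, hs'⟩⟩ := exists_gen hT hr hp
    · subst h; exact der_simple hT hi
    · have hpi := simple_lt hT hi
      have hr' := sum?_lt hT (neg_lt' hpi) hr hs
      have hd' := ih r' hr' hp' (by
        have := ht_pos hT hr' hp'
        omega)
      have hne : r' ≠ T.neg (T.simple i) := fun e => by
        have h1 := simple_pos hT hi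
        rw [e, isPos_neg hpi, h1] at hp'
        exact absurd hp' (by decide)
      have hcom := (der_simple hT hi) (Sum.inr ⟨r', hr'⟩)
      have hcol : (fun b => T.A (T.simple i) 1 b (Sum.inr ⟨r', hr'⟩)) = N' • T.rootVec r := by
        have := colA_one hT hpi ⟨r', hr'⟩ hne
        rw [hs'] at this
        exact this
      rw [hcol, map_smul, ad_rootVec hr] at hcom
      have hd := (der_simple hT hi).commutator hd'
      rw [show T.A r' 1 = T.adM (Sum.inr ⟨r', hr'⟩) from rfl, hcom] at hd
      exact Der.smul_cancel (sum?_ne_zero hT hpi hr' hs') hd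

/-- Every `ad e_r` is a derivation. -/
theorem der_root {r : ℕ} (hr : r < T.n) : T.Der (T.A r 1) := by
  cases hp : T.isPos r with
  | true => exact der_pos hT _ r hr hp le_rfl
  | false =>
    have hn := neg_lt' hr
    have hpn : T.isPos (T.neg r) = true := by rw [isPos_neg hr, hp]; rfl
    have := der_neg hT hn (der_pos hT _ _ hn hpn le_rfl)
    rwa [neg_neg' hr] at this

end

end CfsgLib.Chevalley.Tbl
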