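import Cfsg.Agent.Lib.Chevalley.Facts

/-!
The integral matrices `A r k = (ad e_r)^k / k!` of a table, and the derivation property.
-/

set_option autoImplicit false

namespace CfsgLib.Chevalley.Tbl

open Matrix

variable {T : Tbl}

/-- The coordinate index set. -/
abbrev I (T : Tbl) : Type := Fin T.rank ⊕ Fin T.n

/-- The coordinate vector of the root vector `e_u`. -/
def rootVec (T : Tbl) (u : ℕ) : T.I → ℤ := Sum.elim (fun _ => 0) fun v => if v.val = u then 1 else 0

/-- The coordinate vector of the coroot `h_r`. -/
def coVec (T : Tbl) (r : ℕ) : T.I → ℤ := Sum.elim (fun i => T.cv r i) fun _ => 0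

/-- The vector of an optional multiple of a root vector. -/
def optVec (T : Tbl) : Option (ℕ × ℤ) → T.I → ℤ
  | none => 0
  | some (u, m) => m • T.rootVec u

/-- The column of `A r k`, for `k > 0`, at a coordinate. -/
def colA (T : Tbl) (r : ℕ) : ℕ → T.I → T.I → ℤ
  | 0, c => Pi.single c 1
  | k + 1, Sum.inl i => if k = 0 then -T.ca i r • T.rootVec r else 0
  | k + 1, Sum.inr s =>
    if s.val = r then 0
    else if s.val = T.neg r then
      (if k = 0 then T.coVec r else if k = 1 then -T.rootVec r else 0)
    else T.optVec (T.chain r s.val (k + 1))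

/-- `(ad e_r)^k / k!`. -/
def A (T : Tbl) (r k : ℕ) : Matrix T.I T.I ℤ := Matrix.of fun row col => T.colA r k col row

theorem A_apply (r k : ℕ) (row col : T.I) : T.A r k row col = T.colA r k col row := rfl

theorem A_zero (r : ℕ) : T.A r 0 = 1 := by
  ext row col
  rw [A_apply, colA, Matrix.one_apply, Pi.single_apply]

theorem mul_col (M N : Matrix T.I T.I ℤ) (c : T.I) :
    (fun row => (M * N) row c) = M *ᵥ fun k => N k c := by
  ext row
  simp [Matrix.mul_apply, Matrix.mulVec, dotProduct]

theorem rootVec_eq {u : ℕ} (hu : u < T.n) : T.rootVec u = Pi.single (Sum.inr ⟨u, hu⟩) 1 := by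
  ext (i | v) <;> simp [rootVec, Pi.single_apply, Fin.ext_iff]

theorem mulVec_rootVec (M : Matrix T.I T.I ℤ) {u : ℕ} (hu : u < T.n) :
    M *ᵥ T.rootVec u = fun row => M row (Sum.inr ⟨u, hu⟩) := by
  rw [rootVec_eq hu]
  ext row
  simp

theorem A_mulVec_rootVec (r k : ℕ) {u : ℕ} (hu : u < T.n) :
    T.A r k *ᵥ T.rootVec u = T.colA r k (Sum.inr ⟨u, hu⟩) := by
  rw [mulVec_rootVec _ hu]; rfl

theorem mulVec_coVec (M : Matrix T.I T.I ℤ) (b : ℕ) :
    M *ᵥ T.coVec b = ∑ i : Fin T.rank, T.cv b i • fun row => M row (Sum.inl i) := by
  ext row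
  simp [Matrix.mulVec, dotProduct, coVec, mul_comm, Fintype.sum_sum_type]

theorem list_sum_range (f : ℕ → ℤ) (n : ℕ) :
    ((List.range n).map f).sum = ∑ i : Fin n, f i := by
  rw [← List.sum_toFinset _ (List.nodup_range (n := n)), List.toFinset_range]
  exact (Finset.sum_range f).trans rfl

theorem pair_eq_sum (b r : ℕ) : T.pair b r = ∑ i : Fin T.rank, T.cv b i * T.ca i r :=
  list_sum_range (fun i => T.cv b i * T.ca i r) T.rank

/-- `x_r(t) h_b = h_b - ⟨b, r⟩ t e_r`, degree one. -/
theorem A_mulVec_coVec_one (r b : ℕ) : T.A r 1 *ᵥ T.coVec b = (-T.pair b r) • T.rootVec r := by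
  rw [mulVec_coVec, pair_eq_sum, ← Finset.sum_neg_distrib, Finset.sum_smul]
  refine Finset.sum_congr rfl fun i _ => ?_
  ext row
  simp [A_apply, colA]
  ring

theorem chain_succ (r s k : ℕ) : T.chain r s (k + 1) = T.step r (k + 1) (T.chain r s k) := rfl

theorem chain_none_mono {r s k : ℕ} (h : T.chain r s k = none) : T.chain r s (k + 1) = none := by
  rw [chain_succ, h]; rfl

section

variable (hT : T.Valid)
include hT

variable {r s : ℕ} (hr : r < T.n) (hs : s < T.n)
include hr hs

theorem chain_facts_one {u : ℕ} {m : ℤ} (h : T.chain r s 1 = some (u, m)) :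
    u < T.n ∧ u ≠ r ∧ u ≠ T.neg r := by
  rw [chain_one] at h
  exact ⟨sum?_lt hT hr hs h, sum?_ne hT hr hs h, sum?_ne_neg hT hr hs h⟩

theorem chain_bound : ∀ k u m, T.chain r s k = some (u, m) → u < T.n
  | 0, u, m, h => by simp [chain] at h; omega
  | k + 1, u, m, h => by
    cases hc : T.chain r s k with
    | none => simp [chain_none_mono hc] at h
    | some p =>
      obtain ⟨v, n'⟩ := p
      have hv := chain_bound k v n' hc
      rw [chain_succ, hc] at h
      cases hq : T.sum? r v with
      | none => simp [step, hq] at h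
      | some q =>
        simp [step, hq] at h
        exact h.1 ▸ sum?_lt hT hr hv hq

/-- The chain has length at most three, with exact divisions. -/
theorem chain_step {k u : ℕ} {m : ℤ} (hk : 1 ≤ k) (h : T.chain r s k = some (u, m)) :
    u ≠ r ∧ u ≠ T.neg r ∧ k ≤ 3 ∧
      m • T.optVec (T.sum? r u) = ((k : ℤ) + 1) • T.optVec (T.chain r s (k + 1)) := by
  have h1 : ∃ u1 N, T.sum? r s = some (u1, N) := by
    cases hc : T.sum? r s with
    | some p => exact ⟨p.1, p.2, rfl⟩
    | none =>
      exfalso
      have : ∀ j, T.chain r s (j + 1) = none := by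
        intro j
        induction j with
        | zero => rw [chain_one, hc]
        | succ j ih => exact chain_none_mono ih
      obtain ⟨j, rfl⟩ : ∃ j, k = j + 1 := ⟨k - 1, by omega⟩
      rw [this] at h; exact absurd h (by simp)
  obtain ⟨u1, N, h1⟩ := h1
  have hf := (sum?_facts hT hr hs h1).2.2.2.2.2.2.2.2.2
  have c1 : T.chain r s 1 = some (u1, N) := by rw [chain_one, h1]
  rcases (by omega : k = 1 ∨ 2 ≤ k) with rfl | hk2
  · rw [c1] at h
    obtain ⟨rfl, rfl⟩ : u1 = u ∧ N = m := by simpa using h
    refine ⟨sum?_ne hT hr hs h1, sum?_ne_neg hT hr hs h1, by norm_num, ?_⟩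
    cases hq : T.sum? r u1 with
    | none => rw [chain_succ, c1]; simp [step, hq, optVec]
    | some q =>
      obtain ⟨v, M⟩ := q
      cases h2 : T.chain r s 2 with
      | none => rw [chain_succ, c1] at h2; simp [step, hq] at h2
      | some p =>
        obtain ⟨u2, M2⟩ := p
        have hu2 : u2 = v := by rw [chain_succ, c1] at h2; simp [step, hq] at h2; exact h2.1.symm
        have e := (hf u2 M2 h2).1
        rw [hq] at e
        simp only [Option.getD_some] at e
        subst hu2
        simp only [optVec, smul_smul]
        rw [← e]; norm_num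
  · cases h2 : T.chain r s 2 with
    | none =>
      exfalso
      have : ∀ j, T.chain r s (j + 2) = none := by
        intro j
        induction j with
        | zero => exact h2
        | succ j ih => exact chain_none_mono ih
      obtain ⟨j, rfl⟩ : ∃ j, k = j + 2 := ⟨k - 2, by omega⟩
      rw [this] at h; exact absurd h (by simp)
    | some p =>
      obtain ⟨u2, M2⟩ := p
      obtain ⟨-, hn2, hnn2, hf3⟩ := hf u2 M2 h2
      rcases (by omega : k = 2 ∨ 3 ≤ k) with rfl | hk3
      · rw [h2] at h
        obtain ⟨rfl, rfl⟩ : u2 = u ∧ M2 = m := by simpa using h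
        refine ⟨hn2, hnn2, by norm_num, ?_⟩
        cases hq : T.sum? r u2 with
        | none => rw [chain_succ, h2]; simp [step, hq, optVec]
        | some q =>
          obtain ⟨v, M⟩ := q
          cases h3 : T.chain r s 3 with
          | none => rw [chain_succ, h2] at h3; simp [step, hq] at h3
          | some p3 =>
            obtain ⟨u3, M3⟩ := p3
            have hu3 : u3 = v := by rw [chain_succ, h2] at h3; simp [step, hq] at h3; exact h3.1.symm
            have e := (hf3 u3 M3 h3).1
            rw [hq] at e
            simp only [Option.getD_some] at e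
            subst hu3
            simp only [optVec, smul_smul]
            rw [← e]; norm_num
      · cases h3 : T.chain r s 3 with
        | none =>
          exfalso
          have : ∀ j, T.chain r s (j + 3) = none := by
            intro j
            induction j with
            | zero => exact h3
            | succ j ih => exact chain_none_mono ih
          obtain ⟨j, rfl⟩ : ∃ j, k = j + 3 := ⟨k - 3, by omega⟩
          rw [this] at h; exact absurd h (by simp)
        | some p3 =>
          obtain ⟨u3, M3⟩ := p3
          obtain ⟨-, hn3, hnn3, hend⟩ := hf3 u3 M3 h3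
          have h4 : T.chain r s 4 = none := by rw [chain_succ, h3]; simp [step, hend]
          rcases (by omega : k = 3 ∨ 4 ≤ k) with rfl | hk4
          · rw [h3] at h
            obtain ⟨rfl, rfl⟩ : u3 = u ∧ M3 = m := by simpa using h
            exact ⟨hn3, hnn3, le_rfl, by simp [hend, h4, optVec]⟩
          · exfalso
            have : ∀ j, T.chain r s (j + 4) = none := by
              intro j
              induction j with
              | zero => exact h4
              | succ j ih => exact chain_none_mono ih
            obtain ⟨j, rfl⟩ : ∃ j, k = j + 4 := ⟨k - 4, by omega⟩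
            rw [this] at h; exact absurd h (by simp)

end

section

variable (hT : T.Valid)
include hT

theorem chain_eq_none_self {r : ℕ} (hr : r < T.n) (k : ℕ) :
    T.chain r r (k + 1) = none ∧ T.chain r (T.neg r) (k + 1) = none := by
  induction k with
  | zero => exact ⟨by rw [chain_one, sum?_self hT hr], by rw [chain_one, sum?_neg hT hr]⟩
  | succ k ih => exact ⟨chain_none_mono ih.1, chain_none_mono ih.2⟩

/-- The column of `ad e_r` at a root vector different from `e_{-r}`. -/
theorem colA_one {r : ℕ} (hr : r < T.n) (s : Fin T.n) (hs : s.val ≠ T.neg r) :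
    T.colA r 1 (Sum.inr s) = T.optVec (T.sum? r s.val) := by
  simp only [colA, if_neg hs]
  split
  · rename_i h; rw [h, sum?_self hT hr]; rfl
  · rw [chain_one]

theorem A_one_mul (r : ℕ) (hr : r < T.n) (k : ℕ) :
    T.A r 1 * T.A r k = ((k : ℤ) + 1) • T.A r (k + 1) := by
  cases k with
  | zero => simp [A_zero]
  | succ k =>
    ext row col
    have key : T.A r 1 *ᵥ T.colA r (k + 1) col = ((k + 1 : ℕ) + 1 : ℤ) • T.colA r (k + 1 + 1) col := by
      have hn : T.neg r < T.n := neg_lt' hr
      have hroot : T.A r 1 *ᵥ T.rootVec r = 0 := by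
        rw [A_mulVec_rootVec r 1 hr]; simp [colA]
      rcases col with i | s
      · simp only [colA, Nat.succ_ne_zero, if_false, smul_zero]
        split
        · rw [Matrix.mulVec_smul, hroot, smul_zero]
        · exact Matrix.mulVec_zero _
      · simp only [colA]
        by_cases h1 : s.val = r
        · simp [h1]
        simp only [if_neg h1]
        by_cases h2 : s.val = T.neg r
        · simp only [if_pos h2, Nat.succ_ne_zero, if_false]
          rcases k with _ | k
          · simp only [if_true, A_mulVec_coVec_one, pair_self hT hr]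
            module
          · rcases k with _ | k
            · simp [Matrix.mulVec_neg, hroot]
            · simp
        simp only [if_neg h2]
        cases hc : T.chain r s.val (k + 1) with
        | none => rw [chain_none_mono hc]; simp [optVec]
        | some p =>
          obtain ⟨u, m⟩ := p
          obtain ⟨hu1, hu2, -, he⟩ := chain_step hT hr s.2 (by omega) hc
          have hu := chain_bound hT hr s.2 (k + 1) u m hc
          rw [optVec, Matrix.mulVec_smul, A_mulVec_rootVec r 1 hu, colA_one hT hr _ hu2]
          simpa using he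
    have := congrFun key row
    simp only [Matrix.mulVec, dotProduct, Pi.smul_apply] at this
    simp only [Matrix.mul_apply, A_apply, Matrix.smul_apply]
    exact this

theorem A_eq_zero {r : ℕ} (hr : r < T.n) {k : ℕ} (hk : 4 ≤ k) : T.A r k = 0 := by
  obtain ⟨j, rfl⟩ : ∃ j, k = j + 4 := ⟨k - 4, by omega⟩
  ext row col
  rw [A_apply, show j + 4 = (j + 3) + 1 from rfl]
  rcases col with i | s
  · simp [colA]
  · simp only [colA]
    split
    · simp
    split
    · simp
    · cases hc : T.chain r s.val (j + 3 + 1) with
      | none => simp [optVec]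
      | some p =>
        obtain ⟨-, -, h, -⟩ := chain_step hT hr s.2 (by omega) hc
        omega

theorem A_mul_A (r : ℕ) (hr : r < T.n) (i j : ℕ) :
    T.A r i * T.A r j = ((i + j).choose i : ℤ) • T.A r (i + j) := by
  induction i with
  | zero => simp [A_zero]
  | succ i ih =>
    have h1 : ((i : ℤ) + 1) • (T.A r (i + 1) * T.A r j) =
        ((i : ℤ) + 1) • (((i + 1 + j).choose (i + 1) : ℤ) • T.A r (i + 1 + j)) := by
      rw [← smul_mul_assoc, ← A_one_mul hT r hr i, mul_assoc, ih, mul_smul_comm,
        A_one_mul hT r hr (i + j), smul_smul, smul_smul, show i + j + 1 = i + 1 + j by omega]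
      congr 1
      have := Nat.add_one_mul_choose_eq (i + j) i
      rw [show i + j + 1 = i + 1 + j by omega] at this
      have h' : ((i + 1 + j : ℕ) : ℤ) * ((i + j).choose i : ℤ) =
          ((i + 1 + j).choose (i + 1) : ℤ) * ((i + 1 : ℕ) : ℤ) := by exact_mod_cast this
      push_cast at h' ⊢
      linarith [h']
    exact smul_right_injective _ (by omega : ((i : ℤ) + 1) ≠ 0) h1

theorem pow_A_one (r : ℕ) (hr : r < T.n) (k : ℕ) : T.A r 1 ^ k = (k.factorial : ℤ) • T.A r k := by
  induction k with
  | zero => simp [A_zero]
  | succ k ih =>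
    rw [pow_succ', ih, mul_smul_comm, A_one_mul hT r hr k, smul_smul, Nat.factorial_succ]
    push_cast; ring_nf

end

end CfsgLib.Chevalley.Tbl
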