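import Cfsg.Agent.Lib.Chevalley.RootGen

/-!
The monomial subgroup acts on the roots.
-/

set_option autoImplicit false

namespace CfsgLib.Chevalley.Tbl

open Matrix

/-- The negative of a root. -/
def negF (T : Tbl) (r : Fin T.n) : Fin T.n := ⟨T.neg r.val, neg_lt' r.2⟩

/-- The reflection in a fundamental root, as a permutation of the roots. -/
def refP (T : Tbl) (hT : T.Valid) (i : Fin T.rank) : Equiv.Perm (Fin T.n) :=
  Function.Involutive.toPerm (T.wI hT i i.2) fun s => Fin.ext (refl_refl hT i.2 s.2)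

/-- The matrix `g` permutes the root vectors up to scalars, inducing `π`. -/
structure Mono (T : Tbl) {F : Type*} [Field F] (g : GL T.I F) (π : Equiv.Perm (Fin T.n)) : Prop where
  col : ∀ (s : Fin T.n) (row : T.I), row ≠ Sum.inr (π s) → (g : Matrix T.I T.I F) row (Sum.inr s) = 0
  conj : ∀ s : Fin T.n, ∃ c : Fˣ, ∀ t : F,
    g * T.xU F s t = T.xU F (π s) ((c : F) * t) * g ∧
      g * T.xU F (T.neg s) t = T.xU F (T.neg (π s)) ((c⁻¹ : Fˣ) * t) * g
  negEq : ∀ s : Fin T.n, π (T.negF s) = T.negF (π s)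

variable {T : Tbl} {F : Type*} [Field F]

theorem negF_negF (r : Fin T.n) : T.negF (T.negF r) = r := Fin.ext (neg_neg' r.2)

theorem Mono.entry_ne {g : GL T.I F} {π : Equiv.Perm (Fin T.n)} (h : T.Mono g π) (s : Fin T.n) :
    (g : Matrix T.I T.I F) (Sum.inr (π s)) (Sum.inr s) ≠ 0 := by
  intro h0
  have hall : ∀ row, (g : Matrix T.I T.I F) row (Sum.inr s) = 0 := fun row => by
    by_cases e : row = Sum.inr (π s)
    · rw [e]; exact h0
    · exact h.col s row e
  have h1 : (((g⁻¹ : GL T.I F) : Matrix T.I T.I F) * (g : Matrix T.I T.I F)) (Sum.inr s) (Sum.inr s) = 1 := by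
    rw [← Units.val_mul, inv_mul_cancel, Units.val_one, Matrix.one_apply_eq]
  rw [Matrix.mul_apply, Finset.sum_eq_zero fun j _ => by rw [hall j, mul_zero]] at h1
  exact zero_ne_one h1

theorem Mono.unique {g : GL T.I F} {π π' : Equiv.Perm (Fin T.n)} (h : T.Mono g π)
    (h' : T.Mono g π') : π = π' := by
  refine Equiv.ext fun s => ?_
  by_contra hne
  exact h.entry_ne s (h'.col s _ fun e => hne (Sum.inr_injective e))

theorem Mono.mul {g g' : GL T.I F} {π π' : Equiv.Perm (Fin T.n)} (h : T.Mono g π)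
    (h' : T.Mono g' π') : T.Mono (g * g') (π * π') where
  col s row hne := by
    rw [Units.val_mul, Matrix.mul_apply, Finset.sum_eq_zero fun j _ => ?_]
    by_cases hj : j = Sum.inr (π' s)
    · subst hj
      rw [h.col (π' s) row hne, zero_mul]
    · rw [h'.col s j hj, mul_zero]
  conj s := by
    obtain ⟨c, hc⟩ := h.conj (π' s)
    obtain ⟨c', hc'⟩ := h'.conj s
    refine ⟨c * c', fun t => ⟨?_, ?_⟩⟩
    · rw [mul_assoc, (hc' t).1, ← mul_assoc, (hc _).1, mul_assoc, ← mul_assoc (c : F), ← Units.val_mul]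
      rfl
    · rw [mul_assoc, (hc' t).2, ← mul_assoc, (hc _).2, mul_assoc, ← mul_assoc _ ((c'⁻¹ : Fˣ) : F),
        ← Units.val_mul, _root_.mul_inv]
      rfl
  negEq s := by
    show π (π' (T.negF s)) = T.negF (π (π' s))
    rw [h'.negEq, h.negEq]

theorem Mono.inv {g : GL T.I F} {π : Equiv.Perm (Fin T.n)} (h : T.Mono g π) : T.Mono g⁻¹ π⁻¹ where
  col v row hne := by
    have h1 : (((g⁻¹ : GL T.I F) : Matrix T.I T.I F) * (g : Matrix T.I T.I F)) row
        (Sum.inr (π⁻¹ v)) = 0 := by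
      rw [← Units.val_mul, inv_mul_cancel, Units.val_one, Matrix.one_apply_ne hne]
    rw [Matrix.mul_apply, Finset.sum_eq_single (Sum.inr (π (π⁻¹ v)))] at h1
    · rcases mul_eq_zero.mp h1 with h2 | h2
      · simpa using h2
      · exact absurd h2 (h.entry_ne _)
    · intro j _ hj
      rw [h.col _ j hj, mul_zero]
    · simp
  conj v := by
    obtain ⟨c, hc⟩ := h.conj (π⁻¹ v)
    refine ⟨c⁻¹, fun t => ⟨?_, ?_⟩⟩
    · have e := (hc (((c⁻¹ : Fˣ) : F) * t)).1
      rw [← mul_assoc (c : F), ← Units.val_mul, mul_inv_cancel, Units.val_one, one_mul] at e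
      rw [show π (π⁻¹ v) = v from π.apply_symm_apply v] at e
      rw [eq_mul_inv_iff_mul_eq, mul_assoc, inv_mul_eq_iff_eq_mul]
      exact e.symm
    · have e := (hc ((c : F) * t)).2
      rw [← mul_assoc _ (c : F), ← Units.val_mul, inv_mul_cancel, Units.val_one, one_mul] at e
      rw [show π (π⁻¹ v) = v from π.apply_symm_apply v] at e
      rw [inv_inv, eq_mul_inv_iff_mul_eq, mul_assoc, inv_mul_eq_iff_eq_mul]
      exact e.symm
  negEq v := by
    apply π.injective
    rw [h.negEq]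
    simp

theorem Mono.one : T.Mono (1 : GL T.I F) 1 where
  col s row hne := by rw [Units.val_one]; exact Matrix.one_apply_ne hne
  conj s := ⟨1, fun t => by simp⟩
  negEq _ := rfl

variable (hT : T.Valid)
include hT

theorem mono_dU {χ : ℕ → Fˣ} (hχ : T.IsChar χ) : T.Mono (T.dU χ : GL T.I F) 1 where
  col s row hne := by rw [dU_val]; exact Matrix.diagonal_apply_ne _ hne
  conj s := ⟨χ s, fun t => ⟨dU_conj_X hT hχ s.2 t, by
    rw [← hχ.neg _ s.2]; exact dU_conj_X hT hχ (neg_lt' s.2) t⟩⟩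
  negEq _ := rfl

theorem mono_nU_simple (i : Fin T.rank) :
    T.Mono (T.nU F (T.simple i) 1) (T.refP hT i) where
  col s row hne := by
    rw [nU_simple_inr hT i.2 row s]
    exact if_neg hne
  conj s := by
    rcases eta_sq hT i.2 s.2 with he | he
    · refine ⟨1, fun t => ⟨?_, ?_⟩⟩
      · rw [nU_simple_xU hT i.2 s.2, he]; simp; rfl
      · have hn : T.eta i (T.neg s) = 1 := by
          have := eta_neg hT i.2 s.2; rw [he, one_mul] at this; exact this
        rw [nU_simple_xU hT i.2 (neg_lt' s.2), hn, refl_neg hT i.2 s.2]; simp; rfl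
    · refine ⟨-1, fun t => ⟨?_, ?_⟩⟩
      · rw [nU_simple_xU hT i.2 s.2, he]; simp; rfl
      · have hn : T.eta i (T.neg s) = -1 := by
          have := eta_neg hT i.2 s.2; rw [he] at this; omega
        rw [nU_simple_xU hT i.2 (neg_lt' s.2), hn, refl_neg hT i.2 s.2]; simp; rfl
  negEq s := Fin.ext (refl_neg hT i.2 s.2)

end CfsgLib.Chevalley.Tbl
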