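import Cfsg.Agent.Lib.Chevalley.Group

/-!
The elements `n_p` for fundamental roots, as signed permutation matrices.
-/

set_option autoImplicit false

namespace CfsgLib.Chevalley.Tbl

open Matrix

variable {T : Tbl} {F : Type*} [Field F]

theorem castM_int (M : Matrix T.I T.I ℤ) : castM ℤ M = M := by
  ext i j; simp [castM_apply]

theorem X_mulVec (r : ℕ) (t : ℤ) (v : T.I → ℤ) :
    (X ℤ r t : Matrix T.I T.I ℤ) *ᵥ v =
      v + t • (T.A r 1 *ᵥ v) + t ^ 2 • (T.A r 2 *ᵥ v) + t ^ 3 • (T.A r 3 *ᵥ v) := by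
  simp only [X, Finset.sum_range_succ, Finset.sum_range_zero, zero_add, castM_int, A_zero,
    Matrix.add_mulVec, Matrix.smul_mulVec, Matrix.one_mulVec, pow_zero, pow_one, one_smul]

theorem termVec_mul (r : ℕ) (a m : ℤ) : T.termVec (.rt r (a * m)) = a • T.termVec (.rt r m) := by
  simp only [termVec]; rw [mul_smul]

/-- The index of the reflected root. -/
def wI (T : Tbl) (hT : T.Valid) (i : ℕ) (hi : i < T.rank) (s : Fin T.n) : Fin T.n :=
  ⟨T.refl i s.val, by
    have := allLt_iff.mp hT.ns i hi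
    simp only [Bool.and_eq_true, chkN, allLt_iff] at this
    exact Nat.le_of_ble_eq_true (this.1.1.2 s s.2).1.1.1.1.2⟩

variable (hT : T.Valid)
include hT

theorem A_mulVec_coVec_high {r b k : ℕ} (hk : 2 ≤ k) : T.A r k *ᵥ T.coVec b = 0 := by
  obtain ⟨j, rfl⟩ : ∃ j, k = j + 2 := ⟨k - 2, by omega⟩
  rw [mulVec_coVec]
  refine Finset.sum_eq_zero fun i _ => ?_
  ext row
  simp [A_apply, colA]

theorem termVec_actT {r : ℕ} (hr : r < T.n) (t : ℤ) {x : Term}
    (hx : ∀ v m, x = .rt v m → v < T.n) :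
    ((T.actT r t x).map T.termVec).sum = (X ℤ r t : Matrix T.I T.I ℤ) *ᵥ T.termVec x := by
  rcases x with _ | ⟨s, m⟩ | ⟨b, m⟩
  · simp [actT, termVec]
  · have hs := hx s m rfl
    simp only [termVec, Matrix.mulVec_smul, X_mulVec, A_mulVec_rootVec _ _ hs, actT]
    by_cases h1 : s = r
    · subst h1
      simp [Nat.beq_refl, termVec, colA]
    have b1 : Nat.beq s r = false := by
      rw [Bool.eq_false_iff]; exact fun e => h1 (Nat.eq_of_beq_eq_true e)
    simp only [b1, cond_false, colA, if_neg h1]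
    by_cases h2 : s = T.neg r
    · subst h2
      simp only [Nat.beq_refl, cond_true, if_true]
      simp [termVec, -zsmul_eq_mul]
      module
    have b2 : Nat.beq s (T.neg r) = false := by
      rw [Bool.eq_false_iff]; exact fun e => h2 (Nat.eq_of_beq_eq_true e)
    simp only [b2, cond_false, if_neg h2, List.map_cons, List.sum_cons]
    rcases e1 : T.chain r s 1 with _ | ⟨u1, m1⟩
    · simp [List.filterMap, -zsmul_eq_mul, e1, chain_none_mono e1, chain_none_mono (chain_none_mono e1), termVec,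
        optVec]
    rcases e2 : T.chain r s 2 with _ | ⟨u2, m2⟩
    · simp [List.filterMap, -zsmul_eq_mul, e1, e2, chain_none_mono e2, termVec, optVec]
      module
    rcases e3 : T.chain r s 3 with _ | ⟨u3, m3⟩
    · simp [List.filterMap, -zsmul_eq_mul, e1, e2, e3, termVec, optVec]
      module
    · simp [List.filterMap, -zsmul_eq_mul, e1, e2, e3, termVec, optVec]
      module
  · simp [actT, termVec, -zsmul_eq_mul, Matrix.mulVec_smul, X_mulVec, A_mulVec_coVec_one,
      A_mulVec_coVec_high hT (r := r) (b := b) (k := 2) le_rfl,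
      A_mulVec_coVec_high hT (r := r) (b := b) (k := 3) (by norm_num)]
    module

theorem actT_lt {r : ℕ} (hr : r < T.n) (t : ℤ) {x : Term} (hx : ∀ v m, x = .rt v m → v < T.n) :
    ∀ y ∈ T.actT r t x, ∀ v m, y = Term.rt v m → v < T.n := by
  intro y hy v m hv
  subst hv
  rcases x with _ | ⟨s, k⟩ | ⟨b, k⟩
  · simp [actT] at hy
  · have hs := hx s k rfl
    simp only [actT] at hy
    rcases hb : Nat.beq s r with _ | _ <;> simp only [hb, cond_true, cond_false] at hy
    · rcases hb' : Nat.beq s (T.neg r) with _ | _ <;> simp only [hb', cond_true, cond_false] at hy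
      · simp at hy
        rcases hy with ⟨rfl, -⟩ | ⟨w, hw, -⟩ | ⟨w, hw, -⟩ | ⟨w, hw, -⟩
        · exact hs
        all_goals exact chain_bound hT hr hs _ _ _ hw
      · simp at hy
        rcases hy with ⟨rfl, -⟩ | ⟨rfl, -⟩
        · exact hs
        · exact hr
    · simp at hy; obtain ⟨rfl, -⟩ := hy; exact hs
  · simp [actT] at hy
    obtain ⟨rfl, -⟩ := hy; exact hr

/-- `x_p(1) x_{-p}(-1) x_p(1)` over the integers. -/
def NZ (T : Tbl) (i : ℕ) : Matrix T.I T.I ℤ :=
  X ℤ (T.simple i) 1 * X ℤ (T.neg (T.simple i)) (-1) * X ℤ (T.simple i) 1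

theorem termVec_flatMap {l : List Term} (f : Term → List Term) (M : Matrix T.I T.I ℤ)
    (h : ∀ x ∈ l, ((f x).map T.termVec).sum = M *ᵥ T.termVec x) :
    ((l.flatMap f).map T.termVec).sum = M *ᵥ (l.map T.termVec).sum := by
  induction l with
  | nil => simp
  | cons a l ih =>
    rw [List.flatMap_cons, List.map_append, List.sum_append, h a (by simp),
      ih (fun x hx => h x (by simp [hx])), List.map_cons, List.sum_cons, Matrix.mulVec_add]

theorem termVec_actN {i : ℕ} (hi : i < T.rank) {x : Term} (hx : ∀ v m, x = .rt v m → v < T.n) :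
    ((T.actN i x).map T.termVec).sum = T.NZ i *ᵥ T.termVec x := by
  have hp := simple_lt hT hi
  have hn := neg_lt' hp
  have hl1 : ∀ y ∈ T.actT (T.simple i) 1 x, ∀ v m, y = Term.rt v m → v < T.n := actT_lt hT hp 1 hx
  have hl2 : ∀ y ∈ (T.actT (T.simple i) 1 x).flatMap (T.actT (T.neg (T.simple i)) (-1)),
      ∀ v m, y = Term.rt v m → v < T.n := by
    intro y hy
    obtain ⟨z, hz, hyz⟩ := List.mem_flatMap.mp hy
    exact actT_lt hT hn (-1) (hl1 z hz) y hyz
  unfold actN
  rw [termVec_flatMap hT _ _ fun y hy => termVec_actT hT hp 1 (hl2 y hy),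
    termVec_flatMap hT _ _ fun y hy => termVec_actT hT hn (-1) (hl1 y hy),
    termVec_actT hT hp 1 hx, Matrix.mulVec_mulVec, Matrix.mulVec_mulVec]
  rfl

section

variable {i : ℕ} (hi : i < T.rank)
include hi

theorem chkN_facts :
    (∀ j < T.rank, T.termsZero (.ht (T.simple j) (-1) :: .ht (T.simple i) (T.ca j (T.simple i)) ::
      T.actN i (.ht (T.simple j) 1)) = true) ∧
    (∀ s < T.n, T.termsZero (.rt (T.refl i s) (-T.eta i s) :: T.actN i (.rt s 1)) = true ∧
      (T.eta i s = 1 ∨ T.eta i s = -1) ∧ T.eta i s * T.eta i (T.neg s) = 1 ∧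
      T.eta i s * T.eta i (T.refl i s) = (-1) ^ (T.ca i s).natAbs ∧
      T.refl i s < T.n ∧ T.refl i (T.refl i s) = s ∧ T.refl i (T.neg s) = T.neg (T.refl i s) ∧
      (∀ j < T.rank, T.co (T.refl i s) j = T.co s j - (if j = i then T.ca i s else 0) ∧
        T.cv (T.refl i s) j = T.cv s j - (if j = i then T.pair s (T.simple i) else 0)) ∧
      (T.isPos s = true → s ≠ T.simple i → T.isPos (T.refl i s) = true)) ∧
    T.eta i (T.simple i) = -1 := by
  have h : T.chkN i = true := by
    have := allLt_iff.mp hT.ns i hi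
    simp only [Bool.and_eq_true] at this
    exact this.1
  simp only [chkN, Bool.and_eq_true, allLt_iff, decide_eq_true_eq] at h
  refine ⟨h.1.1, fun s hs => ?_, h.2⟩
  obtain ⟨⟨⟨⟨⟨⟨⟨⟨a, b⟩, c⟩, d⟩, e⟩, f⟩, g⟩, j⟩, k⟩ := h.1.2 s hs
  refine ⟨a, b, c, d, Nat.le_of_ble_eq_true e, Nat.eq_of_beq_eq_true f, Nat.eq_of_beq_eq_true g,
    fun x hx => ?_, fun hp hne => ?_⟩
  · obtain ⟨j1, j2⟩ := j x hx
    by_cases e : x = i
    · subst e
      rw [Nat.beq_refl] at j1 j2
      simp only [cond_true] at j1 j2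
      simp only [if_true]
      exact ⟨j1, j2⟩
    · have hb : Nat.beq x i = false := by
        rw [Bool.eq_false_iff]; exact fun he => e (Nat.eq_of_beq_eq_true he)
      rw [hb] at j1 j2
      simp only [cond_false] at j1 j2
      simp only [if_neg e]
      exact ⟨j1, j2⟩
  · have hb : Nat.beq s (T.simple i) = false := by
      rw [Bool.eq_false_iff]; exact fun he => hne (Nat.eq_of_beq_eq_true he)
    simpa [hp, hb] using k

theorem eta_sq {s : ℕ} (hs : s < T.n) : T.eta i s = 1 ∨ T.eta i s = -1 :=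
  ((chkN_facts hT hi).2.1 s hs).2.1
theorem eta_neg {s : ℕ} (hs : s < T.n) : T.eta i s * T.eta i (T.neg s) = 1 :=
  ((chkN_facts hT hi).2.1 s hs).2.2.1
theorem eta_refl {s : ℕ} (hs : s < T.n) :
    T.eta i s * T.eta i (T.refl i s) = (-1) ^ (T.ca i s).natAbs :=
  ((chkN_facts hT hi).2.1 s hs).2.2.2.1
theorem eta_simple : T.eta i (T.simple i) = -1 := (chkN_facts hT hi).2.2
theorem refl_lt {s : ℕ} (hs : s < T.n) : T.refl i s < T.n :=
  ((chkN_facts hT hi).2.1 s hs).2.2.2.2.1
theorem refl_refl {s : ℕ} (hs : s < T.n) : T.refl i (T.refl i s) = s :=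
  ((chkN_facts hT hi).2.1 s hs).2.2.2.2.2.1
theorem refl_neg {s : ℕ} (hs : s < T.n) : T.refl i (T.neg s) = T.neg (T.refl i s) :=
  ((chkN_facts hT hi).2.1 s hs).2.2.2.2.2.2.1
theorem co_refl {s : ℕ} (hs : s < T.n) {j : ℕ} (hj : j < T.rank) :
    T.co (T.refl i s) j = T.co s j - (if j = i then T.ca i s else 0) :=
  (((chkN_facts hT hi).2.1 s hs).2.2.2.2.2.2.2.1 j hj).1
theorem cv_refl {s : ℕ} (hs : s < T.n) {j : ℕ} (hj : j < T.rank) :
    T.cv (T.refl i s) j = T.cv s j - (if j = i then T.pair s (T.simple i) else 0) :=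
  (((chkN_facts hT hi).2.1 s hs).2.2.2.2.2.2.2.1 j hj).2
theorem isPos_refl {s : ℕ} (hs : s < T.n) (hp : T.isPos s = true) (hne : s ≠ T.simple i) :
    T.isPos (T.refl i s) = true :=
  ((chkN_facts hT hi).2.1 s hs).2.2.2.2.2.2.2.2 hp hne

omit hi in
theorem refl_simple_self (i : ℕ) : T.refl i (T.simple i) = T.neg (T.simple i) := by
  simp [refl]

theorem NZ_rootVec {s : ℕ} (hs : s < T.n) :
    T.NZ i *ᵥ T.rootVec s = T.eta i s • T.rootVec (T.refl i s) := by
  have h := sum_termVec_eq_zero ((chkN_facts hT hi).2.1 s hs).1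
  rw [List.map_cons, List.sum_cons,
    termVec_actN hT hi (x := .rt s 1) (fun v m e => by injection e with e1; omega)] at h
  simp only [termVec, one_smul, neg_smul] at h
  exact (neg_add_eq_zero.mp h).symm

theorem NZ_coVec {j : ℕ} (hj : j < T.rank) :
    T.NZ i *ᵥ T.coVec (T.simple j) =
      T.coVec (T.simple j) - T.ca j (T.simple i) • T.coVec (T.simple i) := by
  have h := sum_termVec_eq_zero ((chkN_facts hT hi).1 j hj)
  rw [List.map_cons, List.map_cons, List.sum_cons, List.sum_cons,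
    termVec_actN hT hi (x := .ht (T.simple j) 1) (fun v m e => by cases e)] at h
  simp only [termVec, one_smul, neg_smul] at h
  rw [← sub_eq_zero, ← h]
  module

omit hi in
theorem coVec_simple {j : ℕ} (hj : j < T.rank) :
    T.coVec (T.simple j) = Pi.single (Sum.inl ⟨j, hj⟩) 1 := by
  ext (k | v)
  · simp [coVec, cv_simple hT hj k.2, Pi.single_apply, Fin.ext_iff]
  · simp [coVec]

theorem NZ_apply_inr (row : T.I) (s : Fin T.n) :
    T.NZ i row (Sum.inr s) = T.eta i s • T.rootVec (T.refl i s) row := by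
  have := congrFun (NZ_rootVec hT hi s.2) row
  rw [mulVec_rootVec _ s.2] at this
  simpa using this

theorem NZ_apply_inl (row : T.I) (j : Fin T.rank) :
    T.NZ i row (Sum.inl j) = (T.coVec (T.simple j) - T.ca j (T.simple i) • T.coVec (T.simple i)) row := by
  have := congrFun (NZ_coVec hT hi j.2) row
  rw [coVec_simple hT j.2] at this ⊢
  simpa using this

theorem nU_simple_val :
    ((T.nU F (T.simple i) 1 : GL T.I F) : Matrix T.I T.I F) = castM F (T.NZ i) := by
  have hp := simple_lt hT hi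
  rw [nU, Units.val_mul, Units.val_mul, xU_val hT hp, xU_val hT (neg_lt' hp), NZ]
  rw [castM, map_mul, map_mul, map_X, map_X]
  simp

theorem nU_simple_inr (row : T.I) (s : Fin T.n) :
    ((T.nU F (T.simple i) 1 : GL T.I F) : Matrix T.I T.I F) row (Sum.inr s) =
      if row = Sum.inr (T.wI hT i hi s) then (T.eta i s : F) else 0 := by
  rw [nU_simple_val hT hi, castM_apply, NZ_apply_inr hT hi row s, rootVec_eq (refl_lt hT hi s.2)]
  simp only [Pi.single_apply, smul_eq_mul, mul_ite, mul_one, mul_zero]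
  show ((if row = Sum.inr ⟨T.refl i s, refl_lt hT hi s.2⟩ then T.eta i s else 0 : ℤ) : F) =
    if row = Sum.inr ⟨T.refl i s, refl_lt hT hi s.2⟩ then (T.eta i s : F) else 0
  split <;> simp

theorem nU_simple_inl (row : T.I) (j : Fin T.rank) :
    ((T.nU F (T.simple i) 1 : GL T.I F) : Matrix T.I T.I F) row (Sum.inl j) =
      (if row = Sum.inl j then 1 else 0) -
        (if row = Sum.inl ⟨i, hi⟩ then (T.ca j (T.simple i) : F) else 0) := by
  rw [nU_simple_val hT hi, castM_apply, NZ_apply_inl hT hi row j, coVec_simple hT j.2,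
    coVec_simple hT hi]
  simp only [Pi.sub_apply, Pi.smul_apply, Pi.single_apply, smul_eq_mul, mul_ite, mul_one, mul_zero]
  push_cast
  split_ifs <;> simp

/-- `n_p` conjugates a diagonal matrix to the reflected one. -/
theorem nU_simple_dU {χ : ℕ → Fˣ} :
    T.nU F (T.simple i) 1 * T.dU χ = T.dU (fun s => χ (T.refl i s)) * T.nU F (T.simple i) 1 := by
  apply Units.ext
  rw [Units.val_mul, Units.val_mul, dU_val, dU_val]
  ext row col
  rw [Matrix.mul_diagonal, Matrix.diagonal_mul]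
  rcases col with j | s
  · rw [nU_simple_inl hT hi]
    rcases row with k | v
    · simp [scale]
    · simp
  · rw [nU_simple_inr hT hi]
    split
    · rename_i h
      subst h
      simp [scale, wI, refl_refl hT hi s.2, mul_comm]
    · simp

/-- The scaled sign. -/
theorem NZ_conj_A_one {s : ℕ} (hs : s < T.n) :
    T.NZ i * T.A s 1 = T.eta i s • (T.A (T.refl i s) 1 * T.NZ i) := by
  have hp := simple_lt hT hi
  have hn := neg_lt' hp
  set M : Matrix T.I T.I ℤ := X ℤ (T.simple i) (-1) * X ℤ (T.neg (T.simple i)) 1 *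
    X ℤ (T.simple i) (-1) with hM
  have hMN : M * T.NZ i = 1 := by
    have a : (X ℤ (T.simple i) (-1) * X ℤ (T.simple i) 1 : Matrix T.I T.I ℤ) = 1 := by
      rw [X_mul hT ℤ hp, neg_add_cancel, X_zero]
    have b : (X ℤ (T.neg (T.simple i)) 1 * X ℤ (T.neg (T.simple i)) (-1) : Matrix T.I T.I ℤ) = 1 :=
      X_mul_X_neg hT ℤ hn 1
    rw [hM, NZ]
    calc (X ℤ (T.simple i) (-1) * X ℤ (T.neg (T.simple i)) 1 * X ℤ (T.simple i) (-1)) *
          (X ℤ (T.simple i) 1 * X ℤ (T.neg (T.simple i)) (-1) * X ℤ (T.simple i) 1 :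
            Matrix T.I T.I ℤ)
        = X ℤ (T.simple i) (-1) * (X ℤ (T.neg (T.simple i)) 1 *
          (X ℤ (T.simple i) (-1) * X ℤ (T.simple i) 1) * X ℤ (T.neg (T.simple i)) (-1)) *
          X ℤ (T.simple i) 1 := by noncomm_ring
      _ = 1 := by rw [a, mul_one, b, mul_one, a]
  have hconj : T.NZ i * adR ℤ (T.rootVec s) * M = adR ℤ (T.NZ i *ᵥ T.rootVec s) := by
    rw [NZ, ← Matrix.mulVec_mulVec, ← Matrix.mulVec_mulVec, ← X_conj_adR hT ℤ hp,
      ← X_conj_adR hT ℤ hn, ← X_conj_adR hT ℤ hp, hM]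
    rw [show (- -1 : ℤ) = 1 by norm_num]
    noncomm_ring
  have hAd : ∀ u, u < T.n → adR (T := T) ℤ (T.rootVec u) = T.A u 1 := fun u hu => by
    have := adR_cast (T := T) ℤ (T.rootVec u)
    simpa [castM_int, ad_rootVec hu] using this
  rw [hAd s hs, NZ_rootVec hT hi hs, map_smul, hAd _ (refl_lt hT hi hs)] at hconj
  calc T.NZ i * T.A s 1 = T.NZ i * T.A s 1 * (M * T.NZ i) := by rw [hMN, mul_one]
    _ = (T.NZ i * T.A s 1 * M) * T.NZ i := by noncomm_ring
    _ = T.eta i s • (T.A (T.refl i s) 1 * T.NZ i) := by rw [hconj, smul_mul_assoc]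

theorem NZ_conj_A {s : ℕ} (hs : s < T.n) (k : ℕ) :
    T.NZ i * T.A s k = T.eta i s ^ k • (T.A (T.refl i s) k * T.NZ i) := by
  induction k with
  | zero => simp [A_zero]
  | succ k ih =>
    apply smul_right_injective _ (by omega : ((k : ℤ) + 1) ≠ 0)
    show ((k : ℤ) + 1) • _ = ((k : ℤ) + 1) • _
    rw [← mul_smul_comm, ← A_one_mul hT s hs k, ← mul_assoc, NZ_conj_A_one hT hi hs,
      smul_mul_assoc, mul_assoc, ih, mul_smul_comm, smul_smul, ← mul_assoc,
      A_one_mul hT _ (refl_lt hT hi hs) k, smul_mul_assoc, smul_smul, smul_smul]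
    congr 1
    rw [pow_succ]; ring

/-- `n_p x_s(t) n_p⁻¹ = x_{w s}(± t)`. -/
theorem nU_simple_xU {s : ℕ} (hs : s < T.n) (t : F) :
    T.nU F (T.simple i) 1 * T.xU F s t =
      T.xU F (T.refl i s) ((T.eta i s : F) * t) * T.nU F (T.simple i) 1 := by
  apply Units.ext
  rw [Units.val_mul, Units.val_mul, nU_simple_val hT hi, xU_val hT hs, xU_val hT (refl_lt hT hi hs),
    X, X, Finset.mul_sum, Finset.sum_mul]
  refine Finset.sum_congr rfl fun k _ => ?_
  rw [mul_smul_comm, smul_mul_assoc, ← map_mul, ← map_mul, NZ_conj_A hT hi hs k, castM_smul,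
    smul_smul, mul_pow]
  push_cast
  rw [mul_comm]

end

end CfsgLib.Chevalley.Tbl
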