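import Cfsg.Agent.Lib.Chevalley.CommCheck

/-!
Certificates used for the presented group.
-/

set_option autoImplicit false

namespace CfsgLib.Chevalley.Tbl

variable (T : Tbl)

/-- A linear key. -/
def key (r : ℕ) : ℤ := ((List.range T.rank).map fun i => T.co r i * (64 : ℤ) ^ (T.rank - 1 - i)).sum

/-- The roots are listed by increasing key. -/
def chkSorted : Bool :=
  allLt (fun k => !(Nat.blt (k + 1) T.n) || decide (T.key k < T.key (k + 1))) T.n

/-- The root `w_k(p_i)` is split off by the commutator of `p_i` and `p_k`. -/
def splitAt (i k : ℕ) : Bool :=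
  let u := T.refl k (T.simple i)
  !(Nat.beq u (T.simple i)) && !(Nat.beq k i) &&
  match (T.commT (T.simple i) (T.simple k)).filter (fun c => Nat.beq c.1 u) with
    | [c] => decide (c.2.1.natAbs = 1) && Nat.beq c.2.2.1 1
    | _ => false

def chkSplit : Bool := allLt (fun i => (List.range T.rank).any fun k => T.splitAt i k) T.rank

end CfsgLib.Chevalley.Tbl
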