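import Cfsg.Prelude.Def_Steinberg
import Cfsg.Agent.Lib.Chevalley.Bruhat
import Cfsg.Agent.Lib.Chevalley.StCheck

/-!
The group presented by Steinberg's relations: basic relations, the map onto the Chevalley group,
injectivity of that map on the unipotent subgroup of any positive system.
-/

set_option autoImplicit false

namespace CfsgLib.Chevalley.Tbl

variable (T : Tbl) (F : Type*) [Field F]

/-- The generator of the presented group. -/
noncomputable def sX (r : ℕ) (t : F) : T.datum.SteinbergGroup F := T.datum.stGen F r t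

/-- `n` in the presented group. -/
noncomputable def sN (r : ℕ) (t : F) : T.datum.SteinbergGroup F :=
  T.sX F r t * T.sX F (T.neg r) (-t⁻¹) * T.sX F r t

/-- `h` in the presented group. -/
noncomputable def sH (r : ℕ) (t : F) : T.datum.SteinbergGroup F := T.sN F r t * T.sN F r (-1)

/-- The subgroup generated by the root elements of the roots with a property. -/
def sGen (P : ℕ → Prop) : Subgroup (T.datum.SteinbergGroup F) :=
  Subgroup.closure {g | ∃ r < T.n, P r ∧ ∃ t, g = T.sX F r t}

variable {T} {F}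

theorem sX_mem_sGen {P : ℕ → Prop} {r : ℕ} (hr : r < T.n) (hP : P r) (t : F) :
    T.sX F r t ∈ T.sGen F P :=
  Subgroup.subset_closure ⟨r, hr, hP, t, rfl⟩

theorem sGen_le {P : ℕ → Prop} {K : Subgroup (T.datum.SteinbergGroup F)}
    (h : ∀ r < T.n, P r → ∀ t, T.sX F r t ∈ K) : T.sGen F P ≤ K :=
  (Subgroup.closure_le _).mpr (by rintro _ ⟨r, hr, hP, t, rfl⟩; exact h r hr hP t)

theorem sGen_mono {P Q : ℕ → Prop} (h : ∀ r < T.n, P r → Q r) : T.sGen F P ≤ T.sGen F Q :=
  sGen_le fun r hr hP t => sX_mem_sGen hr (h r hr hP) t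

theorem mk_stWord (w : List (ℕ × F)) :
    PresentedGroup.mk (T.datum.steinbergRels F) (T.datum.stWord w) =
      (w.map fun p => T.sX F p.1 p.2).prod := by
  rw [Cfsg.Lie.ChevalleyDatum.stWord, map_list_prod, List.map_map]
  rfl

variable (hT : T.Valid)
include hT

theorem sX_add {r : ℕ} (hr : r < T.n) (s t : F) : T.sX F r s * T.sX F r t = T.sX F r (s + t) := by
  have h : (T.datum.stX r s * T.datum.stX r t * (T.datum.stX r (s + t))⁻¹) ∈
      T.datum.steinbergRels F := Or.inl (Or.inl ⟨r, s, t, hr, rfl⟩)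
  have := PresentedGroup.mk_eq_mk_of_mul_inv_mem h
  rw [map_mul] at this
  exact this

theorem sX_zero {r : ℕ} (hr : r < T.n) : T.sX F r 0 = 1 := by
  have := sX_add (F := F) hT hr 0 0
  rw [add_zero] at this
  exact mul_eq_left.mp this

theorem sX_inv {r : ℕ} (hr : r < T.n) (t : F) : (T.sX F r t)⁻¹ = T.sX F r (-t) :=
  inv_eq_of_mul_eq_one_right (by rw [sX_add hT hr, add_neg_cancel, sX_zero hT hr])

theorem mk_stN {r : ℕ} (hr : r < T.n) (t : F) :
    PresentedGroup.mk (T.datum.steinbergRels F) (T.datum.stN r t) = T.sN F r t := by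
  rw [Cfsg.Lie.ChevalleyDatum.stN, mk_stWord, Cfsg.Lie.ChevalleyDatum.nWord, datum_neg hr]
  simp [sN, mul_assoc]

theorem mk_stH {r : ℕ} (hr : r < T.n) (t : F) :
    PresentedGroup.mk (T.datum.steinbergRels F) (T.datum.stH r t) = T.sH F r t := by
  rw [Cfsg.Lie.ChevalleyDatum.stH, mk_stWord, Cfsg.Lie.ChevalleyDatum.hWord,
    Cfsg.Lie.ChevalleyDatum.nWord, Cfsg.Lie.ChevalleyDatum.nWord, datum_neg hr]
  simp [sH, sN, mul_assoc]

theorem sH_mul {r : ℕ} (hr : r < T.n) {s t : F} (hs : s ≠ 0) (ht : t ≠ 0) :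
    T.sH F r s * T.sH F r t = T.sH F r (s * t) := by
  have h : (T.datum.stH r s * T.datum.stH r t * (T.datum.stH r (s * t))⁻¹) ∈
      T.datum.steinbergRels F := Or.inr ⟨r, s, t, hr, hs, ht, rfl⟩
  have := PresentedGroup.mk_eq_mk_of_mul_inv_mem h
  rw [map_mul, mk_stH hT hr, mk_stH hT hr, mk_stH hT hr] at this
  exact this

/-- The commutator relation. -/
theorem scomm {r s : ℕ} (hr : r < T.n) (hs : s < T.n) (hrs : s ≠ r) (hneg : s ≠ T.neg r) (t u : F) :
    T.sX F s u * T.sX F r t = T.sX F r t * T.sX F s u *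
      ((T.commT r s).map fun c =>
        T.sX F c.1 ((c.2.1 : F) * (-t) ^ c.2.2.1 * u ^ c.2.2.2)).prod := by
  have h : (T.datum.stX s u)⁻¹ * (T.datum.stX r t)⁻¹ * T.datum.stX s u * T.datum.stX r t *
      (T.datum.stWord (T.datum.commWord F r s t u))⁻¹ ∈ T.datum.steinbergRels F :=
    Or.inl (Or.inr ⟨r, s, t, u, hr, hs, hrs, by rwa [datum_neg hr], rfl⟩)
  have h' := PresentedGroup.mk_eq_mk_of_mul_inv_mem h
  rw [mk_stWord] at h'
  simp only [Cfsg.Lie.ChevalleyDatum.commWord, datum_commTerms hT hr hs, List.map_map,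
    map_mul, map_inv] at h'
  have h2 : (T.sX F s u)⁻¹ * (T.sX F r t)⁻¹ * T.sX F s u * T.sX F r t =
      ((T.commT r s).map fun c =>
        T.sX F c.1 ((c.2.1 : F) * (-t) ^ c.2.2.1 * u ^ c.2.2.2)).prod := by
    simpa [Function.comp_def, sX, Cfsg.Lie.ChevalleyDatum.stGen] using h'
  rw [← h2]; group

theorem sX_mem_normalizer {P : ℕ → Prop} {r : ℕ} (hr : r < T.n)
    (h : ∀ s < T.n, P s → s ≠ r → s ≠ T.neg r ∧ ∀ c ∈ T.commT r s, P c.1) (t : F) :
    T.sX F r t ∈ Subgroup.normalizer (T.sGen F P : Set (T.datum.SteinbergGroup F)) := by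
  have key : ∀ a : F, ∀ g ∈ T.sGen F P, (T.sX F r a)⁻¹ * g * T.sX F r a ∈ T.sGen F P := by
    intro a g hg
    induction hg using Subgroup.closure_induction with
    | mem x hx =>
      obtain ⟨s, hs, hP, u, rfl⟩ := hx
      by_cases hsr : s = r
      · subst hsr
        rw [sX_inv hT hr, sX_add hT hr, sX_add hT hr]
        exact sX_mem_sGen hr hP _
      obtain ⟨hn, hc⟩ := h s hs hP hsr
      rw [mul_assoc, scomm hT hr hs hsr hn, ← mul_assoc, ← mul_assoc, inv_mul_cancel, one_mul]
      refine mul_mem (sX_mem_sGen hs hP u) (list_prod_mem fun y hy => ?_)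
      obtain ⟨c, hc', rfl⟩ := List.mem_map.mp hy
      exact sX_mem_sGen (commT_lt hT hr hs c hc') (hc c hc') _
    | one => simp
    | mul x y _ _ hx hy => simpa [mul_assoc] using mul_mem hx hy
    | inv x _ hx => simpa [mul_assoc] using inv_mem hx
  refine Subgroup.mem_normalizer_iff.mpr fun g => ⟨fun hg => ?_, fun hg => ?_⟩
  · have := key (-t) g hg
    rwa [← sX_inv hT hr, inv_inv] at this
  · have := key t _ hg
    simpa [mul_assoc] using this

theorem exists_sX_of_mem_single {r : ℕ} (hr : r < T.n) {x : T.datum.SteinbergGroup F}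
    (hx : x ∈ T.sGen F (fun s => s = r)) : ∃ t, x = T.sX F r t := by
  induction hx using Subgroup.closure_induction with
  | mem z hz => obtain ⟨s, -, rfl, t, rfl⟩ := hz; exact ⟨t, rfl⟩
  | one => exact ⟨0, (sX_zero hT hr).symm⟩
  | mul a b _ _ iha ihb =>
    obtain ⟨t, rfl⟩ := iha
    obtain ⟨t', rfl⟩ := ihb
    exact ⟨t + t', sX_add hT hr t t'⟩
  | inv a _ iha =>
    obtain ⟨t, rfl⟩ := iha
    exact ⟨-t, sX_inv hT hr t⟩

theorem key_eq (r : ℕ) : T.key r = ∑ i : Fin T.rank, T.co r i * (64 : ℤ) ^ (T.rank - 1 - i.val) :=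
  list_sum_range _ _

omit hT in
theorem key_mono (hS : T.chkSorted = true) : ∀ m a, a + m + 1 < T.n → T.key a < T.key (a + m + 1) := by
  intro m
  induction m with
  | zero =>
    intro a h
    have := allLt_iff.mp hS a (by omega)
    have hb : Nat.blt (a + 1) T.n = true := Nat.ble_eq_true_of_le h
    simpa [hb] using this
  | succ m ih =>
    intro a h
    have h1 := ih a (by omega)
    have h2 := allLt_iff.mp hS (a + m + 1) (by omega)
    have hb : Nat.blt (a + m + 1 + 1) T.n = true := Nat.ble_eq_true_of_le (by omega)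
    simp [hb] at h2
    rw [show a + (m + 1) + 1 = a + m + 1 + 1 by omega]
    omega

/-- A combination of two positive roots comes later. -/
theorem index_lt_of_co (hS : T.chkSorted = true) (a b w : Fin T.n) (ha : T.half ≤ a.val)
    (hb : T.half ≤ b.val) (i j : ℕ) (hi : 0 < i) (hj : 0 < j)
    (hco : ∀ k < T.rank, T.co w.val k = i * T.co a.val k + j * T.co b.val k) : b.val < w.val := by
  have hk : T.key w.val = i * T.key a.val + j * T.key b.val := by
    rw [key_eq hT, key_eq hT, key_eq hT, Finset.mul_sum, Finset.mul_sum, ← Finset.sum_add_distrib]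
    exact Finset.sum_congr rfl fun k _ => by rw [hco k k.2]; ring
  have hpos : ∀ s : Fin T.n, T.half ≤ s.val → 0 < T.key s.val := by
    intro s hs
    have hlt : T.neg s.val < s.val := lt_of_lt_of_le (negF_lt hs) hs
    have := key_mono hS (s.val - T.neg s.val - 1) (T.neg s.val) (by omega)
    rw [show T.neg s.val + (s.val - T.neg s.val - 1) + 1 = s.val by omega] at this
    have hneg : T.key (T.neg s.val) = -T.key s.val := by
      rw [key_eq hT, key_eq hT, ← Finset.sum_neg_distrib]
      exact Finset.sum_congr rfl fun k _ => by rw [co_neg hT s.2 k.2]; ring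
    omega
  have h1 : T.key b.val < T.key w.val := by
    have e1 := hpos a ha
    have e2 := hpos b hb
    have : (1 : ℤ) ≤ i := by exact_mod_cast hi
    have : (1 : ℤ) ≤ j := by exact_mod_cast hj
    nlinarith
  by_contra hge
  rcases Nat.lt_or_ge w.val b.val with h | h
  · have := key_mono hS (b.val - w.val - 1) w.val (by omega)
    rw [show w.val + (b.val - w.val - 1) + 1 = b.val by omega] at this
    omega
  · rw [show w.val = b.val by omega] at h1
    exact lt_irrefl _ h1

variable (hC : T.chkComm = true)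
include hC

/-- The map onto the Chevalley group, into the general linear group. -/
noncomputable def stHom : T.datum.SteinbergGroup F →* GL T.I F :=
  PresentedGroup.toGroup (f := fun p : Fin T.datum.nroots × F => T.xU F p.1.val p.2) (by
    have hX : ∀ r < T.n, ∀ t : F,
        FreeGroup.lift (fun p : Fin T.datum.nroots × F => T.xU F p.1.val p.2) (T.datum.stX r t) =
          T.xU F r t := by
      intro r hr t
      rw [Cfsg.Lie.ChevalleyDatum.stX, dif_pos hr, FreeGroup.lift_apply_of]
    have hW : ∀ w : List (ℕ × F), (∀ p ∈ w, p.1 < T.n) →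
        FreeGroup.lift (fun p : Fin T.datum.nroots × F => T.xU F p.1.val p.2) (T.datum.stWord w) =
          (w.map fun p => T.xU F p.1 p.2).prod := by
      intro w hw
      rw [Cfsg.Lie.ChevalleyDatum.stWord, map_list_prod, List.map_map]
      exact congrArg List.prod (List.map_congr_left fun p hp => hX p.1 (hw p hp) p.2)
    rintro g ((⟨r, t₁, t₂, hr, rfl⟩ | ⟨r, s, t, u, hr, hs, hrs, hneg, rfl⟩) |
      ⟨r, t₁, t₂, hr, h₁, h₂, rfl⟩)
    · have hr' : r < T.n := hr
      simp only [map_mul, map_inv, hX r hr', xU_add hT hr', mul_inv_cancel]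
    · have hr' : r < T.n := hr
      have hs' : s < T.n := hs
      rw [datum_neg hr'] at hneg
      simp only [map_mul, map_inv, hX r hr', hX s hs']
      rw [hW _ (by
        intro p hp
        simp only [Cfsg.Lie.ChevalleyDatum.commWord, datum_commTerms hT hr' hs', List.mem_map] at hp
        obtain ⟨c, hc, rfl⟩ := hp
        exact commT_lt hT hr' hs' c hc)]
      simp only [Cfsg.Lie.ChevalleyDatum.commWord, datum_commTerms hT hr' hs', List.map_map,
        Function.comp_def]
      rw [mul_assoc _ (T.xU F s u) (T.xU F r t), comm_xU hT hC hr' hs' hrs hneg t u]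
      group
    · have hr' : r < T.n := hr
      have hh : ∀ c : F, FreeGroup.lift (fun p : Fin T.datum.nroots × F => T.xU F p.1.val p.2)
          (T.datum.stH r c) = T.hU F r c := by
        intro c
        rw [Cfsg.Lie.ChevalleyDatum.stH, hW]
        · simp [Cfsg.Lie.ChevalleyDatum.hWord, Cfsg.Lie.ChevalleyDatum.nWord, datum_neg hr', hU, nU,
            mul_assoc]
        · have := neg_lt' hr'
          simp [Cfsg.Lie.ChevalleyDatum.hWord, Cfsg.Lie.ChevalleyDatum.nWord, datum_neg hr', hr', this]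
      simp only [map_mul, map_inv, hh]
      rw [show t₁ = ((Units.mk0 t₁ h₁ : Fˣ) : F) from rfl, show t₂ = ((Units.mk0 t₂ h₂ : Fˣ) : F) from rfl,
        hU_mul hT hr', ← Units.val_mul, mul_inv_cancel])

theorem stHom_sX {r : ℕ} (hr : r < T.n) (t : F) : stHom hT hC (T.sX F r t) = T.xU F r t := by
  rw [sX, Cfsg.Lie.ChevalleyDatum.stGen, Cfsg.Lie.ChevalleyDatum.stX, dif_pos hr]
  exact PresentedGroup.toGroup.of _

theorem stHom_sN {r : ℕ} (hr : r < T.n) (t : F) : stHom hT hC (T.sN F r t) = T.nU F r t := by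
  rw [sN, nU, map_mul, map_mul, stHom_sX hT hC hr, stHom_sX hT hC (neg_lt' hr)]

theorem stHom_sH {r : ℕ} (hr : r < T.n) (t : F) : stHom hT hC (T.sH F r t) = T.hU F r t := by
  rw [sH, hU, map_mul, stHom_sN hT hC hr, stHom_sN hT hC hr]

theorem stHom_sGen (P : ℕ → Prop) :
    (T.sGen F P).map (stHom hT hC) = T.rootGen F P := by
  rw [sGen, rootGen, MonoidHom.map_closure]
  refine congrArg _ (Set.ext fun g => ⟨?_, ?_⟩)
  · rintro ⟨_, ⟨r, hr, hP, t, rfl⟩, rfl⟩
    exact ⟨r, hr, hP, t, stHom_sX hT hC hr t⟩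
  · rintro ⟨r, hr, hP, t, rfl⟩
    exact ⟨_, ⟨r, hr, hP, t, rfl⟩, stHom_sX hT hC hr t⟩

/-- The map is injective on the unipotent subgroup of a positive system. -/
theorem stHom_inj_sys (hS : T.chkSorted = true) {n : GL T.I F} {π : Equiv.Perm (Fin T.n)} (hπ : π ∈ T.WP hT)
    (hm : T.Mono n π) {g : T.datum.SteinbergGroup F}
    (hg : g ∈ T.sGen F (fun r => ∃ h : r < T.n, T.half ≤ (π ⟨r, h⟩).val))
    (h1 : stHom hT hC g = 1) : g = 1 := by
  let P : ℕ → ℕ → Prop := fun k r => ∃ h : r < T.n, k ≤ (π ⟨r, h⟩).val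
  have hnorm : ∀ k, T.half ≤ k → ∀ r : Fin T.n, T.half ≤ (π r).val → ∀ t : F,
      T.sX F r t ∈ Subgroup.normalizer (T.sGen F (P k) : Set (T.datum.SteinbergGroup F)) := by
    intro k hk r hr t
    refine sX_mem_normalizer hT r.2 (fun s hs ⟨_, hks⟩ hne => ⟨fun e => ?_, fun c hc => ?_⟩) t
    · subst e
      have h2 : (π (T.negF r)).val < T.half := by rw [WP_negF hT hπ]; exact negF_lt hr
      have h3 : (π (T.negF r)).val = (π ⟨T.neg r.val, hs⟩).val := rfl
      omega
    · refine ⟨commT_lt hT r.2 hs c hc, ?_⟩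
      set w := π ⟨c.1, commT_lt hT r.2 hs c hc⟩ with hw
      have hco : ∀ j < T.rank, T.co w.val j =
          c.2.2.1 * T.co (π r).val j + c.2.2.2 * T.co (π ⟨s, hs⟩).val j := fun j hj =>
        commT_image hT hπ (r := r) (s := ⟨s, hs⟩) hc hj
      have hs' : T.half ≤ (π ⟨s, hs⟩).val := le_trans hk hks
      obtain ⟨hi, hj0, -⟩ := commT_co hT r.2 hs c hc
      exact le_trans hks (le_of_lt (index_lt_of_co hT hS (π r) (π ⟨s, hs⟩) w hr hs' c.2.2.1 c.2.2.2
        hi hj0 hco))
  have main : ∀ m k, k + m = T.n → T.half ≤ k → ∀ g ∈ T.sGen F (P k), stHom hT hC g = 1 → g = 1 := by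
    intro m
    induction m with
    | zero =>
      intro k hkm _ g hg _
      have : T.sGen F (P k) ≤ ⊥ := sGen_le fun r hr ⟨_, h⟩ => by
        have := (π ⟨r, hr⟩).2
        omega
      exact Subgroup.mem_bot.mp (this hg)
    | succ m ih =>
      intro k hkm hk g hg hg1
      have hkn : k < T.n := by omega
      set r := π⁻¹ ⟨k, hkn⟩ with hr
      have hπr : π r = ⟨k, hkn⟩ := π.apply_symm_apply _
      have hle : T.sGen F (P k) ≤ T.sGen F (fun s => s = r.val) ⊔ T.sGen F (P (k + 1)) := by
        refine sGen_le fun s hs ⟨_, hks⟩ t => ?_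
        rcases Nat.lt_or_ge k (π ⟨s, hs⟩).val with h | h
        · exact Subgroup.mem_sup_right (sX_mem_sGen (P := P (k + 1)) hs ⟨hs, h⟩ t)
        · refine Subgroup.mem_sup_left (sX_mem_sGen (P := fun s => s = r.val) hs ?_ t)
          have : (⟨s, hs⟩ : Fin T.n) = r := π.injective (by rw [hπr]; exact Fin.ext (by simp; omega))
          exact congrArg Fin.val this
      have hn : T.sGen F (fun s => s = r.val) ≤
          Subgroup.normalizer (T.sGen F (P (k + 1)) : Set (T.datum.SteinbergGroup F)) :=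
        sGen_le fun s hs e t => by
          subst e
          exact hnorm (k + 1) (by omega) r (by rw [hπr]; exact hk) t
      have := hle hg
      rw [← SetLike.mem_coe, Subgroup.coe_mul_of_left_le_normalizer_right _ _ hn] at this
      obtain ⟨x, hx, y, hy, rfl⟩ := this
      have hsingle : ∃ t, x = T.sX F r t := exists_sX_of_mem_single hT r.2 hx
      obtain ⟨t, rfl⟩ := hsingle
      obtain ⟨c, hc⟩ := hm.conj r
      rw [map_mul, stHom_sX hT hC r.2] at hg1
      have hy' : stHom hT hC y ∈ T.rootGen F (P (k + 1)) := by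
        rw [← stHom_sGen hT hC]; exact ⟨y, hy, rfl⟩
      have hconj := conj_mem_rootGen hT hm (Q := fun s => k + 1 ≤ s)
        (fun s ⟨_, h⟩ => h) hy'
      have e : T.xU F k ((c : F) * t) * (n * stHom hT hC y * n⁻¹) = T.xU F k 0 * 1 := by
        have h2 := (hc t).1
        rw [hπr] at h2
        rw [xU_zero hT hkn, one_mul, show T.xU F k ((c : F) * t) * (n * stHom hT hC y * n⁻¹) =
          T.xU F k ((c : F) * t) * n * stHom hT hC y * n⁻¹ by group, ← h2,
          mul_assoc n, hg1, mul_one, mul_inv_cancel]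
      obtain ⟨ht, hy1⟩ := xU_mul_inj hT hC hk hkn hconj (one_mem _) e
      rw [conj_eq_one_iff] at hy1
      rw [mul_eq_zero, or_iff_right c.ne_zero] at ht
      show T.sX F r.val t * y = 1
      rw [ht, sX_zero hT r.2, one_mul]
      exact ih (k + 1) (by omega) (by omega) y hy hy1
  exact main T.half T.half (Nat.two_mul _).symm le_rfl g hg h1

end CfsgLib.Chevalley.Tbl
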