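import Cfsg.Prelude.Def_ChevStructure

/-!
Compact tables for the seven tabulated Chevalley data, with the Boolean checks on them.
-/

set_option autoImplicit false

namespace CfsgLib.Chevalley

/-- `f 0 && ... && f (n-1)`. -/
def allLt (f : ℕ → Bool) : ℕ → Bool
  | 0 => true
  | n + 1 => f n && allLt f n

theorem allLt_iff {f : ℕ → Bool} {n : ℕ} : allLt f n = true ↔ ∀ k < n, f k = true := by
  induction n with
  | zero => simp [allLt]
  | succ n ih =>
    simp only [allLt, Bool.and_eq_true, ih]
    constructor
    · rintro ⟨h1, h2⟩ k hk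
      rcases Nat.lt_succ_iff_lt_or_eq.mp hk with h | rfl
      · exact h2 k h
      · exact h1
    · intro h; exact ⟨h n n.lt_succ_self, fun k hk => h k (by omega)⟩

/-- A compact table of a root system with structure constants. The negative of root `r` has index
`2 * half - 1 - r`; the positive roots are those with index at least `half`. -/
structure Tbl where
  rank : ℕ
  half : ℕ
  /-- 12-bit fields: `0` if no root, else `(index + 1) * 16 + (N + 8)`. -/
  row : ℕ → ℕ
  /-- 8-bit fields, offset 128: coefficients on the fundamental roots -/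
  coRow : ℕ → ℕ
  /-- 8-bit fields, offset 128: coefficients on the fundamental coroots -/
  cvRow : ℕ → ℕ
  /-- 8-bit fields, offset 128: Cartan integers `A_{p_i, r}` -/
  caRow : ℕ → ℕ
  simple : ℕ → ℕ

/-- A coordinate-free term: zero, a multiple of a root vector, or a multiple of a coroot. -/
inductive Term
  | z
  | rt (v : ℕ) (m : ℤ)
  | ht (r : ℕ) (m : ℤ)

namespace Tbl

variable (T : Tbl)

abbrev n : ℕ := 2 * T.half

def field8 (w i : ℕ) : ℤ := Int.subNatNat (Nat.land (Nat.shiftRight w (8 * i)) 255) 128

def co (r i : ℕ) : ℤ := field8 (T.coRow r) i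
def cv (r i : ℕ) : ℤ := field8 (T.cvRow r) i
def ca (i r : ℕ) : ℤ := field8 (T.caRow r) i
def neg (r : ℕ) : ℕ := T.n - 1 - r
def isPos (r : ℕ) : Bool := Nat.ble T.half r

def code (r s : ℕ) : ℕ := Nat.land (Nat.shiftRight (T.row r) (12 * s)) 4095

/-- `some (u, N)` if `r + s` is the root `u`, with structure constant `N`. -/
def sum? (r s : ℕ) : Option (ℕ × ℤ) :=
  bif Nat.beq (T.code r s) 0 then none
  else some (T.code r s / 16 - 1, Int.subNatNat (T.code r s % 16) 8)

/-- `∑ c_i(r) A_{p_i, s}`. -/
def pair (r s : ℕ) : ℤ := ((List.range T.rank).map fun i => T.cv r i * T.ca i s).sum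

/-- The height. -/
def ht (r : ℕ) : ℤ := ((List.range T.rank).map fun i => T.co r i).sum

/-- One step along the chain. -/
def step (r k : ℕ) : Option (ℕ × ℤ) → Option (ℕ × ℤ)
  | none => none
  | some (u, m) => (T.sum? r u).map fun vN => (vN.1, m * vN.2 / (k : ℤ))

/-- `(index of k r + s, M_{r,s,k})`. -/
def chain (r s : ℕ) : ℕ → Option (ℕ × ℤ)
  | 0 => some (s, 1)
  | k + 1 => T.step r (k + 1) (chain r s k)

/-- The list of the chain of `r` through `s`. -/
def chainList (r s : ℕ) : List (ℕ × ℤ) := [1, 2, 3].filterMap fun k => T.chain r s k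

def chainRowL (r : ℕ) : List (ℕ × Array (ℕ × ℤ)) :=
  (List.range T.n).filterMap fun s =>
    bif Nat.beq (T.code r s) 0 then none else some (s, (T.chainList r s).toArray)

/-- The Chevalley datum of the table. -/
@[reducible] def datum : Cfsg.Lie.ChevalleyDatum where
  rank := T.rank
  nroots := T.n
  simpleIdx := ((List.range T.rank).map T.simple).toArray
  negIdx := ((List.range T.n).map T.neg).toArray
  coroot := ((List.range T.n).map fun r => ((List.range T.rank).map fun i => T.cv r i).toArray).toArray
  cartanSR := ((List.range T.rank).map fun i => ((List.range T.n).map fun r => T.ca i r).toArray).toArray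
  chain := ((List.range T.n).map fun r => (T.chainRowL r).toArray).toArray

/-! ### Checks -/

/-- Checks on a single root. -/
def chkRoot (r : ℕ) : Bool :=
  (T.sum? r r).isNone && (T.sum? r (T.neg r)).isNone && decide (T.pair r r = 2) &&
  (allLt (fun i =>
      decide (T.co (T.neg r) i = -T.co r i) && decide (T.cv (T.neg r) i = -T.cv r i) &&
      decide (T.ca i (T.neg r) = -T.ca i r) &&
      decide (T.ca i r = ((List.range T.rank).map fun j => T.co r j * T.ca i (T.simple j)).sum) &&
      (bif T.isPos r then decide (0 ≤ T.co r i) && decide (0 ≤ T.cv r i)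
        else decide (T.co r i ≤ 0) && decide (T.cv r i ≤ 0))) T.rank) &&
  (bif T.isPos r then decide (0 < T.ht r) else decide (T.ht r < 0)) &&
  (List.range T.rank).any fun i => (List.range T.rank).any fun j =>
    Nat.beq (Int.gcd (T.cv r i) (T.cv r j)) 1

/-- Checks on a pair of roots. -/
def chkPair (r s : ℕ) : Bool :=
  match T.sum? r s with
  | none => (T.sum? s r).isNone && (T.sum? (T.neg r) (T.neg s)).isNone
  | some (u, N) =>
    Nat.blt u T.n && decide (N ≠ 0) &&
    (match T.sum? s r with
      | none => false
      | some (u', N') => Nat.beq u' u && decide (N' = -N)) &&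
    (match T.sum? (T.neg r) (T.neg s) with
      | none => false
      | some (u', N') => Nat.beq u' (T.neg u) && decide (N' = -N)) &&
    !(Nat.beq u r) && !(Nat.beq u (T.neg r)) &&
    allLt (fun i => decide (T.co u i = T.co r i + T.co s i)) T.rank &&
    (bif T.isPos r then Nat.blt s u &&
        (bif T.isPos s then T.isPos u else bif Nat.blt (T.neg s) r then T.isPos u else !(T.isPos u))
      else Nat.blt u s) &&
    (match T.chain r s 2 with
      | none => true
      | some (u2, M2) =>
        decide (2 * M2 = N * ((T.sum? r u).getD (0, 0)).2) &&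
        !(Nat.beq u2 r) && !(Nat.beq u2 (T.neg r)) &&
        (match T.chain r s 3 with
          | none => true
          | some (u3, M3) =>
            decide (3 * M3 = M2 * ((T.sum? r u2).getD (0, 0)).2) &&
            !(Nat.beq u3 r) && !(Nat.beq u3 (T.neg r)) && (T.sum? r u3).isNone))

/-- `[e_a, [e_b, e_c]]`. -/
def second (a b c : ℕ) : Term :=
  match T.sum? b c with
  | some (u, N) =>
    bif Nat.beq a (T.neg u) then .ht a N
    else match T.sum? a u with
      | some (v, M) => .rt v (N * M)
      | none => .z
  | none => bif Nat.beq c (T.neg b) then .rt a (-T.pair b a) else .z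

/-- Coefficient at a root. -/
def valR (v : ℕ) : Term → ℤ
  | .rt v' m => bif Nat.beq v' v then m else 0
  | _ => 0

/-- Coefficient at a fundamental coroot. -/
def valH (i : ℕ) : Term → ℤ
  | .ht r m => m * T.cv r i
  | _ => 0

/-- The terms sum to zero. -/
def termsZero (l : List Term) : Bool :=
  l.all fun t =>
    match t with
    | .z => true
    | .rt v _ => decide ((l.map (valR v)).sum = 0)
    | .ht _ _ => allLt (fun i => decide ((l.map (T.valH i)).sum = 0)) T.rank

/-- The Jacobi identity for a fundamental root and two roots. -/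
def chkJac (p s x : ℕ) : Bool :=
  T.termsZero [T.second p s x, T.second x p s, T.second s x p]

/-- The reflection in the `i`-th fundamental root. -/
def refl (i s : ℕ) : ℕ :=
  let p := T.simple i
  let A := T.ca i s
  bif Nat.beq s p then T.neg p
  else bif Nat.beq s (T.neg p) then p
  else if 0 < A then ((T.chain (T.neg p) s A.toNat).map Prod.fst).getD s
  else if A < 0 then ((T.chain p s (-A).toNat).map Prod.fst).getD s
  else s

/-- The image of a term under `x_r(t)`. -/
def actT (r : ℕ) (t : ℤ) : Term → List Term
  | .z => []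
  | .ht b m => [.ht b m, .rt r (-(T.pair b r) * t * m)]
  | .rt s m =>
    bif Nat.beq s r then [.rt s m]
    else bif Nat.beq s (T.neg r) then [.rt s m, .ht r (t * m), .rt r (-(t * t) * m)]
    else .rt s m :: ([1, 2, 3].filterMap fun k =>
      (T.chain r s k).map fun um => Term.rt um.1 (um.2 * t ^ k * m))

/-- The image of a term under `x_p(1) x_{-p}(-1) x_p(1)`, `p = p_i`. -/
def actN (i : ℕ) (t : Term) : List Term :=
  ((T.actT (T.simple i) 1 t).flatMap (T.actT (T.neg (T.simple i)) (-1))).flatMap
    (T.actT (T.simple i) 1)

/-- The sign `η` of `n_p` at a root. -/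
def eta (i s : ℕ) : ℤ := ((T.actN i (.rt s 1)).map (valR (T.refl i s))).sum

/-- Checks on `n_p` for `p = p_i`. -/
def chkN (i : ℕ) : Bool :=
  allLt (fun j => T.termsZero (.ht (T.simple j) (-1) :: .ht (T.simple i) (T.ca j (T.simple i)) ::
    T.actN i (.ht (T.simple j) 1))) T.rank &&
  allLt (fun s =>
    T.termsZero (.rt (T.refl i s) (-T.eta i s) :: T.actN i (.rt s 1)) &&
    decide (T.eta i s = 1 ∨ T.eta i s = -1) &&
    decide (T.eta i s * T.eta i (T.neg s) = 1) &&
    decide (T.eta i s * T.eta i (T.refl i s) = (-1) ^ (T.ca i s).natAbs) &&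
    Nat.blt (T.refl i s) T.n && Nat.beq (T.refl i (T.refl i s)) s &&
    Nat.beq (T.refl i (T.neg s)) (T.neg (T.refl i s)) &&
    allLt (fun j => decide (T.co (T.refl i s) j = T.co s j - (bif Nat.beq j i then T.ca i s else 0)) &&
      decide (T.cv (T.refl i s) j = T.cv s j -
        (bif Nat.beq j i then T.pair s (T.simple i) else 0))) T.rank &&
    (bif T.isPos s && !(Nat.beq s (T.simple i)) then T.isPos (T.refl i s) else true)) T.n &&
  decide (T.eta i (T.simple i) = -1)

/-- Checks on the fundamental roots. -/
def chkSimple (i : ℕ) : Bool :=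
  Nat.blt (T.simple i) T.n && T.isPos (T.simple i) &&
  allLt (fun j =>
    decide (T.cv (T.simple i) j = bif Nat.beq j i then 1 else 0) &&
    decide (T.co (T.simple i) j = bif Nat.beq j i then 1 else 0) &&
    (bif Nat.beq j i then true else decide (T.ca i (T.simple j) ≤ 0))) T.rank

/-- A positive root is fundamental, or a fundamental root plus a lower positive root. -/
def chkGen (r : ℕ) : Bool :=
  !(T.isPos r) || (List.range T.rank).any fun i =>
    Nat.beq r (T.simple i) ||
    (match T.sum? (T.neg (T.simple i)) r with
    | none => false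
    | some (r', _) => T.isPos r' && decide (T.ht r' < T.ht r) &&
        (match T.sum? (T.simple i) r' with
          | none => false
          | some (u, _) => Nat.beq u r))

def chkRoots : Bool := allLt (fun r => T.chkRoot r && T.chkGen r) T.n
def chkPairs : Bool := allLt (fun r => allLt (T.chkPair r) T.n) T.n
def chkJacs : Bool :=
  allLt (fun i => allLt (fun s => allLt (fun x => T.chkJac (T.simple i) s x) (s + 1)) T.n) T.rank
def chkNs : Bool := allLt (fun i => T.chkN i && T.chkSimple i) T.rank

/-- All the checks succeed. -/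
structure Valid : Prop where
  roots : T.chkRoots = true
  pairs : T.chkPairs = true
  jacs : T.chkJacs = true
  ns : T.chkNs = true

/-- Splitting `allLt` into blocks of length `k`. -/
theorem allLt_of_blocks {f : ℕ → Bool} {n k b : ℕ} (hk : 0 < k) (hn : n ≤ k * b)
    (h : ∀ c < b, allLt (fun j => !(Nat.blt (k * c + j) n) || f (k * c + j)) k = true) :
    allLt f n = true := by
  rw [allLt_iff]
  intro i hi
  have hc : i / k < b := Nat.div_lt_iff_lt_mul hk |>.mpr (by rw [Nat.mul_comm b]; omega)
  have h1 := (allLt_iff.mp (h _ hc)) (i % k) (Nat.mod_lt _ hk)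
  rw [Nat.div_add_mod, show Nat.blt i n = true from Nat.ble_eq_true_of_le hi] at h1
  simpa using h1

/-- A block of the comparison with a chain array. -/
def chkChainBlock (A : Array (Array (ℕ × Array (ℕ × ℤ)))) (r : ℕ) : Bool :=
  decide ((T.chainRowL r).toArray = A.getD r #[])

theorem datum_chain_of {A : Array (Array (ℕ × Array (ℕ × ℤ)))} (hs : A.size = T.n)
    (h : allLt (T.chkChainBlock A) T.n = true) : T.datum.chain = A := by
  apply Array.ext
  · simp [datum, hs]
  · intro i h1 h2
    have hi : i < T.n := by omega
    have h3 := allLt_iff.mp h i hi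
    simp only [chkChainBlock, decide_eq_true_eq] at h3
    rw [Array.getD, dif_pos h2] at h3
    simp [datum]
    exact h3

end Tbl

end CfsgLib.Chevalley
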