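import Mathlib
import Cfsg.Prelude.Def_LieTwisted
import Cfsg.Agent.Lib.Chevalley.Data.TitsCert

/-!
The entries of some root elements of F₄ over the field with two elements.
-/

set_option autoImplicit false
set_option maxHeartbeats 2000000

namespace CfsgLib.Chevalley.TitsInv

open Cfsg.Lie

/-- The position of a coordinate index. -/
def lin : chevF4.Idx → ℕ
  | Sum.inl i => i.val
  | Sum.inr r => 4 + r.val

/-- The entry predicted by the support table. -/
def ent (L : List (ℕ × ℕ)) (i j : chevF4.Idx) : ZMod 2 :=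
  (if lin i = lin j then 1 else 0) +
    (L.map fun p => if lin i = p.1 ∧ lin j = p.2 then (1 : ZMod 2) else 0).sum

theorem entries33 : ∀ i : chevF4.Idx, decide (∀ j : chevF4.Idx,
    chevF4.x (ZMod 2) 33 1 i j = ent (TitsCert.supp 33) i j) = true := by decide +kernel

theorem entries24 : ∀ i : chevF4.Idx, decide (∀ j : chevF4.Idx,
    chevF4.x (ZMod 2) 24 1 i j = ent (TitsCert.supp 24) i j) = true := by decide +kernel

theorem entries14 : ∀ i : chevF4.Idx, decide (∀ j : chevF4.Idx,
    chevF4.x (ZMod 2) 14 1 i j = ent (TitsCert.supp 14) i j) = true := by decide +kernel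

theorem entries23 : ∀ i : chevF4.Idx, decide (∀ j : chevF4.Idx,
    chevF4.x (ZMod 2) 23 1 i j = ent (TitsCert.supp 23) i j) = true := by decide +kernel

theorem entries27 : ∀ i : chevF4.Idx, decide (∀ j : chevF4.Idx,
    chevF4.x (ZMod 2) 27 1 i j = ent (TitsCert.supp 27) i j) = true := by decide +kernel

theorem entries25 : ∀ i : chevF4.Idx, decide (∀ j : chevF4.Idx,
    chevF4.x (ZMod 2) 25 1 i j = ent (TitsCert.supp 25) i j) = true := by decide +kernel

theorem entries28 : ∀ i : chevF4.Idx, decide (∀ j : chevF4.Idx,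
    chevF4.x (ZMod 2) 28 1 i j = ent (TitsCert.supp 28) i j) = true := by decide +kernel

theorem entries20 : ∀ i : chevF4.Idx, decide (∀ j : chevF4.Idx,
    chevF4.x (ZMod 2) 20 1 i j = ent (TitsCert.supp 20) i j) = true := by decide +kernel

theorem entries22 : ∀ i : chevF4.Idx, decide (∀ j : chevF4.Idx,
    chevF4.x (ZMod 2) 22 1 i j = ent (TitsCert.supp 22) i j) = true := by decide +kernel

theorem entries19 : ∀ i : chevF4.Idx, decide (∀ j : chevF4.Idx,
    chevF4.x (ZMod 2) 19 1 i j = ent (TitsCert.supp 19) i j) = true := by decide +kernel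

theorem entries26 : ∀ i : chevF4.Idx, decide (∀ j : chevF4.Idx,
    chevF4.x (ZMod 2) 26 1 i j = ent (TitsCert.supp 26) i j) = true := by decide +kernel

theorem entries34 : ∀ i : chevF4.Idx, decide (∀ j : chevF4.Idx,
    chevF4.x (ZMod 2) 34 1 i j = ent (TitsCert.supp 34) i j) = true := by decide +kernel

theorem entries42 : ∀ i : chevF4.Idx, decide (∀ j : chevF4.Idx,
    chevF4.x (ZMod 2) 42 1 i j = ent (TitsCert.supp 42) i j) = true := by decide +kernel

theorem zero17 : ∀ i : chevF4.Idx, decide (∀ j : chevF4.Idx,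
    chevF4.x (ZMod 2) 17 0 i j = ent [] i j) = true := by decide +kernel

theorem zero30 : ∀ i : chevF4.Idx, decide (∀ j : chevF4.Idx,
    chevF4.x (ZMod 2) 30 0 i j = ent [] i j) = true := by decide +kernel

end CfsgLib.Chevalley.TitsInv
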