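import Cfsg.Agent.Lib.Chevalley.TitsInv

/-!
The certificate checks for the Sylow 2-subgroup of ²F₄(2).
-/

set_option autoImplicit false
set_option maxHeartbeats 4000000

namespace CfsgLib.Chevalley.TitsInv

theorem chunk0 : chunkOk (TitsCert.words0, TitsCert.vals0) = true := by decide +kernel

theorem chunk1 : chunkOk (TitsCert.words1, TitsCert.vals1) = true := by decide +kernel

theorem chunk2 : chunkOk (TitsCert.words2, TitsCert.vals2) = true := by decide +kernel

theorem chunk3 : chunkOk (TitsCert.words3, TitsCert.vals3) = true := by decide +kernel

theorem chunk4 : chunkOk (TitsCert.words4, TitsCert.vals4) = true := by decide +kernel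

theorem chunk5 : chunkOk (TitsCert.words5, TitsCert.vals5) = true := by decide +kernel

theorem chunk6 : chunkOk (TitsCert.words6, TitsCert.vals6) = true := by decide +kernel

theorem chunk7 : chunkOk (TitsCert.words7, TitsCert.vals7) = true := by decide +kernel

theorem chunk8 : chunkOk (TitsCert.words8, TitsCert.vals8) = true := by decide +kernel

theorem chunk9 : chunkOk (TitsCert.words9, TitsCert.vals9) = true := by decide +kernel

theorem chunk10 : chunkOk (TitsCert.words10, TitsCert.vals10) = true := by decide +kernel

theorem chunk11 : chunkOk (TitsCert.words11, TitsCert.vals11) = true := by decide +kernel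

theorem chunk12 : chunkOk (TitsCert.words12, TitsCert.vals12) = true := by decide +kernel

theorem chunk13 : chunkOk (TitsCert.words13, TitsCert.vals13) = true := by decide +kernel

theorem chunk14 : chunkOk (TitsCert.words14, TitsCert.vals14) = true := by decide +kernel

theorem chunk15 : chunkOk (TitsCert.words15, TitsCert.vals15) = true := by decide +kernel

theorem chunks_ok : ∀ p ∈ TitsCert.chunks, chunkOk p = true := by
  simp only [TitsCert.chunks, List.forall_mem_cons]
  exact ⟨chunk0, chunk1, chunk2, chunk3, chunk4, chunk5, chunk6, chunk7, chunk8, chunk9, chunk10, chunk11, chunk12, chunk13, chunk14, chunk15, fun _ h => absurd h List.not_mem_nil⟩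

end CfsgLib.Chevalley.TitsInv
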