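import Mathlib
import Cfsg.Prelude.Def_LieTwisted
import Cfsg.Prelude.Def_ChevStructure
import Cfsg.Agent.Lib.Chevalley.TitsBits
import Cfsg.Agent.Lib.Chevalley.Data.TitsCert

/-!
Computations with root elements of F₄ over the field with two elements, acting on row vectors coded as
natural numbers.
-/

set_option autoImplicit false
set_option maxHeartbeats 4000000

namespace CfsgLib.Chevalley.TitsInv

open Cfsg.Lie Matrix


theorem lin_lt : ∀ i : chevF4.Idx, lin i < 52 := by decide +kernel

theorem lin_surj : ∀ n : Fin 52, ∃ i : chevF4.Idx, lin i = n.val := by decide +kernel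

theorem lin_inj : Function.Injective lin := by
  intro i j h
  rcases i with ⟨i, hi⟩ | ⟨i, hi⟩ <;> rcases j with ⟨j, hj⟩ | ⟨j, hj⟩ <;> simp only [lin] at h <;>
    have h4 : chevF4.rank = 4 := rfl
  all_goals first
    | (exact congrArg Sum.inl (Fin.ext h))
    | (exact congrArg Sum.inr (Fin.ext (by simpa using h)))
    | (exfalso; omega)

/-- The vector coded by a natural number. -/
def toVec (v : ℕ) : chevF4.Idx → (ZMod 2) := fun i => if v.testBit (lin i) then 1 else 0

theorem toVec_xor (a b : ℕ) : toVec (a ^^^ b) = toVec a + toVec b := by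
  funext i
  simp only [toVec, Pi.add_apply, Nat.testBit_xor]
  cases a.testBit (lin i) <;> cases b.testBit (lin i) <;> decide

theorem toVec_zero : toVec 0 = 0 := by funext i; simp [toVec]

/-- An elementary matrix. -/
def elem (p : ℕ × ℕ) : Matrix chevF4.Idx chevF4.Idx (ZMod 2) :=
  Matrix.of fun i j => if lin i = p.1 ∧ lin j = p.2 then 1 else 0

/-- The flip caused by one entry. -/
def flip1 (v : ℕ) (p : ℕ × ℕ) : ℕ := if v.testBit p.1 then 2 ^ p.2 else 0

/-- The action of a root element on a coded vector. -/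
def opL (L : List (ℕ × ℕ)) (v : ℕ) : ℕ := L.foldl (fun acc p => acc ^^^ flip1 v p) v

theorem toVec_flip1 (v : ℕ) (p : ℕ × ℕ) (hp : p.1 < 52) :
    toVec (flip1 v p) = toVec v ᵥ* elem p := by
  funext j
  obtain ⟨i, hi⟩ := lin_surj ⟨p.1, hp⟩
  simp only [Matrix.vecMul, dotProduct, elem, Matrix.of_apply]
  rw [Finset.sum_eq_single i]
  · by_cases h : v.testBit p.1 = true
    · simp [flip1, toVec, hi, h, Nat.testBit_two_pow, eq_comm]
    · simp [flip1, toVec, hi, h]
  · intro k _ hk
    have : lin k ≠ p.1 := fun h => hk (lin_inj (h.trans hi.symm))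
    simp [this]
  · simp

theorem toVec_foldl (v : ℕ) : ∀ (L : List (ℕ × ℕ)), (∀ p ∈ L, p.1 < 52) → ∀ acc : ℕ,
    toVec (L.foldl (fun acc p => acc ^^^ flip1 v p) acc) = toVec acc + toVec v ᵥ* (L.map elem).sum := by
  intro L
  induction L with
  | nil => intro _ acc; simp
  | cons p L ih =>
    intro hL acc
    rw [List.foldl_cons, ih (fun q hq => hL q (List.mem_cons_of_mem _ hq)), toVec_xor,
      toVec_flip1 v p (hL p List.mem_cons_self), List.map_cons, List.sum_cons, Matrix.vecMul_add, add_assoc]

/-- The roots used. -/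
def used : List ℕ := [33, 24, 14, 23, 27, 25, 28, 20, 22, 19, 26, 34, 42]

theorem supp_lt : ∀ r ∈ used, ∀ p ∈ TitsCert.supp r, p.1 < 52 := by decide +kernel

theorem ent_eq : ∀ (L : List (ℕ × ℕ)) (i j : chevF4.Idx),
    ((1 : Matrix chevF4.Idx chevF4.Idx (ZMod 2)) + (L.map elem).sum) i j = ent L i j := by
  intro L i j
  have h : ∀ L : List (ℕ × ℕ), (L.map elem).sum i j =
      (L.map fun p => if lin i = p.1 ∧ lin j = p.2 then (1 : ZMod 2) else 0).sum := by
    intro L
    induction L with
    | nil => rfl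
    | cons p L ih =>
      rw [List.map_cons, List.sum_cons, List.map_cons, List.sum_cons, Matrix.add_apply, ih]
      rfl
  rw [Matrix.add_apply, Matrix.one_apply, h, ent]
  simp [lin_inj.eq_iff]

theorem x_eq_of_entries {r : ℕ} {t : ZMod 2} {L : List (ℕ × ℕ)}
    (h : ∀ i : chevF4.Idx, decide (∀ j : chevF4.Idx, chevF4.x (ZMod 2) r t i j = ent L i j) = true) :
    chevF4.x (ZMod 2) r t = 1 + (L.map elem).sum :=
  Matrix.ext fun i j => (of_decide_eq_true (h i) j).trans (ent_eq L i j).symm

theorem x_eq (r : ℕ) (hr : r ∈ used) :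
    chevF4.x (ZMod 2) r 1 = 1 + ((TitsCert.supp r).map elem).sum := by
  simp only [used, List.mem_cons, List.not_mem_nil, or_false] at hr
  apply x_eq_of_entries
  rcases hr with rfl | rfl | rfl | rfl | rfl | rfl | rfl | rfl | rfl | rfl | rfl | rfl | rfl
  exacts [entries33, entries24, entries14, entries23, entries27, entries25, entries28, entries20,
    entries22, entries19, entries26, entries34, entries42]

theorem toVec_opL (r : ℕ) (hr : r ∈ used) (v : ℕ) :
    toVec (opL (TitsCert.supp r) v) = toVec v ᵥ* chevF4.x (ZMod 2) r 1 := by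
  rw [opL, toVec_foldl v _ (supp_lt r hr), x_eq r hr, Matrix.vecMul_add, Matrix.vecMul_one]

/-- The matrix of a word of roots, all parameters equal to 1. -/
def mat (w : List ℕ) : Matrix chevF4.Idx chevF4.Idx (ZMod 2) := (w.map fun r => chevF4.x (ZMod 2) r 1).prod

/-- The action of a word on a coded vector. -/
def opW (w : List ℕ) (v : ℕ) : ℕ := w.foldl (fun v r => opL (TitsCert.supp r) v) v

theorem toVec_opW : ∀ (w : List ℕ), (∀ r ∈ w, r ∈ used) → ∀ v : ℕ,
    toVec (opW w v) = toVec v ᵥ* mat w := by
  intro w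
  induction w with
  | nil => intro _ v; simp [opW, mat]
  | cons r w ih =>
    intro hw v
    have h := ih (fun q hq => hw q (List.mem_cons_of_mem _ hq)) (opL (TitsCert.supp r) v)
    rw [toVec_opL r (hw r List.mem_cons_self), Matrix.vecMul_vecMul] at h
    simpa [opW, mat] using h

/-- A test for equality of two word matrices. -/
def sameWord (w w' : List ℕ) : Bool :=
  w.all (used.contains ·) && w'.all (used.contains ·) &&
    (List.range 52).all fun i => opW w (2 ^ i) == opW w' (2 ^ i)

theorem mat_eq_of_sameWord {w w' : List ℕ} (h : sameWord w w' = true) : mat w = mat w' := by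
  simp only [sameWord, Bool.and_eq_true, List.all_eq_true, List.contains_iff_mem, List.mem_range,
    beq_iff_eq] at h
  obtain ⟨⟨h1, h2⟩, h3⟩ := h
  ext i j
  have hv : toVec (2 ^ lin i) = Pi.single i 1 := by
    funext k
    by_cases hk : k = i
    · simp [toVec, hk]
    · have : lin i ≠ lin k := fun e => hk (lin_inj e).symm
      simp [toVec, hk, Nat.testBit_two_pow, this]
  have e := congrArg toVec (h3 (lin i) (lin_lt i))
  rw [toVec_opW w h1, toVec_opW w' h2, hv, Matrix.single_one_vecMul, Matrix.single_one_vecMul] at e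
  exact congrFun e j

theorem x_sq : ∀ r ∈ used, sameWord [r, r] [] = true := by decide +kernel

/-- A root element as an invertible matrix. -/
noncomputable def xg (r : ℕ) : GL chevF4.Idx (ZMod 2) :=
  if h : r ∈ used then
    have e : chevF4.x (ZMod 2) r 1 * chevF4.x (ZMod 2) r 1 = 1 := by
      simpa [mat] using mat_eq_of_sameWord (x_sq r h)
    ⟨chevF4.x (ZMod 2) r 1, chevF4.x (ZMod 2) r 1, e, e⟩
  else 1

theorem xg_val {r : ℕ} (h : r ∈ used) : ((xg r : GL chevF4.Idx (ZMod 2)) : Matrix chevF4.Idx chevF4.Idx (ZMod 2)) = chevF4.x (ZMod 2) r 1 := by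
  simp [xg, h]

theorem xg_inv (r : ℕ) : (xg r)⁻¹ = xg r := by
  unfold xg
  split
  · rfl
  · simp

/-- The group element of a word. -/
noncomputable def gw (w : List ℕ) : GL chevF4.Idx (ZMod 2) := (w.map xg).prod

theorem gw_val : ∀ (w : List ℕ), (∀ r ∈ w, r ∈ used) →
    ((gw w : GL chevF4.Idx (ZMod 2)) : Matrix chevF4.Idx chevF4.Idx (ZMod 2)) = mat w := by
  intro w
  induction w with
  | nil => intro _; simp [gw, mat]
  | cons r w ih =>
    intro hw
    have := ih (fun q hq => hw q (List.mem_cons_of_mem _ hq))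
    simp only [gw, mat, List.map_cons, List.prod_cons, Units.val_mul, xg_val (hw r List.mem_cons_self)]
    rw [← mat]
    exact congrArg _ this

theorem gw_append (w w' : List ℕ) : gw (w ++ w') = gw w * gw w' := by simp [gw]

theorem gw_inv : ∀ w : List ℕ, (gw w)⁻¹ = gw w.reverse := by
  intro w
  induction w with
  | nil => simp [gw]
  | cons r w ih =>
    rw [List.reverse_cons, gw_append, ← ih]
    simp [gw, xg_inv]

theorem gw_eq_of_sameWord {w w' : List ℕ} (h : sameWord w w' = true) : gw w = gw w' := by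
  have h' := h
  simp only [sameWord, Bool.and_eq_true, List.all_eq_true, List.contains_iff_mem] at h'
  exact Units.ext ((gw_val w h'.1.1).trans ((mat_eq_of_sameWord h).trans (gw_val w' h'.1.2).symm))

/-- The roots of the pair generator. -/
def ra : List ℕ := [33, 24]
/-- The roots of the negative pair generator. -/
def ran : List ℕ := [14, 23]
/-- The roots of the class generator. -/
def rb : List ℕ := [27, 25, 28]
/-- The roots of the negative class generator. -/
def rbn : List ℕ := [20, 22, 19]
/-- The roots of the conjugate of the class generator by the pair reflection. -/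
def re : List ℕ := [26, 34, 42]

/-- The letters of a coded word. -/
def decode : ℕ → ℕ → List ℕ
  | 0, _ => []
  | fuel + 1, c => if c ≤ 1 then [] else c % 4 :: decode fuel (c / 4)

/-- The roots of a letter. -/
def letter : ℕ → List ℕ
  | 0 => ra
  | 1 => rb
  | _ => re

/-- The roots of a coded word. -/
def rootsOf (c : ℕ) : List ℕ := (decode 16 c).flatMap letter

/-- The number of letters of a coded word outside the derived group. -/
def parity (c : ℕ) : ℕ := (decode 16 c).countP (· != 0)

theorem rootsOf_used (c : ℕ) : ∀ r ∈ rootsOf c, r ∈ used := by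
  intro r hr
  obtain ⟨l, -, hl⟩ := List.mem_flatMap.1 hr
  rcases l with _ | _ | l <;> simp only [letter, ra, rb, re, List.mem_cons, List.not_mem_nil, or_false] at hl <;>
    simp [used] <;> omega

/-- Strict increase of a list. -/
def incr : List ℕ → Bool
  | [] => true
  | [_] => true
  | a :: b :: l => decide (a < b) && incr (b :: l)

theorem pairwise_of_incr : ∀ l : List ℕ, incr l = true → l.Pairwise (· < ·) := by
  intro l h
  rw [← List.isChain_iff_pairwise]
  induction l with
  | nil => exact .nil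
  | cons a l ih =>
    cases l with
    | nil => exact .singleton a
    | cons b l =>
      simp only [incr, Bool.and_eq_true, decide_eq_true_eq] at h
      exact .cons_cons h.1 (ih h.2)

/-- One summand of a shifted mask action. -/
def shift1 (v : ℕ) (p : ℕ × ℕ × ℕ) : ℕ := ((v &&& p.1) <<< p.2.1) >>> p.2.2

/-- A generator acting through masks and shifts. -/
def opG (L : List (ℕ × ℕ × ℕ)) (v : ℕ) : ℕ := L.foldl (fun acc p => acc ^^^ shift1 v p) v

theorem shift1_xor (v v' : ℕ) (p : ℕ × ℕ × ℕ) :
    shift1 (v ^^^ v') p = shift1 v p ^^^ shift1 v' p := by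
  apply Nat.eq_of_testBit_eq
  intro i
  simp only [shift1, Nat.testBit_shiftRight, Nat.testBit_shiftLeft, Nat.testBit_and, Nat.testBit_xor]
  cases decide (p.2.1 ≤ p.2.2 + i) <;> cases v.testBit (p.2.2 + i - p.2.1) <;>
    cases v'.testBit (p.2.2 + i - p.2.1) <;> simp

theorem opG_xor_aux (v v' : ℕ) : ∀ (L : List (ℕ × ℕ × ℕ)) (a a' : ℕ),
    L.foldl (fun acc p => acc ^^^ shift1 (v ^^^ v') p) (a ^^^ a') =
      L.foldl (fun acc p => acc ^^^ shift1 v p) a ^^^ L.foldl (fun acc p => acc ^^^ shift1 v' p) a' := by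
  intro L
  induction L with
  | nil => simp
  | cons p L ih =>
    intro a a'
    rw [List.foldl_cons, List.foldl_cons, List.foldl_cons, ← ih, shift1_xor]
    congr 1
    ac_rfl

theorem opG_xor (L : List (ℕ × ℕ × ℕ)) (v v' : ℕ) : opG L (v ^^^ v') = opG L v ^^^ opG L v' :=
  opG_xor_aux v v' L v v'

theorem opL_xor_aux (v v' : ℕ) : ∀ (L : List (ℕ × ℕ)) (a a' : ℕ),
    L.foldl (fun acc p => acc ^^^ flip1 (v ^^^ v') p) (a ^^^ a') =
      L.foldl (fun acc p => acc ^^^ flip1 v p) a ^^^ L.foldl (fun acc p => acc ^^^ flip1 v' p) a' := by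
  intro L
  induction L with
  | nil => simp
  | cons p L ih =>
    intro a a'
    have h : flip1 (v ^^^ v') p = flip1 v p ^^^ flip1 v' p := by
      simp only [flip1, Nat.testBit_xor]
      cases v.testBit p.1 <;> cases v'.testBit p.1 <;> simp
    rw [List.foldl_cons, List.foldl_cons, List.foldl_cons, ← ih, h]
    congr 1
    ac_rfl

theorem opW_xor : ∀ (w : List ℕ) (v v' : ℕ), opW w (v ^^^ v') = opW w v ^^^ opW w v' := by
  intro w
  induction w with
  | nil => simp [opW]
  | cons r w ih =>
    intro v v'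
    have h := ih (opL (TitsCert.supp r) v) (opL (TitsCert.supp r) v')
    rw [← show opL (TitsCert.supp r) (v ^^^ v') = opL (TitsCert.supp r) v ^^^ opL (TitsCert.supp r) v'
      from opL_xor_aux v v' _ v v'] at h
    simpa [opW] using h

theorem basis_induction {P : ℕ → Prop} (h0 : P 0) (hx : ∀ a b, P a → P b → P (a ^^^ b)) :
    ∀ n : ℕ, (∀ i < n, P (2 ^ i)) → ∀ v < 2 ^ n, P v := by
  intro n
  induction n with
  | zero => intro _ v hv; simp only [pow_zero, Nat.lt_one_iff] at hv; exact hv ▸ h0
  | succ n ih =>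
    intro hb v hv
    have hlow : P (v % 2 ^ n) :=
      ih (fun i hi => hb i (Nat.lt_succ_of_lt hi)) _ (Nat.mod_lt _ (Nat.two_pow_pos n))
    by_cases h : v.testBit n = true
    · have e : v = v % 2 ^ n ^^^ 2 ^ n := by
        apply Nat.eq_of_testBit_eq
        intro i
        rw [Nat.testBit_xor, Nat.testBit_mod_two_pow, Nat.testBit_two_pow]
        rcases lt_trichotomy i n with hi | hi | hi
        · simp [hi, hi.ne']
        · subst hi; simp [h]
        · have : v.testBit i = false :=
            Nat.testBit_lt_two_pow (lt_of_lt_of_le hv (Nat.pow_le_pow_right (by norm_num) hi))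
          simp [this, hi.ne, not_lt.2 hi.le]
      rw [e]
      exact hx _ _ hlow (hb n (Nat.lt_succ_self n))
    · have e : v = v % 2 ^ n := by
        apply Nat.eq_of_testBit_eq
        intro i
        rw [Nat.testBit_mod_two_pow]
        rcases lt_trichotomy i n with hi | hi | hi
        · simp [hi]
        · subst hi; simp [h]
        · have : v.testBit i = false :=
            Nat.testBit_lt_two_pow (lt_of_lt_of_le hv (Nat.pow_le_pow_right (by norm_num) hi))
          simp [this]
      rw [e]
      exact hlow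

theorem shifts_basis : ∀ l < 3, ∀ i < 52, opG (TitsCert.shifts l) (2 ^ i) = opW (letter l) (2 ^ i) ∧
    opG (TitsCert.shifts l) (2 ^ i) < 2 ^ 52 := by decide +kernel

theorem shifts_eq {l : ℕ} {v : ℕ} (hv : v < 2 ^ 52) :
    opG (TitsCert.shifts l) v = opW (letter l) v ∧ opG (TitsCert.shifts l) v < 2 ^ 52 := by
  obtain ⟨l', hl', e1, e2⟩ : ∃ l' < 3, TitsCert.shifts l = TitsCert.shifts l' ∧ letter l = letter l' := by
    rcases l with _ | _ | l
    · exact ⟨0, by norm_num, rfl, rfl⟩
    · exact ⟨1, by norm_num, rfl, rfl⟩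
    · exact ⟨2, by norm_num, rfl, rfl⟩
  rw [e1, e2]
  refine basis_induction (P := fun v => opG (TitsCert.shifts l') v = opW (letter l') v ∧
    opG (TitsCert.shifts l') v < 2 ^ 52) ?_ ?_ 52 (shifts_basis l' hl') v hv
  · have h := opG_xor (TitsCert.shifts l') 0 0
    have h' := opW_xor (letter l') 0 0
    rw [Nat.xor_self, Nat.xor_self] at h h'
    exact ⟨h.trans h'.symm, by rw [h]; norm_num⟩
  · intro a b ha hb
    rw [opG_xor, opW_xor, ha.1, hb.1]
    exact ⟨rfl, Nat.xor_lt_two_pow (ha.1 ▸ ha.2) (hb.1 ▸ hb.2)⟩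

/-- The action of a list of letters. -/
def opLetters (ls : List ℕ) (v : ℕ) : ℕ := ls.foldl (fun v l => opG (TitsCert.shifts l) v) v

theorem opLetters_eq : ∀ (ls : List ℕ) (v : ℕ), v < 2 ^ 52 →
    opLetters ls v = opW (ls.flatMap letter) v ∧ opLetters ls v < 2 ^ 52 := by
  intro ls
  induction ls with
  | nil => intro v hv; simpa [opLetters, opW] using hv
  | cons l ls ih =>
    intro v hv
    obtain ⟨h1, h2⟩ := shifts_eq (l := l) hv
    obtain ⟨h3, h4⟩ := ih _ h2
    refine ⟨?_, by simpa [opLetters] using h4⟩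
    rw [h1] at h3
    simpa [opLetters, opW, h1] using h3

/-- The reference vector. -/
def v0 : ℕ := 2 ^ 33

theorem v0_lt : v0 < 2 ^ 52 := by decide +kernel

/-- The check of one chunk of the certificate. -/
def chunkOk (p : List ℕ × List ℕ) : Bool :=
  (p.1.map fun c => opLetters (decode 16 c) v0) == p.2 &&
    (p.1.zip p.2).all fun q => parity q.1 % 2 == 0 || opLetters (decode 16 q.1) q.2 != v0

theorem sameWord_a : sameWord ra
    (ran.reverse ++ (ra ++ rb ++ ra).reverse ++ ran ++ (ra ++ rb ++ ra) ++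
      ((ra ++ rb ++ ra).reverse ++ (ran ++ rbn).reverse ++ (ra ++ rb ++ ra) ++ (ran ++ rbn))) = true := by
  decide +kernel

theorem sameWord_c : sameWord (rb ++ rb)
    ((ra ++ rb ++ ra).reverse ++ (ran ++ rb ++ rb).reverse ++ (ra ++ rb ++ ra) ++ (ran ++ rb ++ rb) ++
      ((ran ++ rb).reverse ++ (ra ++ rb.reverse ++ ra).reverse ++ (ran ++ rb) ++ (ra ++ rb.reverse ++ ra))) = true := by
  decide +kernel

theorem sameWord_e : sameWord re ((ra ++ ran ++ ra) ++ rb ++ (ra ++ ran ++ ra).reverse) = true := by
  decide +kernel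

theorem chunks_incr : incr (TitsCert.chunks.flatMap Prod.snd) = true := by decide +kernel

theorem chunks_length : (TitsCert.chunks.flatMap Prod.snd).length = 4096 := by decide +kernel

theorem pos_used : ∀ r ∈ ra ++ rb ++ re, chevF4.IsPosRoot r := by decide +kernel

theorem x_zero {r : ℕ} (hr : r = 17 ∨ r = 30) : chevF4.x (ZMod 2) r 0 = 1 := by
  have h : ∀ L : List (ℕ × ℕ), L = [] → (1 : Matrix chevF4.Idx chevF4.Idx (ZMod 2)) + (L.map elem).sum = 1 := by
    rintro L rfl; simp
  rcases hr with rfl | rfl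
  · exact (x_eq_of_entries zero17).trans (h _ rfl)
  · exact (x_eq_of_entries zero30).trans (h _ rfl)

end CfsgLib.Chevalley.TitsInv
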