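import Cfsg.Agent.Lib.Chevalley.Datum
import Cfsg.Agent.Lib.Chevalley.Commutator

/-!
Words in root elements, the diagonal subgroup and the monomial subgroup.
-/

set_option autoImplicit false

namespace CfsgLib.Chevalley.Tbl

theorem zpow_sum_eq {M ι : Type*} [CommGroup M] (c : M) (f : ι → ℤ) (S : Finset ι) :
    c ^ (∑ i ∈ S, f i) = ∏ i ∈ S, c ^ f i := by
  classical
  induction S using Finset.induction with
  | empty => simp
  | @insert a S ha ih => rw [Finset.sum_insert ha, Finset.prod_insert ha, _root_.zpow_add, ih]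

variable {T : Tbl} {F : Type*} [Field F] (hT : T.Valid)
include hT

theorem commT_lt {r s : ℕ} (hr : r < T.n) (hs : s < T.n) : ∀ c ∈ T.commT r s, c.1 < T.n := by
  intro c hc
  have key : ∀ {a b k v : ℕ}, a < T.n → b < T.n → (T.chain a b k).map Prod.fst = some v → v < T.n := by
    intro a b k v ha hb h
    obtain ⟨p, hp, rfl⟩ := Option.map_eq_some_iff.mp h
    exact chain_bound hT ha hb k p.1 p.2 hp
  simp only [commT, List.mem_filterMap, List.mem_cons, List.not_mem_nil, or_false] at hc
  obtain ⟨p, hp, h⟩ := hc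
  obtain ⟨v, hv, rfl⟩ := Option.map_eq_some_iff.mp h
  rcases hp with rfl | rfl | rfl | rfl | rfl | rfl | rfl
  · exact key hr hs hv
  · exact key hr hs hv
  · exact key hs hr hv
  · exact key hr hs hv
  · exact key hs hr hv
  · obtain ⟨w, hw, hw'⟩ := Option.bind_eq_some_iff.mp hv
    exact key (key hr hs hw) hs hw'
  · obtain ⟨w, hw, hw'⟩ := Option.bind_eq_some_iff.mp hv
    exact key (key hs hr hw) hr hw'

theorem wordMat_eq (w : List (ℕ × F)) (hw : ∀ p ∈ w, p.1 < T.n) :
    T.datum.wordMat F w =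
      (((w.map fun p => T.xU F p.1 p.2).prod : GL T.I F) : Matrix T.I T.I F) := by
  induction w with
  | nil => simp [Cfsg.Lie.ChevalleyDatum.wordMat]
  | cons p w ih =>
    have hp := hw p List.mem_cons_self
    have h := ih fun q hq => hw q (List.mem_cons_of_mem _ hq)
    simp only [Cfsg.Lie.ChevalleyDatum.wordMat, List.map_cons, List.prod_cons, Units.val_mul] at h ⊢
    rw [h, x_eq_val hT hp]

/-- The commutator formula as in the statement. -/
theorem comm_x (hC : T.chkComm = true) {r s : ℕ} (hr : r < T.n) (hs : s < T.n) (hrs : s ≠ r)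
    (hneg : s ≠ T.neg r) (t u : F) :
    T.datum.x F s u * T.datum.x F r t =
      T.datum.x F r t * T.datum.x F s u * T.datum.wordMat F (T.datum.commWord F r s t u) := by
  rw [x_eq hT F hr, x_eq hT F hs]
  have h := comm_formula hT hC hr hs hrs hneg t u
  unfold Comm at h
  rw [h]
  congr 1
  simp only [wordX, Cfsg.Lie.ChevalleyDatum.commWord, Cfsg.Lie.ChevalleyDatum.wordMat,
    datum_commTerms hT hr hs, List.map_map]
  congr 1
  refine List.map_congr_left fun c hc => ?_
  simp only [Function.comp]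
  rw [x_eq hT F (commT_lt hT hr hs c hc)]
  congr 1
  push_cast
  rw [neg_pow t]
  ring

/-- `h` of a negative root. -/
theorem hCh_neg {r : ℕ} (hr : r < T.n) (c : Fˣ) (s : ℕ) : T.hCh (T.neg r) c s = T.hCh r c⁻¹ s := by
  simp only [hCh]
  rw [inv_zpow', pair_eq_sum, pair_eq_sum, ← Finset.sum_neg_distrib]
  exact congrArg (c ^ ·) (Finset.sum_congr rfl fun k _ => by rw [cv_neg hT hr k.2]; ring)

theorem nU_conj_neg {r : ℕ} (hr : r < T.n) (t : F) :
    T.nU F r 1 * T.xU F (T.neg r) t = T.xU F r (-t) * T.nU F r 1 := by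
  have h1 : T.nU F r 1 * T.nU F r 1 * T.xU F r (-t) =
      T.xU F r (-t) * (T.nU F r 1 * T.nU F r 1) := by
    rw [nU_sq hT hr, dU_hCh_xU hT hr (-1) hr, pair_self hT hr]
    norm_num
  rw [mul_assoc, nU_conj hT hr, neg_neg, ← mul_assoc, ← mul_assoc] at h1
  exact mul_right_cancel h1

theorem nU_dU_hCh {r : ℕ} (hr : r < T.n) (c : Fˣ) :
    T.nU F r 1 * T.dU (T.hCh r c) = T.dU (T.hCh r c⁻¹) * T.nU F r 1 := by
  have hn := neg_lt' hr
  have hconj : T.nU F r 1 * T.nU F r (c : F) = T.nU F (T.neg r) (-(c : F)) * T.nU F r 1 := by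
    refine nU_congr hT hr (T.nU F r 1) (fun u => -u) (fun u => -u) (T.neg r) (nU_conj hT hr) ?_ ?_
    · intro t; rw [neg_neg' hr]; exact nU_conj_neg hT hr t
    · simp [inv_neg]
  rw [nU_t hT hr c, show (-(c : F)) = ((-c : Fˣ) : F) from rfl, nU_t hT hn] at hconj
  have hsame : T.nU F r 1 * T.nU F r 1 = T.nU F (T.neg r) (-1 : F) * T.nU F r 1 :=
    nU_congr hT hr (T.nU F r 1) (fun u => -u) (fun u => -u) (T.neg r) (nU_conj hT hr)
      (fun t => by rw [neg_neg' hr]; exact nU_conj_neg hT hr t) (by simp [inv_neg])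
  rw [show (-1 : F) = ((-1 : Fˣ) : F) by simp, nU_t hT hn] at hsame
  have hn1 : T.nU F (T.neg r) 1 = T.dU (T.hCh (T.neg r) (-1)) * T.nU F r 1 := by
    have e : T.nU F r 1 = T.dU (T.hCh (T.neg r) (-1)) * T.nU F (T.neg r) 1 := mul_right_cancel hsame
    conv_rhs => rw [e]
    rw [← mul_assoc, dU_mul, hCh_mul, neg_one_mul, neg_neg, hCh_one, dU_one, one_mul]
  rw [hn1, ← mul_assoc (T.dU (T.hCh (T.neg r) (-c))), dU_mul, hCh_mul, neg_mul_neg, mul_one,
    ← mul_assoc, show T.dU (T.hCh (T.neg r) c) = T.dU (T.hCh r c⁻¹) from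
      dU_congr fun s _ => hCh_neg hT hr c s] at hconj
  exact mul_right_cancel hconj

/-- The element of `H` with given parameters at the fundamental roots. -/
theorem mem_diag_iff {g : GL T.I F} :
    g ∈ T.datum.diagonalSubgroup F ↔
      ∃ f : Fin T.rank → Fˣ, g = T.dU fun s => ∏ i, f i ^ T.ca i s := by
  rw [diagonalSubgroup_eq hT]
  constructor
  · intro hg
    induction hg using Subgroup.closure_induction with
    | mem x hx =>
      obtain ⟨r, hr, c, rfl⟩ := hx
      refine ⟨fun i => c ^ T.cv r i, dU_congr fun s _ => ?_⟩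
      simp only [hCh, ← zpow_mul, pair_eq_sum]
      exact zpow_sum_eq _ _ _
    | one => exact ⟨1, by rw [← dU_one]; exact dU_congr fun s _ => by simp⟩
    | mul x y _ _ hx hy =>
      obtain ⟨f, rfl⟩ := hx; obtain ⟨f', rfl⟩ := hy
      refine ⟨f * f', ?_⟩
      rw [dU_mul]
      exact dU_congr fun s _ => by simp [mul_zpow, Finset.prod_mul_distrib]
    | inv x _ hx =>
      obtain ⟨f, rfl⟩ := hx
      exact ⟨f⁻¹, by rw [dU_inv]; exact dU_congr fun s _ => by simp [inv_zpow, Finset.prod_inv_distrib]⟩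
  · rintro ⟨f, rfl⟩
    have h : ∀ S : Finset (Fin T.rank), (T.dU fun s => ∏ i ∈ S, f i ^ T.ca i s : GL T.I F) ∈
        Subgroup.closure {g : GL T.I F | ∃ r < T.n, ∃ c : Fˣ, g = T.dU (T.hCh r c)} := by
      intro S
      induction S using Finset.induction with
      | empty =>
        rw [show (T.dU fun s => ∏ i ∈ (∅ : Finset (Fin T.rank)), f i ^ T.ca i s : GL T.I F) = 1 by
          rw [← dU_one]; exact dU_congr fun s _ => by simp]
        exact one_mem _
      | @insert a S ha ih =>
        have : (T.dU fun s => ∏ i ∈ insert a S, f i ^ T.ca i s : GL T.I F) =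
            T.dU (T.hCh (T.simple a) (f a)) * T.dU fun s => ∏ i ∈ S, f i ^ T.ca i s := by
          rw [dU_mul]
          exact dU_congr fun s _ => by simp [Finset.prod_insert ha, hCh, pair_simple hT a.2]
        rw [this]
        exact mul_mem (Subgroup.subset_closure ⟨_, simple_lt hT a.2, _, rfl⟩) ih
    exact h Finset.univ

/-- The fundamental `n`'s generate all of them modulo nothing. -/
theorem nU_mem_simple {r : ℕ} (hr : r < T.n) :
    T.nU F r 1 ∈ Subgroup.closure {x : GL T.I F | ∃ j < T.rank, x = T.nU F (T.simple j) 1} := by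
  obtain ⟨i, hi, g, e, hg, ⟨he, h1, h2⟩, -⟩ := exists_carries (F := F) hT r hr
  have hn : g * T.nU F (T.simple i) e = T.nU F r (e * e) * g :=
    nU_congr hT (simple_lt hT hi) g (fun u => e * u) (fun u => e * u) r h1 h2 (by
      rcases he with rfl | rfl <;> simp)
  have hee : e * e = 1 := by rcases he with rfl | rfl <;> norm_num
  rw [hee] at hn
  have : T.nU F r 1 = g * T.nU F (T.simple i) e * g⁻¹ := by rw [hn, mul_inv_cancel_right]
  rw [this]
  refine mul_mem (mul_mem hg ?_) (inv_mem hg)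
  rcases he with rfl | rfl
  · exact Subgroup.subset_closure ⟨i, hi, rfl⟩
  · rw [nU_neg_one hT (simple_lt hT hi)]; exact inv_mem (Subgroup.subset_closure ⟨i, hi, rfl⟩)

/-- The fundamental `n`'s normalize `H`. -/
theorem nU_simple_conj_diag {i : ℕ} (hi : i < T.rank) {g : GL T.I F}
    (hg : g ∈ T.datum.diagonalSubgroup F) :
    T.nU F (T.simple i) 1 * g * (T.nU F (T.simple i) 1)⁻¹ ∈ T.datum.diagonalSubgroup F ∧
      (T.nU F (T.simple i) 1)⁻¹ * g * T.nU F (T.simple i) 1 ∈ T.datum.diagonalSubgroup F := by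
  rw [diagonalSubgroup_eq hT] at hg ⊢
  induction hg using Subgroup.closure_induction with
  | mem x hx =>
    obtain ⟨r, hr, c, rfl⟩ := hx
    have e : ∀ u < T.n, T.nU F (T.simple i) 1 * T.dU (T.hCh u c) =
        T.dU (T.hCh (T.refl i u) c) * T.nU F (T.simple i) 1 := by
      intro u hu
      rw [nU_simple_dU hT hi]
      congr 1
      exact dU_congr fun v hv => by simp only [hCh]; rw [pair_refl hT hi hu hv]
    constructor
    · exact Subgroup.subset_closure ⟨_, refl_lt hT hi hr, c, by rw [e r hr, mul_inv_cancel_right]⟩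
    · refine Subgroup.subset_closure ⟨_, refl_lt hT hi hr, c, ?_⟩
      have := e _ (refl_lt hT hi hr)
      rw [refl_refl hT hi hr] at this
      rw [mul_assoc, ← this, inv_mul_cancel_left]
  | one => simp
  | mul x y _ _ hx hy =>
    exact ⟨by simpa [mul_assoc] using mul_mem hx.1 hy.1, by simpa [mul_assoc] using mul_mem hx.2 hy.2⟩
  | inv x _ hx =>
    exact ⟨by simpa [mul_assoc] using inv_mem hx.1, by simpa [mul_assoc] using inv_mem hx.2⟩

theorem monomial_le_normalizer :
    T.datum.monomialSubgroup F ≤ Subgroup.normalizer (T.datum.diagonalSubgroup F : Set (GL T.I F)) := by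
  have hs : Subgroup.closure {x : GL T.I F | ∃ j < T.rank, x = T.nU F (T.simple j) 1} ≤
      Subgroup.normalizer (T.datum.diagonalSubgroup F : Set (GL T.I F)) := by
    rw [Subgroup.closure_le]
    rintro _ ⟨j, hj, rfl⟩
    refine Subgroup.mem_normalizer_iff.mpr fun g => ⟨fun hg => (nU_simple_conj_diag hT hj hg).1, fun hg => ?_⟩
    have := (nU_simple_conj_diag hT hj hg).2
    simpa [mul_assoc] using this
  rw [monomialSubgroup_eq hT]
  refine sup_le Subgroup.le_normalizer ((Subgroup.closure_le _).mpr ?_)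
  rintro _ ⟨r, hr, rfl⟩
  exact hs (nU_mem_simple hT hr)

end CfsgLib.Chevalley.Tbl
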